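import Cfsg.Agent.Lib.InvCoset.Word

/-!
# The relators of the O'Nan presentation as words
-/

set_option autoImplicit false
set_option maxHeartbeats 0
set_option maxRecDepth 100000

noncomputable section

namespace Cfsg.Agent.ONTable

open Cfsg.Agent.InvCoset

/-- The inverse letters: six involutions, then a letter and its inverse. -/
def iv : ℕ := 0x67543210

/-- The relators of the presentation other than the squares. -/
def W0 : List (List ℕ) := [[0, 1, 0, 1, 0, 1],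
  [0, 2, 0, 2],
  [0, 3, 0, 3],
  [0, 4, 0, 4],
  [0, 5, 0, 5],
  [1, 2, 1, 2, 1, 2],
  [1, 3, 1, 3],
  [1, 4, 1, 4],
  [1, 5, 1, 5],
  [2, 3, 2, 3, 2, 3, 2, 3, 2, 3, 2, 3, 2, 3, 2, 3],
  [2, 4, 2, 4],
  [2, 5, 2, 5],
  [3, 4, 3, 4, 3, 4],
  [3, 5, 3, 5],
  [4, 5, 4, 5, 4, 5],
  [0, 5, 7, 7],
  [0, 5, 3, 2, 3, 2, 3, 2, 3, 2],
  [2, 7, 3, 7, 3, 2, 3, 6, 3, 6],
  [3, 7, 2, 7, 2, 3, 2, 6, 2, 6],
  [1, 2, 3, 6, 1, 2, 3, 6, 1, 2, 3, 6, 1, 2, 3, 6, 1, 2, 3, 6],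
  [6, 1, 2, 6, 2, 1, 6, 1, 2, 6, 2],
  [6, 4, 3, 6, 3, 4, 6, 4, 3, 6, 3]]

/-- The squares of the involutions. -/
def Wsq : List (List ℕ) := [[0, 0],
  [1, 1],
  [2, 2],
  [3, 3],
  [4, 4],
  [5, 5],
  [6, 7]]

/-- Two derived relators. -/
def Wder : List (List ℕ) := [[0, 6, 0, 7],
  [5, 6, 5, 7],
  [6, 6, 6, 6]]

end Cfsg.Agent.ONTable
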