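import Cfsg.Agent.Lib.ONTable.Data

/-!
# A part of the check of the table
-/

set_option autoImplicit false
set_option maxHeartbeats 0
set_option maxRecDepth 100000

noncomputable section

namespace Cfsg.Agent.ONTable

open Cfsg.Agent.InvCoset

theorem rels8184 : table.relsChk W0 8184 256 = true := by decide +kernel

theorem rels8440 : table.relsChk W0 8440 256 = true := by decide +kernel

theorem rels8696 : table.relsChk W0 8696 256 = true := by decide +kernel

theorem rels8952 : table.relsChk W0 8952 256 = true := by decide +kernel

theorem rels9208 : table.relsChk W0 9208 256 = true := by decide +kernel

theorem rels9464 : table.relsChk W0 9464 256 = true := by decide +kernel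

theorem rels9720 : table.relsChk W0 9720 256 = true := by decide +kernel

theorem rels9976 : table.relsChk W0 9976 256 = true := by decide +kernel

theorem rels10232 : table.relsChk W0 10232 256 = true := by decide +kernel

theorem rels10488 : table.relsChk W0 10488 256 = true := by decide +kernel

theorem rels10744 : table.relsChk W0 10744 256 = true := by decide +kernel

theorem rels11000 : table.relsChk W0 11000 256 = true := by decide +kernel

theorem rels11256 : table.relsChk W0 11256 256 = true := by decide +kernel

theorem rels11512 : table.relsChk W0 11512 256 = true := by decide +kernel

theorem rels11768 : table.relsChk W0 11768 256 = true := by decide +kernel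

theorem rels12024 : table.relsChk W0 12024 256 = true := by decide +kernel

theorem rels12280 : table.relsChk W0 12280 256 = true := by decide +kernel

theorem rels12536 : table.relsChk W0 12536 256 = true := by decide +kernel

theorem rels12792 : table.relsChk W0 12792 256 = true := by decide +kernel

theorem rels13048 : table.relsChk W0 13048 256 = true := by decide +kernel

theorem rels13304 : table.relsChk W0 13304 256 = true := by decide +kernel

theorem rels13560 : table.relsChk W0 13560 256 = true := by decide +kernel

theorem rels13816 : table.relsChk W0 13816 256 = true := by decide +kernel

theorem rels14072 : table.relsChk W0 14072 256 = true := by decide +kernel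

theorem rels14328 : table.relsChk W0 14328 256 = true := by decide +kernel

theorem rels14584 : table.relsChk W0 14584 256 = true := by decide +kernel

theorem rels14840 : table.relsChk W0 14840 256 = true := by decide +kernel

theorem rels15096 : table.relsChk W0 15096 256 = true := by decide +kernel

theorem rels15352 : table.relsChk W0 15352 256 = true := by decide +kernel

theorem rels15608 : table.relsChk W0 15608 256 = true := by decide +kernel

theorem rels15864 : table.relsChk W0 15864 256 = true := by decide +kernel

theorem rels16120 : table.relsChk W0 16120 248 = true := by decide +kernel

theorem relsUpTo1 (h : ∀ i < 8184, table.fixWords i W0 = true) :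
    ∀ i < 16368, table.fixWords i W0 = true :=
  rels_add 16120 248 (rels_add 15864 256 (rels_add 15608 256 (rels_add 15352 256 (rels_add 15096 256 (rels_add 14840 256 (rels_add 14584 256 (rels_add 14328 256 (rels_add 14072 256 (rels_add 13816 256 (rels_add 13560 256 (rels_add 13304 256 (rels_add 13048 256 (rels_add 12792 256 (rels_add 12536 256 (rels_add 12280 256 (rels_add 12024 256 (rels_add 11768 256 (rels_add 11512 256 (rels_add 11256 256 (rels_add 11000 256 (rels_add 10744 256 (rels_add 10488 256 (rels_add 10232 256 (rels_add 9976 256 (rels_add 9720 256 (rels_add 9464 256 (rels_add 9208 256 (rels_add 8952 256 (rels_add 8696 256 (rels_add 8440 256 (rels_add 8184 256 (h) rels8184) rels8440) rels8696) rels8952) rels9208) rels9464) rels9720) rels9976) rels10232) rels10488) rels10744) rels11000) rels11256) rels11512) rels11768) rels12024) rels12280) rels12536) rels12792) rels13048) rels13304) rels13560) rels13816) rels14072) rels14328) rels14584) rels14840) rels15096) rels15352) rels15608) rels15864) rels16120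

end Cfsg.Agent.ONTable
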