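import Cfsg.Agent.Lib.ONTable.Data

/-!
# A part of the check of the table
-/

set_option autoImplicit false
set_option maxHeartbeats 0
set_option maxRecDepth 100000

noncomputable section

namespace Cfsg.Agent.ONTable

open Cfsg.Agent.InvCoset

theorem rels81840 : table.relsChk W0 81840 256 = true := by decide +kernel

theorem rels82096 : table.relsChk W0 82096 256 = true := by decide +kernel

theorem rels82352 : table.relsChk W0 82352 256 = true := by decide +kernel

theorem rels82608 : table.relsChk W0 82608 256 = true := by decide +kernel

theorem rels82864 : table.relsChk W0 82864 256 = true := by decide +kernel

theorem rels83120 : table.relsChk W0 83120 256 = true := by decide +kernel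

theorem rels83376 : table.relsChk W0 83376 256 = true := by decide +kernel

theorem rels83632 : table.relsChk W0 83632 256 = true := by decide +kernel

theorem rels83888 : table.relsChk W0 83888 256 = true := by decide +kernel

theorem rels84144 : table.relsChk W0 84144 256 = true := by decide +kernel

theorem rels84400 : table.relsChk W0 84400 256 = true := by decide +kernel

theorem rels84656 : table.relsChk W0 84656 256 = true := by decide +kernel

theorem rels84912 : table.relsChk W0 84912 256 = true := by decide +kernel

theorem rels85168 : table.relsChk W0 85168 256 = true := by decide +kernel

theorem rels85424 : table.relsChk W0 85424 256 = true := by decide +kernel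

theorem rels85680 : table.relsChk W0 85680 256 = true := by decide +kernel

theorem rels85936 : table.relsChk W0 85936 256 = true := by decide +kernel

theorem rels86192 : table.relsChk W0 86192 256 = true := by decide +kernel

theorem rels86448 : table.relsChk W0 86448 256 = true := by decide +kernel

theorem rels86704 : table.relsChk W0 86704 256 = true := by decide +kernel

theorem rels86960 : table.relsChk W0 86960 256 = true := by decide +kernel

theorem rels87216 : table.relsChk W0 87216 256 = true := by decide +kernel

theorem rels87472 : table.relsChk W0 87472 256 = true := by decide +kernel

theorem rels87728 : table.relsChk W0 87728 256 = true := by decide +kernel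

theorem rels87984 : table.relsChk W0 87984 256 = true := by decide +kernel

theorem rels88240 : table.relsChk W0 88240 256 = true := by decide +kernel

theorem rels88496 : table.relsChk W0 88496 256 = true := by decide +kernel

theorem rels88752 : table.relsChk W0 88752 256 = true := by decide +kernel

theorem rels89008 : table.relsChk W0 89008 256 = true := by decide +kernel

theorem rels89264 : table.relsChk W0 89264 256 = true := by decide +kernel

theorem rels89520 : table.relsChk W0 89520 256 = true := by decide +kernel

theorem rels89776 : table.relsChk W0 89776 248 = true := by decide +kernel

theorem relsUpTo10 (h : ∀ i < 81840, table.fixWords i W0 = true) :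
    ∀ i < 90024, table.fixWords i W0 = true :=
  rels_add 89776 248 (rels_add 89520 256 (rels_add 89264 256 (rels_add 89008 256 (rels_add 88752 256 (rels_add 88496 256 (rels_add 88240 256 (rels_add 87984 256 (rels_add 87728 256 (rels_add 87472 256 (rels_add 87216 256 (rels_add 86960 256 (rels_add 86704 256 (rels_add 86448 256 (rels_add 86192 256 (rels_add 85936 256 (rels_add 85680 256 (rels_add 85424 256 (rels_add 85168 256 (rels_add 84912 256 (rels_add 84656 256 (rels_add 84400 256 (rels_add 84144 256 (rels_add 83888 256 (rels_add 83632 256 (rels_add 83376 256 (rels_add 83120 256 (rels_add 82864 256 (rels_add 82608 256 (rels_add 82352 256 (rels_add 82096 256 (rels_add 81840 256 (h) rels81840) rels82096) rels82352) rels82608) rels82864) rels83120) rels83376) rels83632) rels83888) rels84144) rels84400) rels84656) rels84912) rels85168) rels85424) rels85680) rels85936) rels86192) rels86448) rels86704) rels86960) rels87216) rels87472) rels87728) rels87984) rels88240) rels88496) rels88752) rels89008) rels89264) rels89520) rels89776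

end Cfsg.Agent.ONTable
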