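import Cfsg.Agent.Lib.ONTable.Data

/-!
# A part of the check of the table
-/

set_option autoImplicit false
set_option maxHeartbeats 0
set_option maxRecDepth 100000

noncomputable section

namespace Cfsg.Agent.ONTable

open Cfsg.Agent.InvCoset

theorem rels90024 : table.relsChk W0 90024 256 = true := by decide +kernel

theorem rels90280 : table.relsChk W0 90280 256 = true := by decide +kernel

theorem rels90536 : table.relsChk W0 90536 256 = true := by decide +kernel

theorem rels90792 : table.relsChk W0 90792 256 = true := by decide +kernel

theorem rels91048 : table.relsChk W0 91048 256 = true := by decide +kernel

theorem rels91304 : table.relsChk W0 91304 256 = true := by decide +kernel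

theorem rels91560 : table.relsChk W0 91560 256 = true := by decide +kernel

theorem rels91816 : table.relsChk W0 91816 256 = true := by decide +kernel

theorem rels92072 : table.relsChk W0 92072 256 = true := by decide +kernel

theorem rels92328 : table.relsChk W0 92328 256 = true := by decide +kernel

theorem rels92584 : table.relsChk W0 92584 256 = true := by decide +kernel

theorem rels92840 : table.relsChk W0 92840 256 = true := by decide +kernel

theorem rels93096 : table.relsChk W0 93096 256 = true := by decide +kernel

theorem rels93352 : table.relsChk W0 93352 256 = true := by decide +kernel

theorem rels93608 : table.relsChk W0 93608 256 = true := by decide +kernel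

theorem rels93864 : table.relsChk W0 93864 256 = true := by decide +kernel

theorem rels94120 : table.relsChk W0 94120 256 = true := by decide +kernel

theorem rels94376 : table.relsChk W0 94376 256 = true := by decide +kernel

theorem rels94632 : table.relsChk W0 94632 256 = true := by decide +kernel

theorem rels94888 : table.relsChk W0 94888 256 = true := by decide +kernel

theorem rels95144 : table.relsChk W0 95144 256 = true := by decide +kernel

theorem rels95400 : table.relsChk W0 95400 256 = true := by decide +kernel

theorem rels95656 : table.relsChk W0 95656 256 = true := by decide +kernel

theorem rels95912 : table.relsChk W0 95912 256 = true := by decide +kernel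

theorem rels96168 : table.relsChk W0 96168 256 = true := by decide +kernel

theorem rels96424 : table.relsChk W0 96424 256 = true := by decide +kernel

theorem rels96680 : table.relsChk W0 96680 256 = true := by decide +kernel

theorem rels96936 : table.relsChk W0 96936 256 = true := by decide +kernel

theorem rels97192 : table.relsChk W0 97192 256 = true := by decide +kernel

theorem rels97448 : table.relsChk W0 97448 256 = true := by decide +kernel

theorem rels97704 : table.relsChk W0 97704 256 = true := by decide +kernel

theorem rels97960 : table.relsChk W0 97960 248 = true := by decide +kernel

theorem relsUpTo11 (h : ∀ i < 90024, table.fixWords i W0 = true) :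
    ∀ i < 98208, table.fixWords i W0 = true :=
  rels_add 97960 248 (rels_add 97704 256 (rels_add 97448 256 (rels_add 97192 256 (rels_add 96936 256 (rels_add 96680 256 (rels_add 96424 256 (rels_add 96168 256 (rels_add 95912 256 (rels_add 95656 256 (rels_add 95400 256 (rels_add 95144 256 (rels_add 94888 256 (rels_add 94632 256 (rels_add 94376 256 (rels_add 94120 256 (rels_add 93864 256 (rels_add 93608 256 (rels_add 93352 256 (rels_add 93096 256 (rels_add 92840 256 (rels_add 92584 256 (rels_add 92328 256 (rels_add 92072 256 (rels_add 91816 256 (rels_add 91560 256 (rels_add 91304 256 (rels_add 91048 256 (rels_add 90792 256 (rels_add 90536 256 (rels_add 90280 256 (rels_add 90024 256 (h) rels90024) rels90280) rels90536) rels90792) rels91048) rels91304) rels91560) rels91816) rels92072) rels92328) rels92584) rels92840) rels93096) rels93352) rels93608) rels93864) rels94120) rels94376) rels94632) rels94888) rels95144) rels95400) rels95656) rels95912) rels96168) rels96424) rels96680) rels96936) rels97192) rels97448) rels97704) rels97960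

end Cfsg.Agent.ONTable
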