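import Cfsg.Agent.Lib.ONTable.Data

/-!
# A part of the check of the table
-/

set_option autoImplicit false
set_option maxHeartbeats 0
set_option maxRecDepth 100000

noncomputable section

namespace Cfsg.Agent.ONTable

open Cfsg.Agent.InvCoset

theorem rels106392 : table.relsChk W0 106392 256 = true := by decide +kernel

theorem rels106648 : table.relsChk W0 106648 256 = true := by decide +kernel

theorem rels106904 : table.relsChk W0 106904 256 = true := by decide +kernel

theorem rels107160 : table.relsChk W0 107160 256 = true := by decide +kernel

theorem rels107416 : table.relsChk W0 107416 256 = true := by decide +kernel

theorem rels107672 : table.relsChk W0 107672 256 = true := by decide +kernel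

theorem rels107928 : table.relsChk W0 107928 256 = true := by decide +kernel

theorem rels108184 : table.relsChk W0 108184 256 = true := by decide +kernel

theorem rels108440 : table.relsChk W0 108440 256 = true := by decide +kernel

theorem rels108696 : table.relsChk W0 108696 256 = true := by decide +kernel

theorem rels108952 : table.relsChk W0 108952 256 = true := by decide +kernel

theorem rels109208 : table.relsChk W0 109208 256 = true := by decide +kernel

theorem rels109464 : table.relsChk W0 109464 256 = true := by decide +kernel

theorem rels109720 : table.relsChk W0 109720 256 = true := by decide +kernel

theorem rels109976 : table.relsChk W0 109976 256 = true := by decide +kernel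

theorem rels110232 : table.relsChk W0 110232 256 = true := by decide +kernel

theorem rels110488 : table.relsChk W0 110488 256 = true := by decide +kernel

theorem rels110744 : table.relsChk W0 110744 256 = true := by decide +kernel

theorem rels111000 : table.relsChk W0 111000 256 = true := by decide +kernel

theorem rels111256 : table.relsChk W0 111256 256 = true := by decide +kernel

theorem rels111512 : table.relsChk W0 111512 256 = true := by decide +kernel

theorem rels111768 : table.relsChk W0 111768 256 = true := by decide +kernel

theorem rels112024 : table.relsChk W0 112024 256 = true := by decide +kernel

theorem rels112280 : table.relsChk W0 112280 256 = true := by decide +kernel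

theorem rels112536 : table.relsChk W0 112536 256 = true := by decide +kernel

theorem rels112792 : table.relsChk W0 112792 256 = true := by decide +kernel

theorem rels113048 : table.relsChk W0 113048 256 = true := by decide +kernel

theorem rels113304 : table.relsChk W0 113304 256 = true := by decide +kernel

theorem rels113560 : table.relsChk W0 113560 256 = true := by decide +kernel

theorem rels113816 : table.relsChk W0 113816 256 = true := by decide +kernel

theorem rels114072 : table.relsChk W0 114072 256 = true := by decide +kernel

theorem rels114328 : table.relsChk W0 114328 248 = true := by decide +kernel

theorem relsUpTo13 (h : ∀ i < 106392, table.fixWords i W0 = true) :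
    ∀ i < 114576, table.fixWords i W0 = true :=
  rels_add 114328 248 (rels_add 114072 256 (rels_add 113816 256 (rels_add 113560 256 (rels_add 113304 256 (rels_add 113048 256 (rels_add 112792 256 (rels_add 112536 256 (rels_add 112280 256 (rels_add 112024 256 (rels_add 111768 256 (rels_add 111512 256 (rels_add 111256 256 (rels_add 111000 256 (rels_add 110744 256 (rels_add 110488 256 (rels_add 110232 256 (rels_add 109976 256 (rels_add 109720 256 (rels_add 109464 256 (rels_add 109208 256 (rels_add 108952 256 (rels_add 108696 256 (rels_add 108440 256 (rels_add 108184 256 (rels_add 107928 256 (rels_add 107672 256 (rels_add 107416 256 (rels_add 107160 256 (rels_add 106904 256 (rels_add 106648 256 (rels_add 106392 256 (h) rels106392) rels106648) rels106904) rels107160) rels107416) rels107672) rels107928) rels108184) rels108440) rels108696) rels108952) rels109208) rels109464) rels109720) rels109976) rels110232) rels110488) rels110744) rels111000) rels111256) rels111512) rels111768) rels112024) rels112280) rels112536) rels112792) rels113048) rels113304) rels113560) rels113816) rels114072) rels114328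

end Cfsg.Agent.ONTable
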