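import Cfsg.Agent.Lib.ONTable.Data

/-!
# A part of the check of the table
-/

set_option autoImplicit false
set_option maxHeartbeats 0
set_option maxRecDepth 100000

noncomputable section

namespace Cfsg.Agent.ONTable

open Cfsg.Agent.InvCoset

theorem rels114576 : table.relsChk W0 114576 256 = true := by decide +kernel

theorem rels114832 : table.relsChk W0 114832 256 = true := by decide +kernel

theorem rels115088 : table.relsChk W0 115088 256 = true := by decide +kernel

theorem rels115344 : table.relsChk W0 115344 256 = true := by decide +kernel

theorem rels115600 : table.relsChk W0 115600 256 = true := by decide +kernel

theorem rels115856 : table.relsChk W0 115856 256 = true := by decide +kernel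

theorem rels116112 : table.relsChk W0 116112 256 = true := by decide +kernel

theorem rels116368 : table.relsChk W0 116368 256 = true := by decide +kernel

theorem rels116624 : table.relsChk W0 116624 256 = true := by decide +kernel

theorem rels116880 : table.relsChk W0 116880 256 = true := by decide +kernel

theorem rels117136 : table.relsChk W0 117136 256 = true := by decide +kernel

theorem rels117392 : table.relsChk W0 117392 256 = true := by decide +kernel

theorem rels117648 : table.relsChk W0 117648 256 = true := by decide +kernel

theorem rels117904 : table.relsChk W0 117904 256 = true := by decide +kernel

theorem rels118160 : table.relsChk W0 118160 256 = true := by decide +kernel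

theorem rels118416 : table.relsChk W0 118416 256 = true := by decide +kernel

theorem rels118672 : table.relsChk W0 118672 256 = true := by decide +kernel

theorem rels118928 : table.relsChk W0 118928 256 = true := by decide +kernel

theorem rels119184 : table.relsChk W0 119184 256 = true := by decide +kernel

theorem rels119440 : table.relsChk W0 119440 256 = true := by decide +kernel

theorem rels119696 : table.relsChk W0 119696 256 = true := by decide +kernel

theorem rels119952 : table.relsChk W0 119952 256 = true := by decide +kernel

theorem rels120208 : table.relsChk W0 120208 256 = true := by decide +kernel

theorem rels120464 : table.relsChk W0 120464 256 = true := by decide +kernel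

theorem rels120720 : table.relsChk W0 120720 256 = true := by decide +kernel

theorem rels120976 : table.relsChk W0 120976 256 = true := by decide +kernel

theorem rels121232 : table.relsChk W0 121232 256 = true := by decide +kernel

theorem rels121488 : table.relsChk W0 121488 256 = true := by decide +kernel

theorem rels121744 : table.relsChk W0 121744 256 = true := by decide +kernel

theorem rels122000 : table.relsChk W0 122000 256 = true := by decide +kernel

theorem rels122256 : table.relsChk W0 122256 256 = true := by decide +kernel

theorem rels122512 : table.relsChk W0 122512 248 = true := by decide +kernel

theorem relsUpTo14 (h : ∀ i < 114576, table.fixWords i W0 = true) :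
    ∀ i < 122760, table.fixWords i W0 = true :=
  rels_add 122512 248 (rels_add 122256 256 (rels_add 122000 256 (rels_add 121744 256 (rels_add 121488 256 (rels_add 121232 256 (rels_add 120976 256 (rels_add 120720 256 (rels_add 120464 256 (rels_add 120208 256 (rels_add 119952 256 (rels_add 119696 256 (rels_add 119440 256 (rels_add 119184 256 (rels_add 118928 256 (rels_add 118672 256 (rels_add 118416 256 (rels_add 118160 256 (rels_add 117904 256 (rels_add 117648 256 (rels_add 117392 256 (rels_add 117136 256 (rels_add 116880 256 (rels_add 116624 256 (rels_add 116368 256 (rels_add 116112 256 (rels_add 115856 256 (rels_add 115600 256 (rels_add 115344 256 (rels_add 115088 256 (rels_add 114832 256 (rels_add 114576 256 (h) rels114576) rels114832) rels115088) rels115344) rels115600) rels115856) rels116112) rels116368) rels116624) rels116880) rels117136) rels117392) rels117648) rels117904) rels118160) rels118416) rels118672) rels118928) rels119184) rels119440) rels119696) rels119952) rels120208) rels120464) rels120720) rels120976) rels121232) rels121488) rels121744) rels122000) rels122256) rels122512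

end Cfsg.Agent.ONTable
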