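import Cfsg.Agent.Lib.ONTable.Data

/-!
# A part of the check of the table
-/

set_option autoImplicit false
set_option maxHeartbeats 0
set_option maxRecDepth 100000

noncomputable section

namespace Cfsg.Agent.ONTable

open Cfsg.Agent.InvCoset

theorem rels16368 : table.relsChk W0 16368 256 = true := by decide +kernel

theorem rels16624 : table.relsChk W0 16624 256 = true := by decide +kernel

theorem rels16880 : table.relsChk W0 16880 256 = true := by decide +kernel

theorem rels17136 : table.relsChk W0 17136 256 = true := by decide +kernel

theorem rels17392 : table.relsChk W0 17392 256 = true := by decide +kernel

theorem rels17648 : table.relsChk W0 17648 256 = true := by decide +kernel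

theorem rels17904 : table.relsChk W0 17904 256 = true := by decide +kernel

theorem rels18160 : table.relsChk W0 18160 256 = true := by decide +kernel

theorem rels18416 : table.relsChk W0 18416 256 = true := by decide +kernel

theorem rels18672 : table.relsChk W0 18672 256 = true := by decide +kernel

theorem rels18928 : table.relsChk W0 18928 256 = true := by decide +kernel

theorem rels19184 : table.relsChk W0 19184 256 = true := by decide +kernel

theorem rels19440 : table.relsChk W0 19440 256 = true := by decide +kernel

theorem rels19696 : table.relsChk W0 19696 256 = true := by decide +kernel

theorem rels19952 : table.relsChk W0 19952 256 = true := by decide +kernel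

theorem rels20208 : table.relsChk W0 20208 256 = true := by decide +kernel

theorem rels20464 : table.relsChk W0 20464 256 = true := by decide +kernel

theorem rels20720 : table.relsChk W0 20720 256 = true := by decide +kernel

theorem rels20976 : table.relsChk W0 20976 256 = true := by decide +kernel

theorem rels21232 : table.relsChk W0 21232 256 = true := by decide +kernel

theorem rels21488 : table.relsChk W0 21488 256 = true := by decide +kernel

theorem rels21744 : table.relsChk W0 21744 256 = true := by decide +kernel

theorem rels22000 : table.relsChk W0 22000 256 = true := by decide +kernel

theorem rels22256 : table.relsChk W0 22256 256 = true := by decide +kernel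

theorem rels22512 : table.relsChk W0 22512 256 = true := by decide +kernel

theorem rels22768 : table.relsChk W0 22768 256 = true := by decide +kernel

theorem rels23024 : table.relsChk W0 23024 256 = true := by decide +kernel

theorem rels23280 : table.relsChk W0 23280 256 = true := by decide +kernel

theorem rels23536 : table.relsChk W0 23536 256 = true := by decide +kernel

theorem rels23792 : table.relsChk W0 23792 256 = true := by decide +kernel

theorem rels24048 : table.relsChk W0 24048 256 = true := by decide +kernel

theorem rels24304 : table.relsChk W0 24304 248 = true := by decide +kernel

theorem relsUpTo2 (h : ∀ i < 16368, table.fixWords i W0 = true) :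
    ∀ i < 24552, table.fixWords i W0 = true :=
  rels_add 24304 248 (rels_add 24048 256 (rels_add 23792 256 (rels_add 23536 256 (rels_add 23280 256 (rels_add 23024 256 (rels_add 22768 256 (rels_add 22512 256 (rels_add 22256 256 (rels_add 22000 256 (rels_add 21744 256 (rels_add 21488 256 (rels_add 21232 256 (rels_add 20976 256 (rels_add 20720 256 (rels_add 20464 256 (rels_add 20208 256 (rels_add 19952 256 (rels_add 19696 256 (rels_add 19440 256 (rels_add 19184 256 (rels_add 18928 256 (rels_add 18672 256 (rels_add 18416 256 (rels_add 18160 256 (rels_add 17904 256 (rels_add 17648 256 (rels_add 17392 256 (rels_add 17136 256 (rels_add 16880 256 (rels_add 16624 256 (rels_add 16368 256 (h) rels16368) rels16624) rels16880) rels17136) rels17392) rels17648) rels17904) rels18160) rels18416) rels18672) rels18928) rels19184) rels19440) rels19696) rels19952) rels20208) rels20464) rels20720) rels20976) rels21232) rels21488) rels21744) rels22000) rels22256) rels22512) rels22768) rels23024) rels23280) rels23536) rels23792) rels24048) rels24304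

end Cfsg.Agent.ONTable
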