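import Cfsg.Agent.Lib.ONTable.Data

/-!
# A part of the check of the table
-/

set_option autoImplicit false
set_option maxHeartbeats 0
set_option maxRecDepth 100000

noncomputable section

namespace Cfsg.Agent.ONTable

open Cfsg.Agent.InvCoset

theorem rels24552 : table.relsChk W0 24552 256 = true := by decide +kernel

theorem rels24808 : table.relsChk W0 24808 256 = true := by decide +kernel

theorem rels25064 : table.relsChk W0 25064 256 = true := by decide +kernel

theorem rels25320 : table.relsChk W0 25320 256 = true := by decide +kernel

theorem rels25576 : table.relsChk W0 25576 256 = true := by decide +kernel

theorem rels25832 : table.relsChk W0 25832 256 = true := by decide +kernel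

theorem rels26088 : table.relsChk W0 26088 256 = true := by decide +kernel

theorem rels26344 : table.relsChk W0 26344 256 = true := by decide +kernel

theorem rels26600 : table.relsChk W0 26600 256 = true := by decide +kernel

theorem rels26856 : table.relsChk W0 26856 256 = true := by decide +kernel

theorem rels27112 : table.relsChk W0 27112 256 = true := by decide +kernel

theorem rels27368 : table.relsChk W0 27368 256 = true := by decide +kernel

theorem rels27624 : table.relsChk W0 27624 256 = true := by decide +kernel

theorem rels27880 : table.relsChk W0 27880 256 = true := by decide +kernel

theorem rels28136 : table.relsChk W0 28136 256 = true := by decide +kernel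

theorem rels28392 : table.relsChk W0 28392 256 = true := by decide +kernel

theorem rels28648 : table.relsChk W0 28648 256 = true := by decide +kernel

theorem rels28904 : table.relsChk W0 28904 256 = true := by decide +kernel

theorem rels29160 : table.relsChk W0 29160 256 = true := by decide +kernel

theorem rels29416 : table.relsChk W0 29416 256 = true := by decide +kernel

theorem rels29672 : table.relsChk W0 29672 256 = true := by decide +kernel

theorem rels29928 : table.relsChk W0 29928 256 = true := by decide +kernel

theorem rels30184 : table.relsChk W0 30184 256 = true := by decide +kernel

theorem rels30440 : table.relsChk W0 30440 256 = true := by decide +kernel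

theorem rels30696 : table.relsChk W0 30696 256 = true := by decide +kernel

theorem rels30952 : table.relsChk W0 30952 256 = true := by decide +kernel

theorem rels31208 : table.relsChk W0 31208 256 = true := by decide +kernel

theorem rels31464 : table.relsChk W0 31464 256 = true := by decide +kernel

theorem rels31720 : table.relsChk W0 31720 256 = true := by decide +kernel

theorem rels31976 : table.relsChk W0 31976 256 = true := by decide +kernel

theorem rels32232 : table.relsChk W0 32232 256 = true := by decide +kernel

theorem rels32488 : table.relsChk W0 32488 248 = true := by decide +kernel

theorem relsUpTo3 (h : ∀ i < 24552, table.fixWords i W0 = true) :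
    ∀ i < 32736, table.fixWords i W0 = true :=
  rels_add 32488 248 (rels_add 32232 256 (rels_add 31976 256 (rels_add 31720 256 (rels_add 31464 256 (rels_add 31208 256 (rels_add 30952 256 (rels_add 30696 256 (rels_add 30440 256 (rels_add 30184 256 (rels_add 29928 256 (rels_add 29672 256 (rels_add 29416 256 (rels_add 29160 256 (rels_add 28904 256 (rels_add 28648 256 (rels_add 28392 256 (rels_add 28136 256 (rels_add 27880 256 (rels_add 27624 256 (rels_add 27368 256 (rels_add 27112 256 (rels_add 26856 256 (rels_add 26600 256 (rels_add 26344 256 (rels_add 26088 256 (rels_add 25832 256 (rels_add 25576 256 (rels_add 25320 256 (rels_add 25064 256 (rels_add 24808 256 (rels_add 24552 256 (h) rels24552) rels24808) rels25064) rels25320) rels25576) rels25832) rels26088) rels26344) rels26600) rels26856) rels27112) rels27368) rels27624) rels27880) rels28136) rels28392) rels28648) rels28904) rels29160) rels29416) rels29672) rels29928) rels30184) rels30440) rels30696) rels30952) rels31208) rels31464) rels31720) rels31976) rels32232) rels32488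

end Cfsg.Agent.ONTable
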