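import Cfsg.Agent.Lib.ONTable.Data

/-!
# A part of the check of the table
-/

set_option autoImplicit false
set_option maxHeartbeats 0
set_option maxRecDepth 100000

noncomputable section

namespace Cfsg.Agent.ONTable

open Cfsg.Agent.InvCoset

theorem rels32736 : table.relsChk W0 32736 256 = true := by decide +kernel

theorem rels32992 : table.relsChk W0 32992 256 = true := by decide +kernel

theorem rels33248 : table.relsChk W0 33248 256 = true := by decide +kernel

theorem rels33504 : table.relsChk W0 33504 256 = true := by decide +kernel

theorem rels33760 : table.relsChk W0 33760 256 = true := by decide +kernel

theorem rels34016 : table.relsChk W0 34016 256 = true := by decide +kernel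

theorem rels34272 : table.relsChk W0 34272 256 = true := by decide +kernel

theorem rels34528 : table.relsChk W0 34528 256 = true := by decide +kernel

theorem rels34784 : table.relsChk W0 34784 256 = true := by decide +kernel

theorem rels35040 : table.relsChk W0 35040 256 = true := by decide +kernel

theorem rels35296 : table.relsChk W0 35296 256 = true := by decide +kernel

theorem rels35552 : table.relsChk W0 35552 256 = true := by decide +kernel

theorem rels35808 : table.relsChk W0 35808 256 = true := by decide +kernel

theorem rels36064 : table.relsChk W0 36064 256 = true := by decide +kernel

theorem rels36320 : table.relsChk W0 36320 256 = true := by decide +kernel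

theorem rels36576 : table.relsChk W0 36576 256 = true := by decide +kernel

theorem rels36832 : table.relsChk W0 36832 256 = true := by decide +kernel

theorem rels37088 : table.relsChk W0 37088 256 = true := by decide +kernel

theorem rels37344 : table.relsChk W0 37344 256 = true := by decide +kernel

theorem rels37600 : table.relsChk W0 37600 256 = true := by decide +kernel

theorem rels37856 : table.relsChk W0 37856 256 = true := by decide +kernel

theorem rels38112 : table.relsChk W0 38112 256 = true := by decide +kernel

theorem rels38368 : table.relsChk W0 38368 256 = true := by decide +kernel

theorem rels38624 : table.relsChk W0 38624 256 = true := by decide +kernel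

theorem rels38880 : table.relsChk W0 38880 256 = true := by decide +kernel

theorem rels39136 : table.relsChk W0 39136 256 = true := by decide +kernel

theorem rels39392 : table.relsChk W0 39392 256 = true := by decide +kernel

theorem rels39648 : table.relsChk W0 39648 256 = true := by decide +kernel

theorem rels39904 : table.relsChk W0 39904 256 = true := by decide +kernel

theorem rels40160 : table.relsChk W0 40160 256 = true := by decide +kernel

theorem rels40416 : table.relsChk W0 40416 256 = true := by decide +kernel

theorem rels40672 : table.relsChk W0 40672 248 = true := by decide +kernel

theorem relsUpTo4 (h : ∀ i < 32736, table.fixWords i W0 = true) :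
    ∀ i < 40920, table.fixWords i W0 = true :=
  rels_add 40672 248 (rels_add 40416 256 (rels_add 40160 256 (rels_add 39904 256 (rels_add 39648 256 (rels_add 39392 256 (rels_add 39136 256 (rels_add 38880 256 (rels_add 38624 256 (rels_add 38368 256 (rels_add 38112 256 (rels_add 37856 256 (rels_add 37600 256 (rels_add 37344 256 (rels_add 37088 256 (rels_add 36832 256 (rels_add 36576 256 (rels_add 36320 256 (rels_add 36064 256 (rels_add 35808 256 (rels_add 35552 256 (rels_add 35296 256 (rels_add 35040 256 (rels_add 34784 256 (rels_add 34528 256 (rels_add 34272 256 (rels_add 34016 256 (rels_add 33760 256 (rels_add 33504 256 (rels_add 33248 256 (rels_add 32992 256 (rels_add 32736 256 (h) rels32736) rels32992) rels33248) rels33504) rels33760) rels34016) rels34272) rels34528) rels34784) rels35040) rels35296) rels35552) rels35808) rels36064) rels36320) rels36576) rels36832) rels37088) rels37344) rels37600) rels37856) rels38112) rels38368) rels38624) rels38880) rels39136) rels39392) rels39648) rels39904) rels40160) rels40416) rels40672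

end Cfsg.Agent.ONTable
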