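import Cfsg.Agent.Lib.ONTable.Data

/-!
# A part of the check of the table
-/

set_option autoImplicit false
set_option maxHeartbeats 0
set_option maxRecDepth 100000

noncomputable section

namespace Cfsg.Agent.ONTable

open Cfsg.Agent.InvCoset

theorem rels40920 : table.relsChk W0 40920 256 = true := by decide +kernel

theorem rels41176 : table.relsChk W0 41176 256 = true := by decide +kernel

theorem rels41432 : table.relsChk W0 41432 256 = true := by decide +kernel

theorem rels41688 : table.relsChk W0 41688 256 = true := by decide +kernel

theorem rels41944 : table.relsChk W0 41944 256 = true := by decide +kernel

theorem rels42200 : table.relsChk W0 42200 256 = true := by decide +kernel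

theorem rels42456 : table.relsChk W0 42456 256 = true := by decide +kernel

theorem rels42712 : table.relsChk W0 42712 256 = true := by decide +kernel

theorem rels42968 : table.relsChk W0 42968 256 = true := by decide +kernel

theorem rels43224 : table.relsChk W0 43224 256 = true := by decide +kernel

theorem rels43480 : table.relsChk W0 43480 256 = true := by decide +kernel

theorem rels43736 : table.relsChk W0 43736 256 = true := by decide +kernel

theorem rels43992 : table.relsChk W0 43992 256 = true := by decide +kernel

theorem rels44248 : table.relsChk W0 44248 256 = true := by decide +kernel

theorem rels44504 : table.relsChk W0 44504 256 = true := by decide +kernel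

theorem rels44760 : table.relsChk W0 44760 256 = true := by decide +kernel

theorem rels45016 : table.relsChk W0 45016 256 = true := by decide +kernel

theorem rels45272 : table.relsChk W0 45272 256 = true := by decide +kernel

theorem rels45528 : table.relsChk W0 45528 256 = true := by decide +kernel

theorem rels45784 : table.relsChk W0 45784 256 = true := by decide +kernel

theorem rels46040 : table.relsChk W0 46040 256 = true := by decide +kernel

theorem rels46296 : table.relsChk W0 46296 256 = true := by decide +kernel

theorem rels46552 : table.relsChk W0 46552 256 = true := by decide +kernel

theorem rels46808 : table.relsChk W0 46808 256 = true := by decide +kernel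

theorem rels47064 : table.relsChk W0 47064 256 = true := by decide +kernel

theorem rels47320 : table.relsChk W0 47320 256 = true := by decide +kernel

theorem rels47576 : table.relsChk W0 47576 256 = true := by decide +kernel

theorem rels47832 : table.relsChk W0 47832 256 = true := by decide +kernel

theorem rels48088 : table.relsChk W0 48088 256 = true := by decide +kernel

theorem rels48344 : table.relsChk W0 48344 256 = true := by decide +kernel

theorem rels48600 : table.relsChk W0 48600 256 = true := by decide +kernel

theorem rels48856 : table.relsChk W0 48856 248 = true := by decide +kernel

theorem relsUpTo5 (h : ∀ i < 40920, table.fixWords i W0 = true) :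
    ∀ i < 49104, table.fixWords i W0 = true :=
  rels_add 48856 248 (rels_add 48600 256 (rels_add 48344 256 (rels_add 48088 256 (rels_add 47832 256 (rels_add 47576 256 (rels_add 47320 256 (rels_add 47064 256 (rels_add 46808 256 (rels_add 46552 256 (rels_add 46296 256 (rels_add 46040 256 (rels_add 45784 256 (rels_add 45528 256 (rels_add 45272 256 (rels_add 45016 256 (rels_add 44760 256 (rels_add 44504 256 (rels_add 44248 256 (rels_add 43992 256 (rels_add 43736 256 (rels_add 43480 256 (rels_add 43224 256 (rels_add 42968 256 (rels_add 42712 256 (rels_add 42456 256 (rels_add 42200 256 (rels_add 41944 256 (rels_add 41688 256 (rels_add 41432 256 (rels_add 41176 256 (rels_add 40920 256 (h) rels40920) rels41176) rels41432) rels41688) rels41944) rels42200) rels42456) rels42712) rels42968) rels43224) rels43480) rels43736) rels43992) rels44248) rels44504) rels44760) rels45016) rels45272) rels45528) rels45784) rels46040) rels46296) rels46552) rels46808) rels47064) rels47320) rels47576) rels47832) rels48088) rels48344) rels48600) rels48856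

end Cfsg.Agent.ONTable
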