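import Cfsg.Agent.Lib.ONTable.Data

/-!
# A part of the check of the table
-/

set_option autoImplicit false
set_option maxHeartbeats 0
set_option maxRecDepth 100000

noncomputable section

namespace Cfsg.Agent.ONTable

open Cfsg.Agent.InvCoset

theorem rels49104 : table.relsChk W0 49104 256 = true := by decide +kernel

theorem rels49360 : table.relsChk W0 49360 256 = true := by decide +kernel

theorem rels49616 : table.relsChk W0 49616 256 = true := by decide +kernel

theorem rels49872 : table.relsChk W0 49872 256 = true := by decide +kernel

theorem rels50128 : table.relsChk W0 50128 256 = true := by decide +kernel

theorem rels50384 : table.relsChk W0 50384 256 = true := by decide +kernel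

theorem rels50640 : table.relsChk W0 50640 256 = true := by decide +kernel

theorem rels50896 : table.relsChk W0 50896 256 = true := by decide +kernel

theorem rels51152 : table.relsChk W0 51152 256 = true := by decide +kernel

theorem rels51408 : table.relsChk W0 51408 256 = true := by decide +kernel

theorem rels51664 : table.relsChk W0 51664 256 = true := by decide +kernel

theorem rels51920 : table.relsChk W0 51920 256 = true := by decide +kernel

theorem rels52176 : table.relsChk W0 52176 256 = true := by decide +kernel

theorem rels52432 : table.relsChk W0 52432 256 = true := by decide +kernel

theorem rels52688 : table.relsChk W0 52688 256 = true := by decide +kernel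

theorem rels52944 : table.relsChk W0 52944 256 = true := by decide +kernel

theorem rels53200 : table.relsChk W0 53200 256 = true := by decide +kernel

theorem rels53456 : table.relsChk W0 53456 256 = true := by decide +kernel

theorem rels53712 : table.relsChk W0 53712 256 = true := by decide +kernel

theorem rels53968 : table.relsChk W0 53968 256 = true := by decide +kernel

theorem rels54224 : table.relsChk W0 54224 256 = true := by decide +kernel

theorem rels54480 : table.relsChk W0 54480 256 = true := by decide +kernel

theorem rels54736 : table.relsChk W0 54736 256 = true := by decide +kernel

theorem rels54992 : table.relsChk W0 54992 256 = true := by decide +kernel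

theorem rels55248 : table.relsChk W0 55248 256 = true := by decide +kernel

theorem rels55504 : table.relsChk W0 55504 256 = true := by decide +kernel

theorem rels55760 : table.relsChk W0 55760 256 = true := by decide +kernel

theorem rels56016 : table.relsChk W0 56016 256 = true := by decide +kernel

theorem rels56272 : table.relsChk W0 56272 256 = true := by decide +kernel

theorem rels56528 : table.relsChk W0 56528 256 = true := by decide +kernel

theorem rels56784 : table.relsChk W0 56784 256 = true := by decide +kernel

theorem rels57040 : table.relsChk W0 57040 248 = true := by decide +kernel

theorem relsUpTo6 (h : ∀ i < 49104, table.fixWords i W0 = true) :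
    ∀ i < 57288, table.fixWords i W0 = true :=
  rels_add 57040 248 (rels_add 56784 256 (rels_add 56528 256 (rels_add 56272 256 (rels_add 56016 256 (rels_add 55760 256 (rels_add 55504 256 (rels_add 55248 256 (rels_add 54992 256 (rels_add 54736 256 (rels_add 54480 256 (rels_add 54224 256 (rels_add 53968 256 (rels_add 53712 256 (rels_add 53456 256 (rels_add 53200 256 (rels_add 52944 256 (rels_add 52688 256 (rels_add 52432 256 (rels_add 52176 256 (rels_add 51920 256 (rels_add 51664 256 (rels_add 51408 256 (rels_add 51152 256 (rels_add 50896 256 (rels_add 50640 256 (rels_add 50384 256 (rels_add 50128 256 (rels_add 49872 256 (rels_add 49616 256 (rels_add 49360 256 (rels_add 49104 256 (h) rels49104) rels49360) rels49616) rels49872) rels50128) rels50384) rels50640) rels50896) rels51152) rels51408) rels51664) rels51920) rels52176) rels52432) rels52688) rels52944) rels53200) rels53456) rels53712) rels53968) rels54224) rels54480) rels54736) rels54992) rels55248) rels55504) rels55760) rels56016) rels56272) rels56528) rels56784) rels57040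

end Cfsg.Agent.ONTable
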