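import Cfsg.Agent.Lib.ONTable.Data

/-!
# A part of the check of the table
-/

set_option autoImplicit false
set_option maxHeartbeats 0
set_option maxRecDepth 100000

noncomputable section

namespace Cfsg.Agent.ONTable

open Cfsg.Agent.InvCoset

theorem rels57288 : table.relsChk W0 57288 256 = true := by decide +kernel

theorem rels57544 : table.relsChk W0 57544 256 = true := by decide +kernel

theorem rels57800 : table.relsChk W0 57800 256 = true := by decide +kernel

theorem rels58056 : table.relsChk W0 58056 256 = true := by decide +kernel

theorem rels58312 : table.relsChk W0 58312 256 = true := by decide +kernel

theorem rels58568 : table.relsChk W0 58568 256 = true := by decide +kernel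

theorem rels58824 : table.relsChk W0 58824 256 = true := by decide +kernel

theorem rels59080 : table.relsChk W0 59080 256 = true := by decide +kernel

theorem rels59336 : table.relsChk W0 59336 256 = true := by decide +kernel

theorem rels59592 : table.relsChk W0 59592 256 = true := by decide +kernel

theorem rels59848 : table.relsChk W0 59848 256 = true := by decide +kernel

theorem rels60104 : table.relsChk W0 60104 256 = true := by decide +kernel

theorem rels60360 : table.relsChk W0 60360 256 = true := by decide +kernel

theorem rels60616 : table.relsChk W0 60616 256 = true := by decide +kernel

theorem rels60872 : table.relsChk W0 60872 256 = true := by decide +kernel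

theorem rels61128 : table.relsChk W0 61128 256 = true := by decide +kernel

theorem rels61384 : table.relsChk W0 61384 256 = true := by decide +kernel

theorem rels61640 : table.relsChk W0 61640 256 = true := by decide +kernel

theorem rels61896 : table.relsChk W0 61896 256 = true := by decide +kernel

theorem rels62152 : table.relsChk W0 62152 256 = true := by decide +kernel

theorem rels62408 : table.relsChk W0 62408 256 = true := by decide +kernel

theorem rels62664 : table.relsChk W0 62664 256 = true := by decide +kernel

theorem rels62920 : table.relsChk W0 62920 256 = true := by decide +kernel

theorem rels63176 : table.relsChk W0 63176 256 = true := by decide +kernel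

theorem rels63432 : table.relsChk W0 63432 256 = true := by decide +kernel

theorem rels63688 : table.relsChk W0 63688 256 = true := by decide +kernel

theorem rels63944 : table.relsChk W0 63944 256 = true := by decide +kernel

theorem rels64200 : table.relsChk W0 64200 256 = true := by decide +kernel

theorem rels64456 : table.relsChk W0 64456 256 = true := by decide +kernel

theorem rels64712 : table.relsChk W0 64712 256 = true := by decide +kernel

theorem rels64968 : table.relsChk W0 64968 256 = true := by decide +kernel

theorem rels65224 : table.relsChk W0 65224 248 = true := by decide +kernel

theorem relsUpTo7 (h : ∀ i < 57288, table.fixWords i W0 = true) :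
    ∀ i < 65472, table.fixWords i W0 = true :=
  rels_add 65224 248 (rels_add 64968 256 (rels_add 64712 256 (rels_add 64456 256 (rels_add 64200 256 (rels_add 63944 256 (rels_add 63688 256 (rels_add 63432 256 (rels_add 63176 256 (rels_add 62920 256 (rels_add 62664 256 (rels_add 62408 256 (rels_add 62152 256 (rels_add 61896 256 (rels_add 61640 256 (rels_add 61384 256 (rels_add 61128 256 (rels_add 60872 256 (rels_add 60616 256 (rels_add 60360 256 (rels_add 60104 256 (rels_add 59848 256 (rels_add 59592 256 (rels_add 59336 256 (rels_add 59080 256 (rels_add 58824 256 (rels_add 58568 256 (rels_add 58312 256 (rels_add 58056 256 (rels_add 57800 256 (rels_add 57544 256 (rels_add 57288 256 (h) rels57288) rels57544) rels57800) rels58056) rels58312) rels58568) rels58824) rels59080) rels59336) rels59592) rels59848) rels60104) rels60360) rels60616) rels60872) rels61128) rels61384) rels61640) rels61896) rels62152) rels62408) rels62664) rels62920) rels63176) rels63432) rels63688) rels63944) rels64200) rels64456) rels64712) rels64968) rels65224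

end Cfsg.Agent.ONTable
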