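import Cfsg.Agent.Lib.ONTable.Data

/-!
# A part of the check of the table
-/

set_option autoImplicit false
set_option maxHeartbeats 0
set_option maxRecDepth 100000

noncomputable section

namespace Cfsg.Agent.ONTable

open Cfsg.Agent.InvCoset

theorem rels65472 : table.relsChk W0 65472 256 = true := by decide +kernel

theorem rels65728 : table.relsChk W0 65728 256 = true := by decide +kernel

theorem rels65984 : table.relsChk W0 65984 256 = true := by decide +kernel

theorem rels66240 : table.relsChk W0 66240 256 = true := by decide +kernel

theorem rels66496 : table.relsChk W0 66496 256 = true := by decide +kernel

theorem rels66752 : table.relsChk W0 66752 256 = true := by decide +kernel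

theorem rels67008 : table.relsChk W0 67008 256 = true := by decide +kernel

theorem rels67264 : table.relsChk W0 67264 256 = true := by decide +kernel

theorem rels67520 : table.relsChk W0 67520 256 = true := by decide +kernel

theorem rels67776 : table.relsChk W0 67776 256 = true := by decide +kernel

theorem rels68032 : table.relsChk W0 68032 256 = true := by decide +kernel

theorem rels68288 : table.relsChk W0 68288 256 = true := by decide +kernel

theorem rels68544 : table.relsChk W0 68544 256 = true := by decide +kernel

theorem rels68800 : table.relsChk W0 68800 256 = true := by decide +kernel

theorem rels69056 : table.relsChk W0 69056 256 = true := by decide +kernel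

theorem rels69312 : table.relsChk W0 69312 256 = true := by decide +kernel

theorem rels69568 : table.relsChk W0 69568 256 = true := by decide +kernel

theorem rels69824 : table.relsChk W0 69824 256 = true := by decide +kernel

theorem rels70080 : table.relsChk W0 70080 256 = true := by decide +kernel

theorem rels70336 : table.relsChk W0 70336 256 = true := by decide +kernel

theorem rels70592 : table.relsChk W0 70592 256 = true := by decide +kernel

theorem rels70848 : table.relsChk W0 70848 256 = true := by decide +kernel

theorem rels71104 : table.relsChk W0 71104 256 = true := by decide +kernel

theorem rels71360 : table.relsChk W0 71360 256 = true := by decide +kernel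

theorem rels71616 : table.relsChk W0 71616 256 = true := by decide +kernel

theorem rels71872 : table.relsChk W0 71872 256 = true := by decide +kernel

theorem rels72128 : table.relsChk W0 72128 256 = true := by decide +kernel

theorem rels72384 : table.relsChk W0 72384 256 = true := by decide +kernel

theorem rels72640 : table.relsChk W0 72640 256 = true := by decide +kernel

theorem rels72896 : table.relsChk W0 72896 256 = true := by decide +kernel

theorem rels73152 : table.relsChk W0 73152 256 = true := by decide +kernel

theorem rels73408 : table.relsChk W0 73408 248 = true := by decide +kernel

theorem relsUpTo8 (h : ∀ i < 65472, table.fixWords i W0 = true) :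
    ∀ i < 73656, table.fixWords i W0 = true :=
  rels_add 73408 248 (rels_add 73152 256 (rels_add 72896 256 (rels_add 72640 256 (rels_add 72384 256 (rels_add 72128 256 (rels_add 71872 256 (rels_add 71616 256 (rels_add 71360 256 (rels_add 71104 256 (rels_add 70848 256 (rels_add 70592 256 (rels_add 70336 256 (rels_add 70080 256 (rels_add 69824 256 (rels_add 69568 256 (rels_add 69312 256 (rels_add 69056 256 (rels_add 68800 256 (rels_add 68544 256 (rels_add 68288 256 (rels_add 68032 256 (rels_add 67776 256 (rels_add 67520 256 (rels_add 67264 256 (rels_add 67008 256 (rels_add 66752 256 (rels_add 66496 256 (rels_add 66240 256 (rels_add 65984 256 (rels_add 65728 256 (rels_add 65472 256 (h) rels65472) rels65728) rels65984) rels66240) rels66496) rels66752) rels67008) rels67264) rels67520) rels67776) rels68032) rels68288) rels68544) rels68800) rels69056) rels69312) rels69568) rels69824) rels70080) rels70336) rels70592) rels70848) rels71104) rels71360) rels71616) rels71872) rels72128) rels72384) rels72640) rels72896) rels73152) rels73408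

end Cfsg.Agent.ONTable
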