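import Cfsg.Agent.Lib.ONTable.Data

/-!
# A part of the check of the table
-/

set_option autoImplicit false
set_option maxHeartbeats 0
set_option maxRecDepth 100000

noncomputable section

namespace Cfsg.Agent.ONTable

open Cfsg.Agent.InvCoset

theorem rels73656 : table.relsChk W0 73656 256 = true := by decide +kernel

theorem rels73912 : table.relsChk W0 73912 256 = true := by decide +kernel

theorem rels74168 : table.relsChk W0 74168 256 = true := by decide +kernel

theorem rels74424 : table.relsChk W0 74424 256 = true := by decide +kernel

theorem rels74680 : table.relsChk W0 74680 256 = true := by decide +kernel

theorem rels74936 : table.relsChk W0 74936 256 = true := by decide +kernel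

theorem rels75192 : table.relsChk W0 75192 256 = true := by decide +kernel

theorem rels75448 : table.relsChk W0 75448 256 = true := by decide +kernel

theorem rels75704 : table.relsChk W0 75704 256 = true := by decide +kernel

theorem rels75960 : table.relsChk W0 75960 256 = true := by decide +kernel

theorem rels76216 : table.relsChk W0 76216 256 = true := by decide +kernel

theorem rels76472 : table.relsChk W0 76472 256 = true := by decide +kernel

theorem rels76728 : table.relsChk W0 76728 256 = true := by decide +kernel

theorem rels76984 : table.relsChk W0 76984 256 = true := by decide +kernel

theorem rels77240 : table.relsChk W0 77240 256 = true := by decide +kernel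

theorem rels77496 : table.relsChk W0 77496 256 = true := by decide +kernel

theorem rels77752 : table.relsChk W0 77752 256 = true := by decide +kernel

theorem rels78008 : table.relsChk W0 78008 256 = true := by decide +kernel

theorem rels78264 : table.relsChk W0 78264 256 = true := by decide +kernel

theorem rels78520 : table.relsChk W0 78520 256 = true := by decide +kernel

theorem rels78776 : table.relsChk W0 78776 256 = true := by decide +kernel

theorem rels79032 : table.relsChk W0 79032 256 = true := by decide +kernel

theorem rels79288 : table.relsChk W0 79288 256 = true := by decide +kernel

theorem rels79544 : table.relsChk W0 79544 256 = true := by decide +kernel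

theorem rels79800 : table.relsChk W0 79800 256 = true := by decide +kernel

theorem rels80056 : table.relsChk W0 80056 256 = true := by decide +kernel

theorem rels80312 : table.relsChk W0 80312 256 = true := by decide +kernel

theorem rels80568 : table.relsChk W0 80568 256 = true := by decide +kernel

theorem rels80824 : table.relsChk W0 80824 256 = true := by decide +kernel

theorem rels81080 : table.relsChk W0 81080 256 = true := by decide +kernel

theorem rels81336 : table.relsChk W0 81336 256 = true := by decide +kernel

theorem rels81592 : table.relsChk W0 81592 248 = true := by decide +kernel

theorem relsUpTo9 (h : ∀ i < 73656, table.fixWords i W0 = true) :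
    ∀ i < 81840, table.fixWords i W0 = true :=
  rels_add 81592 248 (rels_add 81336 256 (rels_add 81080 256 (rels_add 80824 256 (rels_add 80568 256 (rels_add 80312 256 (rels_add 80056 256 (rels_add 79800 256 (rels_add 79544 256 (rels_add 79288 256 (rels_add 79032 256 (rels_add 78776 256 (rels_add 78520 256 (rels_add 78264 256 (rels_add 78008 256 (rels_add 77752 256 (rels_add 77496 256 (rels_add 77240 256 (rels_add 76984 256 (rels_add 76728 256 (rels_add 76472 256 (rels_add 76216 256 (rels_add 75960 256 (rels_add 75704 256 (rels_add 75448 256 (rels_add 75192 256 (rels_add 74936 256 (rels_add 74680 256 (rels_add 74424 256 (rels_add 74168 256 (rels_add 73912 256 (rels_add 73656 256 (h) rels73656) rels73912) rels74168) rels74424) rels74680) rels74936) rels75192) rels75448) rels75704) rels75960) rels76216) rels76472) rels76728) rels76984) rels77240) rels77496) rels77752) rels78008) rels78264) rels78520) rels78776) rels79032) rels79288) rels79544) rels79800) rels80056) rels80312) rels80568) rels80824) rels81080) rels81336) rels81592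

end Cfsg.Agent.ONTable
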