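import Cfsg.Agent.Lib.ONTable.Rels0
import Cfsg.Agent.Lib.ONTable.Rels1
import Cfsg.Agent.Lib.ONTable.Rels2
import Cfsg.Agent.Lib.ONTable.Rels3
import Cfsg.Agent.Lib.ONTable.Rels4
import Cfsg.Agent.Lib.ONTable.Rels5
import Cfsg.Agent.Lib.ONTable.Rels6
import Cfsg.Agent.Lib.ONTable.Rels7
import Cfsg.Agent.Lib.ONTable.Rels8
import Cfsg.Agent.Lib.ONTable.Rels9
import Cfsg.Agent.Lib.ONTable.Rels10
import Cfsg.Agent.Lib.ONTable.Rels11
import Cfsg.Agent.Lib.ONTable.Rels12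
import Cfsg.Agent.Lib.ONTable.Rels13
import Cfsg.Agent.Lib.ONTable.Rels14

/-!
# The whole check
-/

set_option autoImplicit false
set_option maxHeartbeats 0
set_option maxRecDepth 100000

noncomputable section

namespace Cfsg.Agent.ONTable

open Cfsg.Agent.InvCoset

theorem relsAll : ∀ i < 122760, table.fixWords i W0 = true :=
  relsUpTo14 (relsUpTo13 (relsUpTo12 (relsUpTo11 (relsUpTo10 (relsUpTo9 (relsUpTo8 (relsUpTo7 (relsUpTo6 (relsUpTo5 (relsUpTo4 (relsUpTo3 (relsUpTo2 (relsUpTo1 (relsUpTo0 (rels_zero W0)))))))))))))))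

end Cfsg.Agent.ONTable
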