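import Cfsg.Agent.Lib.ONTable.Data

/-!
# A part of the check of the table
-/

set_option autoImplicit false
set_option maxHeartbeats 0
set_option maxRecDepth 100000

noncomputable section

namespace Cfsg.Agent.ONTable

open Cfsg.Agent.InvCoset

theorem rows8184 : table.rowsChk seeds 8184 512 = true := by decide +kernel

theorem rows8696 : table.rowsChk seeds 8696 512 = true := by decide +kernel

theorem rows9208 : table.rowsChk seeds 9208 512 = true := by decide +kernel

theorem rows9720 : table.rowsChk seeds 9720 512 = true := by decide +kernel

theorem rows10232 : table.rowsChk seeds 10232 512 = true := by decide +kernel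

theorem rows10744 : table.rowsChk seeds 10744 512 = true := by decide +kernel

theorem rows11256 : table.rowsChk seeds 11256 512 = true := by decide +kernel

theorem rows11768 : table.rowsChk seeds 11768 512 = true := by decide +kernel

theorem rows12280 : table.rowsChk seeds 12280 512 = true := by decide +kernel

theorem rows12792 : table.rowsChk seeds 12792 512 = true := by decide +kernel

theorem rows13304 : table.rowsChk seeds 13304 512 = true := by decide +kernel

theorem rows13816 : table.rowsChk seeds 13816 512 = true := by decide +kernel

theorem rows14328 : table.rowsChk seeds 14328 512 = true := by decide +kernel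

theorem rows14840 : table.rowsChk seeds 14840 512 = true := by decide +kernel

theorem rows15352 : table.rowsChk seeds 15352 512 = true := by decide +kernel

theorem rows15864 : table.rowsChk seeds 15864 504 = true := by decide +kernel

theorem rowsUpTo1 (h : ∀ i < 8184, (table.nodeChk i && table.cellsChk seeds i table.K) = true) :
    ∀ i < 16368, (table.nodeChk i && table.cellsChk seeds i table.K) = true :=
  rows_add 15864 504 (rows_add 15352 512 (rows_add 14840 512 (rows_add 14328 512 (rows_add 13816 512 (rows_add 13304 512 (rows_add 12792 512 (rows_add 12280 512 (rows_add 11768 512 (rows_add 11256 512 (rows_add 10744 512 (rows_add 10232 512 (rows_add 9720 512 (rows_add 9208 512 (rows_add 8696 512 (rows_add 8184 512 (h) rows8184) rows8696) rows9208) rows9720) rows10232) rows10744) rows11256) rows11768) rows12280) rows12792) rows13304) rows13816) rows14328) rows14840) rows15352) rows15864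

end Cfsg.Agent.ONTable
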