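import Cfsg.Agent.Lib.ONTable.Data

/-!
# A part of the check of the table
-/

set_option autoImplicit false
set_option maxHeartbeats 0
set_option maxRecDepth 100000

noncomputable section

namespace Cfsg.Agent.ONTable

open Cfsg.Agent.InvCoset

theorem rows81840 : table.rowsChk seeds 81840 512 = true := by decide +kernel

theorem rows82352 : table.rowsChk seeds 82352 512 = true := by decide +kernel

theorem rows82864 : table.rowsChk seeds 82864 512 = true := by decide +kernel

theorem rows83376 : table.rowsChk seeds 83376 512 = true := by decide +kernel

theorem rows83888 : table.rowsChk seeds 83888 512 = true := by decide +kernel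

theorem rows84400 : table.rowsChk seeds 84400 512 = true := by decide +kernel

theorem rows84912 : table.rowsChk seeds 84912 512 = true := by decide +kernel

theorem rows85424 : table.rowsChk seeds 85424 512 = true := by decide +kernel

theorem rows85936 : table.rowsChk seeds 85936 512 = true := by decide +kernel

theorem rows86448 : table.rowsChk seeds 86448 512 = true := by decide +kernel

theorem rows86960 : table.rowsChk seeds 86960 512 = true := by decide +kernel

theorem rows87472 : table.rowsChk seeds 87472 512 = true := by decide +kernel

theorem rows87984 : table.rowsChk seeds 87984 512 = true := by decide +kernel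

theorem rows88496 : table.rowsChk seeds 88496 512 = true := by decide +kernel

theorem rows89008 : table.rowsChk seeds 89008 512 = true := by decide +kernel

theorem rows89520 : table.rowsChk seeds 89520 504 = true := by decide +kernel

theorem rowsUpTo10 (h : ∀ i < 81840, (table.nodeChk i && table.cellsChk seeds i table.K) = true) :
    ∀ i < 90024, (table.nodeChk i && table.cellsChk seeds i table.K) = true :=
  rows_add 89520 504 (rows_add 89008 512 (rows_add 88496 512 (rows_add 87984 512 (rows_add 87472 512 (rows_add 86960 512 (rows_add 86448 512 (rows_add 85936 512 (rows_add 85424 512 (rows_add 84912 512 (rows_add 84400 512 (rows_add 83888 512 (rows_add 83376 512 (rows_add 82864 512 (rows_add 82352 512 (rows_add 81840 512 (h) rows81840) rows82352) rows82864) rows83376) rows83888) rows84400) rows84912) rows85424) rows85936) rows86448) rows86960) rows87472) rows87984) rows88496) rows89008) rows89520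

end Cfsg.Agent.ONTable
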