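import Cfsg.Agent.Lib.ONTable.Data

/-!
# A part of the check of the table
-/

set_option autoImplicit false
set_option maxHeartbeats 0
set_option maxRecDepth 100000

noncomputable section

namespace Cfsg.Agent.ONTable

open Cfsg.Agent.InvCoset

theorem rows90024 : table.rowsChk seeds 90024 512 = true := by decide +kernel

theorem rows90536 : table.rowsChk seeds 90536 512 = true := by decide +kernel

theorem rows91048 : table.rowsChk seeds 91048 512 = true := by decide +kernel

theorem rows91560 : table.rowsChk seeds 91560 512 = true := by decide +kernel

theorem rows92072 : table.rowsChk seeds 92072 512 = true := by decide +kernel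

theorem rows92584 : table.rowsChk seeds 92584 512 = true := by decide +kernel

theorem rows93096 : table.rowsChk seeds 93096 512 = true := by decide +kernel

theorem rows93608 : table.rowsChk seeds 93608 512 = true := by decide +kernel

theorem rows94120 : table.rowsChk seeds 94120 512 = true := by decide +kernel

theorem rows94632 : table.rowsChk seeds 94632 512 = true := by decide +kernel

theorem rows95144 : table.rowsChk seeds 95144 512 = true := by decide +kernel

theorem rows95656 : table.rowsChk seeds 95656 512 = true := by decide +kernel

theorem rows96168 : table.rowsChk seeds 96168 512 = true := by decide +kernel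

theorem rows96680 : table.rowsChk seeds 96680 512 = true := by decide +kernel

theorem rows97192 : table.rowsChk seeds 97192 512 = true := by decide +kernel

theorem rows97704 : table.rowsChk seeds 97704 504 = true := by decide +kernel

theorem rowsUpTo11 (h : ∀ i < 90024, (table.nodeChk i && table.cellsChk seeds i table.K) = true) :
    ∀ i < 98208, (table.nodeChk i && table.cellsChk seeds i table.K) = true :=
  rows_add 97704 504 (rows_add 97192 512 (rows_add 96680 512 (rows_add 96168 512 (rows_add 95656 512 (rows_add 95144 512 (rows_add 94632 512 (rows_add 94120 512 (rows_add 93608 512 (rows_add 93096 512 (rows_add 92584 512 (rows_add 92072 512 (rows_add 91560 512 (rows_add 91048 512 (rows_add 90536 512 (rows_add 90024 512 (h) rows90024) rows90536) rows91048) rows91560) rows92072) rows92584) rows93096) rows93608) rows94120) rows94632) rows95144) rows95656) rows96168) rows96680) rows97192) rows97704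

end Cfsg.Agent.ONTable
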