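import Cfsg.Agent.Lib.ONTable.Data

/-!
# A part of the check of the table
-/

set_option autoImplicit false
set_option maxHeartbeats 0
set_option maxRecDepth 100000

noncomputable section

namespace Cfsg.Agent.ONTable

open Cfsg.Agent.InvCoset

theorem rows106392 : table.rowsChk seeds 106392 512 = true := by decide +kernel

theorem rows106904 : table.rowsChk seeds 106904 512 = true := by decide +kernel

theorem rows107416 : table.rowsChk seeds 107416 512 = true := by decide +kernel

theorem rows107928 : table.rowsChk seeds 107928 512 = true := by decide +kernel

theorem rows108440 : table.rowsChk seeds 108440 512 = true := by decide +kernel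

theorem rows108952 : table.rowsChk seeds 108952 512 = true := by decide +kernel

theorem rows109464 : table.rowsChk seeds 109464 512 = true := by decide +kernel

theorem rows109976 : table.rowsChk seeds 109976 512 = true := by decide +kernel

theorem rows110488 : table.rowsChk seeds 110488 512 = true := by decide +kernel

theorem rows111000 : table.rowsChk seeds 111000 512 = true := by decide +kernel

theorem rows111512 : table.rowsChk seeds 111512 512 = true := by decide +kernel

theorem rows112024 : table.rowsChk seeds 112024 512 = true := by decide +kernel

theorem rows112536 : table.rowsChk seeds 112536 512 = true := by decide +kernel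

theorem rows113048 : table.rowsChk seeds 113048 512 = true := by decide +kernel

theorem rows113560 : table.rowsChk seeds 113560 512 = true := by decide +kernel

theorem rows114072 : table.rowsChk seeds 114072 504 = true := by decide +kernel

theorem rowsUpTo13 (h : ∀ i < 106392, (table.nodeChk i && table.cellsChk seeds i table.K) = true) :
    ∀ i < 114576, (table.nodeChk i && table.cellsChk seeds i table.K) = true :=
  rows_add 114072 504 (rows_add 113560 512 (rows_add 113048 512 (rows_add 112536 512 (rows_add 112024 512 (rows_add 111512 512 (rows_add 111000 512 (rows_add 110488 512 (rows_add 109976 512 (rows_add 109464 512 (rows_add 108952 512 (rows_add 108440 512 (rows_add 107928 512 (rows_add 107416 512 (rows_add 106904 512 (rows_add 106392 512 (h) rows106392) rows106904) rows107416) rows107928) rows108440) rows108952) rows109464) rows109976) rows110488) rows111000) rows111512) rows112024) rows112536) rows113048) rows113560) rows114072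

end Cfsg.Agent.ONTable
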