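import Cfsg.Agent.Lib.ONTable.Data

/-!
# A part of the check of the table
-/

set_option autoImplicit false
set_option maxHeartbeats 0
set_option maxRecDepth 100000

noncomputable section

namespace Cfsg.Agent.ONTable

open Cfsg.Agent.InvCoset

theorem rows114576 : table.rowsChk seeds 114576 512 = true := by decide +kernel

theorem rows115088 : table.rowsChk seeds 115088 512 = true := by decide +kernel

theorem rows115600 : table.rowsChk seeds 115600 512 = true := by decide +kernel

theorem rows116112 : table.rowsChk seeds 116112 512 = true := by decide +kernel

theorem rows116624 : table.rowsChk seeds 116624 512 = true := by decide +kernel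

theorem rows117136 : table.rowsChk seeds 117136 512 = true := by decide +kernel

theorem rows117648 : table.rowsChk seeds 117648 512 = true := by decide +kernel

theorem rows118160 : table.rowsChk seeds 118160 512 = true := by decide +kernel

theorem rows118672 : table.rowsChk seeds 118672 512 = true := by decide +kernel

theorem rows119184 : table.rowsChk seeds 119184 512 = true := by decide +kernel

theorem rows119696 : table.rowsChk seeds 119696 512 = true := by decide +kernel

theorem rows120208 : table.rowsChk seeds 120208 512 = true := by decide +kernel

theorem rows120720 : table.rowsChk seeds 120720 512 = true := by decide +kernel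

theorem rows121232 : table.rowsChk seeds 121232 512 = true := by decide +kernel

theorem rows121744 : table.rowsChk seeds 121744 512 = true := by decide +kernel

theorem rows122256 : table.rowsChk seeds 122256 504 = true := by decide +kernel

theorem rowsUpTo14 (h : ∀ i < 114576, (table.nodeChk i && table.cellsChk seeds i table.K) = true) :
    ∀ i < 122760, (table.nodeChk i && table.cellsChk seeds i table.K) = true :=
  rows_add 122256 504 (rows_add 121744 512 (rows_add 121232 512 (rows_add 120720 512 (rows_add 120208 512 (rows_add 119696 512 (rows_add 119184 512 (rows_add 118672 512 (rows_add 118160 512 (rows_add 117648 512 (rows_add 117136 512 (rows_add 116624 512 (rows_add 116112 512 (rows_add 115600 512 (rows_add 115088 512 (rows_add 114576 512 (h) rows114576) rows115088) rows115600) rows116112) rows116624) rows117136) rows117648) rows118160) rows118672) rows119184) rows119696) rows120208) rows120720) rows121232) rows121744) rows122256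

end Cfsg.Agent.ONTable
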