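import Cfsg.Agent.Lib.ONTable.Data

/-!
# A part of the check of the table
-/

set_option autoImplicit false
set_option maxHeartbeats 0
set_option maxRecDepth 100000

noncomputable section

namespace Cfsg.Agent.ONTable

open Cfsg.Agent.InvCoset

theorem rows16368 : table.rowsChk seeds 16368 512 = true := by decide +kernel

theorem rows16880 : table.rowsChk seeds 16880 512 = true := by decide +kernel

theorem rows17392 : table.rowsChk seeds 17392 512 = true := by decide +kernel

theorem rows17904 : table.rowsChk seeds 17904 512 = true := by decide +kernel

theorem rows18416 : table.rowsChk seeds 18416 512 = true := by decide +kernel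

theorem rows18928 : table.rowsChk seeds 18928 512 = true := by decide +kernel

theorem rows19440 : table.rowsChk seeds 19440 512 = true := by decide +kernel

theorem rows19952 : table.rowsChk seeds 19952 512 = true := by decide +kernel

theorem rows20464 : table.rowsChk seeds 20464 512 = true := by decide +kernel

theorem rows20976 : table.rowsChk seeds 20976 512 = true := by decide +kernel

theorem rows21488 : table.rowsChk seeds 21488 512 = true := by decide +kernel

theorem rows22000 : table.rowsChk seeds 22000 512 = true := by decide +kernel

theorem rows22512 : table.rowsChk seeds 22512 512 = true := by decide +kernel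

theorem rows23024 : table.rowsChk seeds 23024 512 = true := by decide +kernel

theorem rows23536 : table.rowsChk seeds 23536 512 = true := by decide +kernel

theorem rows24048 : table.rowsChk seeds 24048 504 = true := by decide +kernel

theorem rowsUpTo2 (h : ∀ i < 16368, (table.nodeChk i && table.cellsChk seeds i table.K) = true) :
    ∀ i < 24552, (table.nodeChk i && table.cellsChk seeds i table.K) = true :=
  rows_add 24048 504 (rows_add 23536 512 (rows_add 23024 512 (rows_add 22512 512 (rows_add 22000 512 (rows_add 21488 512 (rows_add 20976 512 (rows_add 20464 512 (rows_add 19952 512 (rows_add 19440 512 (rows_add 18928 512 (rows_add 18416 512 (rows_add 17904 512 (rows_add 17392 512 (rows_add 16880 512 (rows_add 16368 512 (h) rows16368) rows16880) rows17392) rows17904) rows18416) rows18928) rows19440) rows19952) rows20464) rows20976) rows21488) rows22000) rows22512) rows23024) rows23536) rows24048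

end Cfsg.Agent.ONTable
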