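import Cfsg.Agent.Lib.ONTable.Data

/-!
# A part of the check of the table
-/

set_option autoImplicit false
set_option maxHeartbeats 0
set_option maxRecDepth 100000

noncomputable section

namespace Cfsg.Agent.ONTable

open Cfsg.Agent.InvCoset

theorem rows24552 : table.rowsChk seeds 24552 512 = true := by decide +kernel

theorem rows25064 : table.rowsChk seeds 25064 512 = true := by decide +kernel

theorem rows25576 : table.rowsChk seeds 25576 512 = true := by decide +kernel

theorem rows26088 : table.rowsChk seeds 26088 512 = true := by decide +kernel

theorem rows26600 : table.rowsChk seeds 26600 512 = true := by decide +kernel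

theorem rows27112 : table.rowsChk seeds 27112 512 = true := by decide +kernel

theorem rows27624 : table.rowsChk seeds 27624 512 = true := by decide +kernel

theorem rows28136 : table.rowsChk seeds 28136 512 = true := by decide +kernel

theorem rows28648 : table.rowsChk seeds 28648 512 = true := by decide +kernel

theorem rows29160 : table.rowsChk seeds 29160 512 = true := by decide +kernel

theorem rows29672 : table.rowsChk seeds 29672 512 = true := by decide +kernel

theorem rows30184 : table.rowsChk seeds 30184 512 = true := by decide +kernel

theorem rows30696 : table.rowsChk seeds 30696 512 = true := by decide +kernel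

theorem rows31208 : table.rowsChk seeds 31208 512 = true := by decide +kernel

theorem rows31720 : table.rowsChk seeds 31720 512 = true := by decide +kernel

theorem rows32232 : table.rowsChk seeds 32232 504 = true := by decide +kernel

theorem rowsUpTo3 (h : ∀ i < 24552, (table.nodeChk i && table.cellsChk seeds i table.K) = true) :
    ∀ i < 32736, (table.nodeChk i && table.cellsChk seeds i table.K) = true :=
  rows_add 32232 504 (rows_add 31720 512 (rows_add 31208 512 (rows_add 30696 512 (rows_add 30184 512 (rows_add 29672 512 (rows_add 29160 512 (rows_add 28648 512 (rows_add 28136 512 (rows_add 27624 512 (rows_add 27112 512 (rows_add 26600 512 (rows_add 26088 512 (rows_add 25576 512 (rows_add 25064 512 (rows_add 24552 512 (h) rows24552) rows25064) rows25576) rows26088) rows26600) rows27112) rows27624) rows28136) rows28648) rows29160) rows29672) rows30184) rows30696) rows31208) rows31720) rows32232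

end Cfsg.Agent.ONTable
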