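import Cfsg.Agent.Lib.ONTable.Data

/-!
# A part of the check of the table
-/

set_option autoImplicit false
set_option maxHeartbeats 0
set_option maxRecDepth 100000

noncomputable section

namespace Cfsg.Agent.ONTable

open Cfsg.Agent.InvCoset

theorem rows32736 : table.rowsChk seeds 32736 512 = true := by decide +kernel

theorem rows33248 : table.rowsChk seeds 33248 512 = true := by decide +kernel

theorem rows33760 : table.rowsChk seeds 33760 512 = true := by decide +kernel

theorem rows34272 : table.rowsChk seeds 34272 512 = true := by decide +kernel

theorem rows34784 : table.rowsChk seeds 34784 512 = true := by decide +kernel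

theorem rows35296 : table.rowsChk seeds 35296 512 = true := by decide +kernel

theorem rows35808 : table.rowsChk seeds 35808 512 = true := by decide +kernel

theorem rows36320 : table.rowsChk seeds 36320 512 = true := by decide +kernel

theorem rows36832 : table.rowsChk seeds 36832 512 = true := by decide +kernel

theorem rows37344 : table.rowsChk seeds 37344 512 = true := by decide +kernel

theorem rows37856 : table.rowsChk seeds 37856 512 = true := by decide +kernel

theorem rows38368 : table.rowsChk seeds 38368 512 = true := by decide +kernel

theorem rows38880 : table.rowsChk seeds 38880 512 = true := by decide +kernel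

theorem rows39392 : table.rowsChk seeds 39392 512 = true := by decide +kernel

theorem rows39904 : table.rowsChk seeds 39904 512 = true := by decide +kernel

theorem rows40416 : table.rowsChk seeds 40416 504 = true := by decide +kernel

theorem rowsUpTo4 (h : ∀ i < 32736, (table.nodeChk i && table.cellsChk seeds i table.K) = true) :
    ∀ i < 40920, (table.nodeChk i && table.cellsChk seeds i table.K) = true :=
  rows_add 40416 504 (rows_add 39904 512 (rows_add 39392 512 (rows_add 38880 512 (rows_add 38368 512 (rows_add 37856 512 (rows_add 37344 512 (rows_add 36832 512 (rows_add 36320 512 (rows_add 35808 512 (rows_add 35296 512 (rows_add 34784 512 (rows_add 34272 512 (rows_add 33760 512 (rows_add 33248 512 (rows_add 32736 512 (h) rows32736) rows33248) rows33760) rows34272) rows34784) rows35296) rows35808) rows36320) rows36832) rows37344) rows37856) rows38368) rows38880) rows39392) rows39904) rows40416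

end Cfsg.Agent.ONTable
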