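import Cfsg.Agent.Lib.ONTable.Data

/-!
# A part of the check of the table
-/

set_option autoImplicit false
set_option maxHeartbeats 0
set_option maxRecDepth 100000

noncomputable section

namespace Cfsg.Agent.ONTable

open Cfsg.Agent.InvCoset

theorem rows40920 : table.rowsChk seeds 40920 512 = true := by decide +kernel

theorem rows41432 : table.rowsChk seeds 41432 512 = true := by decide +kernel

theorem rows41944 : table.rowsChk seeds 41944 512 = true := by decide +kernel

theorem rows42456 : table.rowsChk seeds 42456 512 = true := by decide +kernel

theorem rows42968 : table.rowsChk seeds 42968 512 = true := by decide +kernel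

theorem rows43480 : table.rowsChk seeds 43480 512 = true := by decide +kernel

theorem rows43992 : table.rowsChk seeds 43992 512 = true := by decide +kernel

theorem rows44504 : table.rowsChk seeds 44504 512 = true := by decide +kernel

theorem rows45016 : table.rowsChk seeds 45016 512 = true := by decide +kernel

theorem rows45528 : table.rowsChk seeds 45528 512 = true := by decide +kernel

theorem rows46040 : table.rowsChk seeds 46040 512 = true := by decide +kernel

theorem rows46552 : table.rowsChk seeds 46552 512 = true := by decide +kernel

theorem rows47064 : table.rowsChk seeds 47064 512 = true := by decide +kernel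

theorem rows47576 : table.rowsChk seeds 47576 512 = true := by decide +kernel

theorem rows48088 : table.rowsChk seeds 48088 512 = true := by decide +kernel

theorem rows48600 : table.rowsChk seeds 48600 504 = true := by decide +kernel

theorem rowsUpTo5 (h : ∀ i < 40920, (table.nodeChk i && table.cellsChk seeds i table.K) = true) :
    ∀ i < 49104, (table.nodeChk i && table.cellsChk seeds i table.K) = true :=
  rows_add 48600 504 (rows_add 48088 512 (rows_add 47576 512 (rows_add 47064 512 (rows_add 46552 512 (rows_add 46040 512 (rows_add 45528 512 (rows_add 45016 512 (rows_add 44504 512 (rows_add 43992 512 (rows_add 43480 512 (rows_add 42968 512 (rows_add 42456 512 (rows_add 41944 512 (rows_add 41432 512 (rows_add 40920 512 (h) rows40920) rows41432) rows41944) rows42456) rows42968) rows43480) rows43992) rows44504) rows45016) rows45528) rows46040) rows46552) rows47064) rows47576) rows48088) rows48600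

end Cfsg.Agent.ONTable
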