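import Cfsg.Agent.Lib.ONTable.Data

/-!
# A part of the check of the table
-/

set_option autoImplicit false
set_option maxHeartbeats 0
set_option maxRecDepth 100000

noncomputable section

namespace Cfsg.Agent.ONTable

open Cfsg.Agent.InvCoset

theorem rows49104 : table.rowsChk seeds 49104 512 = true := by decide +kernel

theorem rows49616 : table.rowsChk seeds 49616 512 = true := by decide +kernel

theorem rows50128 : table.rowsChk seeds 50128 512 = true := by decide +kernel

theorem rows50640 : table.rowsChk seeds 50640 512 = true := by decide +kernel

theorem rows51152 : table.rowsChk seeds 51152 512 = true := by decide +kernel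

theorem rows51664 : table.rowsChk seeds 51664 512 = true := by decide +kernel

theorem rows52176 : table.rowsChk seeds 52176 512 = true := by decide +kernel

theorem rows52688 : table.rowsChk seeds 52688 512 = true := by decide +kernel

theorem rows53200 : table.rowsChk seeds 53200 512 = true := by decide +kernel

theorem rows53712 : table.rowsChk seeds 53712 512 = true := by decide +kernel

theorem rows54224 : table.rowsChk seeds 54224 512 = true := by decide +kernel

theorem rows54736 : table.rowsChk seeds 54736 512 = true := by decide +kernel

theorem rows55248 : table.rowsChk seeds 55248 512 = true := by decide +kernel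

theorem rows55760 : table.rowsChk seeds 55760 512 = true := by decide +kernel

theorem rows56272 : table.rowsChk seeds 56272 512 = true := by decide +kernel

theorem rows56784 : table.rowsChk seeds 56784 504 = true := by decide +kernel

theorem rowsUpTo6 (h : ∀ i < 49104, (table.nodeChk i && table.cellsChk seeds i table.K) = true) :
    ∀ i < 57288, (table.nodeChk i && table.cellsChk seeds i table.K) = true :=
  rows_add 56784 504 (rows_add 56272 512 (rows_add 55760 512 (rows_add 55248 512 (rows_add 54736 512 (rows_add 54224 512 (rows_add 53712 512 (rows_add 53200 512 (rows_add 52688 512 (rows_add 52176 512 (rows_add 51664 512 (rows_add 51152 512 (rows_add 50640 512 (rows_add 50128 512 (rows_add 49616 512 (rows_add 49104 512 (h) rows49104) rows49616) rows50128) rows50640) rows51152) rows51664) rows52176) rows52688) rows53200) rows53712) rows54224) rows54736) rows55248) rows55760) rows56272) rows56784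

end Cfsg.Agent.ONTable
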