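import Cfsg.Agent.Lib.ONTable.Data

/-!
# A part of the check of the table
-/

set_option autoImplicit false
set_option maxHeartbeats 0
set_option maxRecDepth 100000

noncomputable section

namespace Cfsg.Agent.ONTable

open Cfsg.Agent.InvCoset

theorem rows57288 : table.rowsChk seeds 57288 512 = true := by decide +kernel

theorem rows57800 : table.rowsChk seeds 57800 512 = true := by decide +kernel

theorem rows58312 : table.rowsChk seeds 58312 512 = true := by decide +kernel

theorem rows58824 : table.rowsChk seeds 58824 512 = true := by decide +kernel

theorem rows59336 : table.rowsChk seeds 59336 512 = true := by decide +kernel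

theorem rows59848 : table.rowsChk seeds 59848 512 = true := by decide +kernel

theorem rows60360 : table.rowsChk seeds 60360 512 = true := by decide +kernel

theorem rows60872 : table.rowsChk seeds 60872 512 = true := by decide +kernel

theorem rows61384 : table.rowsChk seeds 61384 512 = true := by decide +kernel

theorem rows61896 : table.rowsChk seeds 61896 512 = true := by decide +kernel

theorem rows62408 : table.rowsChk seeds 62408 512 = true := by decide +kernel

theorem rows62920 : table.rowsChk seeds 62920 512 = true := by decide +kernel

theorem rows63432 : table.rowsChk seeds 63432 512 = true := by decide +kernel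

theorem rows63944 : table.rowsChk seeds 63944 512 = true := by decide +kernel

theorem rows64456 : table.rowsChk seeds 64456 512 = true := by decide +kernel

theorem rows64968 : table.rowsChk seeds 64968 504 = true := by decide +kernel

theorem rowsUpTo7 (h : ∀ i < 57288, (table.nodeChk i && table.cellsChk seeds i table.K) = true) :
    ∀ i < 65472, (table.nodeChk i && table.cellsChk seeds i table.K) = true :=
  rows_add 64968 504 (rows_add 64456 512 (rows_add 63944 512 (rows_add 63432 512 (rows_add 62920 512 (rows_add 62408 512 (rows_add 61896 512 (rows_add 61384 512 (rows_add 60872 512 (rows_add 60360 512 (rows_add 59848 512 (rows_add 59336 512 (rows_add 58824 512 (rows_add 58312 512 (rows_add 57800 512 (rows_add 57288 512 (h) rows57288) rows57800) rows58312) rows58824) rows59336) rows59848) rows60360) rows60872) rows61384) rows61896) rows62408) rows62920) rows63432) rows63944) rows64456) rows64968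

end Cfsg.Agent.ONTable
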