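import Cfsg.Agent.Lib.ONTable.Data

/-!
# A part of the check of the table
-/

set_option autoImplicit false
set_option maxHeartbeats 0
set_option maxRecDepth 100000

noncomputable section

namespace Cfsg.Agent.ONTable

open Cfsg.Agent.InvCoset

theorem rows65472 : table.rowsChk seeds 65472 512 = true := by decide +kernel

theorem rows65984 : table.rowsChk seeds 65984 512 = true := by decide +kernel

theorem rows66496 : table.rowsChk seeds 66496 512 = true := by decide +kernel

theorem rows67008 : table.rowsChk seeds 67008 512 = true := by decide +kernel

theorem rows67520 : table.rowsChk seeds 67520 512 = true := by decide +kernel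

theorem rows68032 : table.rowsChk seeds 68032 512 = true := by decide +kernel

theorem rows68544 : table.rowsChk seeds 68544 512 = true := by decide +kernel

theorem rows69056 : table.rowsChk seeds 69056 512 = true := by decide +kernel

theorem rows69568 : table.rowsChk seeds 69568 512 = true := by decide +kernel

theorem rows70080 : table.rowsChk seeds 70080 512 = true := by decide +kernel

theorem rows70592 : table.rowsChk seeds 70592 512 = true := by decide +kernel

theorem rows71104 : table.rowsChk seeds 71104 512 = true := by decide +kernel

theorem rows71616 : table.rowsChk seeds 71616 512 = true := by decide +kernel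

theorem rows72128 : table.rowsChk seeds 72128 512 = true := by decide +kernel

theorem rows72640 : table.rowsChk seeds 72640 512 = true := by decide +kernel

theorem rows73152 : table.rowsChk seeds 73152 504 = true := by decide +kernel

theorem rowsUpTo8 (h : ∀ i < 65472, (table.nodeChk i && table.cellsChk seeds i table.K) = true) :
    ∀ i < 73656, (table.nodeChk i && table.cellsChk seeds i table.K) = true :=
  rows_add 73152 504 (rows_add 72640 512 (rows_add 72128 512 (rows_add 71616 512 (rows_add 71104 512 (rows_add 70592 512 (rows_add 70080 512 (rows_add 69568 512 (rows_add 69056 512 (rows_add 68544 512 (rows_add 68032 512 (rows_add 67520 512 (rows_add 67008 512 (rows_add 66496 512 (rows_add 65984 512 (rows_add 65472 512 (h) rows65472) rows65984) rows66496) rows67008) rows67520) rows68032) rows68544) rows69056) rows69568) rows70080) rows70592) rows71104) rows71616) rows72128) rows72640) rows73152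

end Cfsg.Agent.ONTable
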