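import Cfsg.Agent.Lib.ONTable.Data

/-!
# A part of the check of the table
-/

set_option autoImplicit false
set_option maxHeartbeats 0
set_option maxRecDepth 100000

noncomputable section

namespace Cfsg.Agent.ONTable

open Cfsg.Agent.InvCoset

theorem rows73656 : table.rowsChk seeds 73656 512 = true := by decide +kernel

theorem rows74168 : table.rowsChk seeds 74168 512 = true := by decide +kernel

theorem rows74680 : table.rowsChk seeds 74680 512 = true := by decide +kernel

theorem rows75192 : table.rowsChk seeds 75192 512 = true := by decide +kernel

theorem rows75704 : table.rowsChk seeds 75704 512 = true := by decide +kernel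

theorem rows76216 : table.rowsChk seeds 76216 512 = true := by decide +kernel

theorem rows76728 : table.rowsChk seeds 76728 512 = true := by decide +kernel

theorem rows77240 : table.rowsChk seeds 77240 512 = true := by decide +kernel

theorem rows77752 : table.rowsChk seeds 77752 512 = true := by decide +kernel

theorem rows78264 : table.rowsChk seeds 78264 512 = true := by decide +kernel

theorem rows78776 : table.rowsChk seeds 78776 512 = true := by decide +kernel

theorem rows79288 : table.rowsChk seeds 79288 512 = true := by decide +kernel

theorem rows79800 : table.rowsChk seeds 79800 512 = true := by decide +kernel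

theorem rows80312 : table.rowsChk seeds 80312 512 = true := by decide +kernel

theorem rows80824 : table.rowsChk seeds 80824 512 = true := by decide +kernel

theorem rows81336 : table.rowsChk seeds 81336 504 = true := by decide +kernel

theorem rowsUpTo9 (h : ∀ i < 73656, (table.nodeChk i && table.cellsChk seeds i table.K) = true) :
    ∀ i < 81840, (table.nodeChk i && table.cellsChk seeds i table.K) = true :=
  rows_add 81336 504 (rows_add 80824 512 (rows_add 80312 512 (rows_add 79800 512 (rows_add 79288 512 (rows_add 78776 512 (rows_add 78264 512 (rows_add 77752 512 (rows_add 77240 512 (rows_add 76728 512 (rows_add 76216 512 (rows_add 75704 512 (rows_add 75192 512 (rows_add 74680 512 (rows_add 74168 512 (rows_add 73656 512 (h) rows73656) rows74168) rows74680) rows75192) rows75704) rows76216) rows76728) rows77240) rows77752) rows78264) rows78776) rows79288) rows79800) rows80312) rows80824) rows81336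

end Cfsg.Agent.ONTable
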