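import Cfsg.Agent.Lib.ONTable.Rows0
import Cfsg.Agent.Lib.ONTable.Rows1
import Cfsg.Agent.Lib.ONTable.Rows2
import Cfsg.Agent.Lib.ONTable.Rows3
import Cfsg.Agent.Lib.ONTable.Rows4
import Cfsg.Agent.Lib.ONTable.Rows5
import Cfsg.Agent.Lib.ONTable.Rows6
import Cfsg.Agent.Lib.ONTable.Rows7
import Cfsg.Agent.Lib.ONTable.Rows8
import Cfsg.Agent.Lib.ONTable.Rows9
import Cfsg.Agent.Lib.ONTable.Rows10
import Cfsg.Agent.Lib.ONTable.Rows11
import Cfsg.Agent.Lib.ONTable.Rows12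
import Cfsg.Agent.Lib.ONTable.Rows13
import Cfsg.Agent.Lib.ONTable.Rows14

/-!
# The whole check
-/

set_option autoImplicit false
set_option maxHeartbeats 0
set_option maxRecDepth 100000

noncomputable section

namespace Cfsg.Agent.ONTable

open Cfsg.Agent.InvCoset

theorem rowsAll : ∀ i < 122760, (table.nodeChk i && table.cellsChk seeds i table.K) = true :=
  rowsUpTo14 (rowsUpTo13 (rowsUpTo12 (rowsUpTo11 (rowsUpTo10 (rowsUpTo9 (rowsUpTo8 (rowsUpTo7 (rowsUpTo6 (rowsUpTo5 (rowsUpTo4 (rowsUpTo3 (rowsUpTo2 (rowsUpTo1 (rowsUpTo0 (rows_zero table seeds)))))))))))))))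

end Cfsg.Agent.ONTable
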