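import Cfsg.Agent.Lib.InvCoset.Facts
import Cfsg.Agent.Lib.ONTable.Words

/-!
# A short proof that a word fixes a coset
-/

set_option autoImplicit false
set_option maxHeartbeats 0
set_option maxRecDepth 100000

noncomputable section

namespace Cfsg.Agent.ONTable

open Cfsg.Agent.InvCoset

def FG_0 : NTree := (.node 9 (.node 4 (.node 2 (.node 1 (.leaf 0x100000000000100000) (.leaf 0x200000020000200001)) (.node 1 (.leaf 0x300000000000300002) (.leaf 0x1000004000000000403000120000000003))) (.node 2 (.node 1 (.leaf 0x400000050000400001) (.leaf 0x500000000000500004)) (.node 1 (.leaf 0x2800010000000000603001150000000005) (.node 1 (.leaf 0x600000070000600004) (.leaf 0x3800010000000000703002170000000006))))) (.node 5 (.node 2 (.node 1 (.leaf 0x700000070000700003) (.leaf 0x800000030000800007)) (.node 1 (.leaf 0x900000070000900008) (.node 1 (.leaf 0xa00000030000a00009) (.leaf 0xb00000020000b0000a)))) (.node 2 (.node 1 (.leaf 0xc00000030000c0000b) (.leaf 0xd00000060000d0000c)) (.node 1 (.leaf 0xe00000030000e0000d) (.node 1 (.leaf 0x200000f00007000034000180000b00005000024000070000f0900316000000000e)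 (.leaf 0x8c000180000a0000f0300217000040000e))))))

def FG : NTree := FG_0

def CG : Facts where
  K := 8
  iv := iv
  R := [[2, 0, 2, 0],
  [5, 0, 5, 0],
  [7, 0, 5, 7],
  [6, 2, 7, 3, 7, 3, 2, 3, 6, 3]]
  S := []
  F := FG
  N := 19

theorem startG : fcM (CG.F.read 0) = 1 := by decide +kernel

theorem rotsG : subOf CG.R (allRots iv (W0 ++ Wsq)) = true := by decide +kernel

theorem partG0 : factsOK CG 0 19 = true := by decide +kernel

theorem allG : ∀ i < CG.N, factOK CG i = true :=
  facts_add 0 19 (facts_zero CG) partG0

def bodyG : ℕ := 0x110000940001e00011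

def goalG : List ℕ := [6, 6, 6, 6]

theorem loopG : follow CG.K CG.iv CG.F CG.N 4 bodyG 0 = some (0, goalG) := by decide +kernel

end Cfsg.Agent.ONTable
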