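import Cfsg.Agent.Lib.ONTable.OrbData

/-!
# A part of the check of the orbits
-/

set_option autoImplicit false
set_option maxHeartbeats 0
set_option maxRecDepth 100000

noncomputable section

namespace Cfsg.Agent.ONTable

open Cfsg.Agent.InvCoset

theorem orb30690 : table.orbsChk orbits 30690 512 = true := by decide +kernel

theorem cnt30690 : orbits.countLab 0 30690 512 = 0 ∧ orbits.countLab 1 30690 512 = 183 ∧ orbits.countLab 2 30690 512 = 33 ∧
    orbits.countLab 3 30690 512 = 285 ∧ orbits.countLab 4 30690 512 = 11 := by decide +kernel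

theorem orb31202 : table.orbsChk orbits 31202 512 = true := by decide +kernel

theorem cnt31202 : orbits.countLab 0 31202 512 = 0 ∧ orbits.countLab 1 31202 512 = 215 ∧ orbits.countLab 2 31202 512 = 14 ∧
    orbits.countLab 3 31202 512 = 259 ∧ orbits.countLab 4 31202 512 = 24 := by decide +kernel

theorem orb31714 : table.orbsChk orbits 31714 512 = true := by decide +kernel

theorem cnt31714 : orbits.countLab 0 31714 512 = 0 ∧ orbits.countLab 1 31714 512 = 248 ∧ orbits.countLab 2 31714 512 = 16 ∧
    orbits.countLab 3 31714 512 = 218 ∧ orbits.countLab 4 31714 512 = 30 := by decide +kernel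

theorem orb32226 : table.orbsChk orbits 32226 512 = true := by decide +kernel

theorem cnt32226 : orbits.countLab 0 32226 512 = 0 ∧ orbits.countLab 1 32226 512 = 255 ∧ orbits.countLab 2 32226 512 = 36 ∧
    orbits.countLab 3 32226 512 = 207 ∧ orbits.countLab 4 32226 512 = 14 := by decide +kernel

theorem orb32738 : table.orbsChk orbits 32738 512 = true := by decide +kernel

theorem cnt32738 : orbits.countLab 0 32738 512 = 0 ∧ orbits.countLab 1 32738 512 = 243 ∧ orbits.countLab 2 32738 512 = 45 ∧
    orbits.countLab 3 32738 512 = 192 ∧ orbits.countLab 4 32738 512 = 32 := by decide +kernel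

theorem orb33250 : table.orbsChk orbits 33250 512 = true := by decide +kernel

theorem cnt33250 : orbits.countLab 0 33250 512 = 0 ∧ orbits.countLab 1 33250 512 = 224 ∧ orbits.countLab 2 33250 512 = 36 ∧
    orbits.countLab 3 33250 512 = 222 ∧ orbits.countLab 4 33250 512 = 30 := by decide +kernel

theorem orb33762 : table.orbsChk orbits 33762 512 = true := by decide +kernel

theorem cnt33762 : orbits.countLab 0 33762 512 = 0 ∧ orbits.countLab 1 33762 512 = 215 ∧ orbits.countLab 2 33762 512 = 38 ∧
    orbits.countLab 3 33762 512 = 223 ∧ orbits.countLab 4 33762 512 = 36 := by decide +kernel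

theorem orb34274 : table.orbsChk orbits 34274 512 = true := by decide +kernel

theorem cnt34274 : orbits.countLab 0 34274 512 = 0 ∧ orbits.countLab 1 34274 512 = 240 ∧ orbits.countLab 2 34274 512 = 38 ∧
    orbits.countLab 3 34274 512 = 223 ∧ orbits.countLab 4 34274 512 = 11 := by decide +kernel

theorem orb34786 : table.orbsChk orbits 34786 512 = true := by decide +kernel

theorem cnt34786 : orbits.countLab 0 34786 512 = 0 ∧ orbits.countLab 1 34786 512 = 286 ∧ orbits.countLab 2 34786 512 = 22 ∧
    orbits.countLab 3 34786 512 = 198 ∧ orbits.countLab 4 34786 512 = 6 := by decide +kernel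

theorem orb35298 : table.orbsChk orbits 35298 512 = true := by decide +kernel

theorem cnt35298 : orbits.countLab 0 35298 512 = 0 ∧ orbits.countLab 1 35298 512 = 249 ∧ orbits.countLab 2 35298 512 = 5 ∧
    orbits.countLab 3 35298 512 = 243 ∧ orbits.countLab 4 35298 512 = 15 := by decide +kernel

theorem orb35810 : table.orbsChk orbits 35810 512 = true := by decide +kernel

theorem cnt35810 : orbits.countLab 0 35810 512 = 0 ∧ orbits.countLab 1 35810 512 = 291 ∧ orbits.countLab 2 35810 512 = 37 ∧
    orbits.countLab 3 35810 512 = 164 ∧ orbits.countLab 4 35810 512 = 20 := by decide +kernel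

theorem orb36322 : table.orbsChk orbits 36322 512 = true := by decide +kernel

theorem cnt36322 : orbits.countLab 0 36322 512 = 0 ∧ orbits.countLab 1 36322 512 = 281 ∧ orbits.countLab 2 36322 512 = 21 ∧
    orbits.countLab 3 36322 512 = 181 ∧ orbits.countLab 4 36322 512 = 29 := by decide +kernel

theorem orb36834 : table.orbsChk orbits 36834 512 = true := by decide +kernel

theorem cnt36834 : orbits.countLab 0 36834 512 = 0 ∧ orbits.countLab 1 36834 512 = 225 ∧ orbits.countLab 2 36834 512 = 31 ∧
    orbits.countLab 3 36834 512 = 210 ∧ orbits.countLab 4 36834 512 = 46 := by decide +kernel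

theorem orb37346 : table.orbsChk orbits 37346 512 = true := by decide +kernel

theorem cnt37346 : orbits.countLab 0 37346 512 = 0 ∧ orbits.countLab 1 37346 512 = 204 ∧ orbits.countLab 2 37346 512 = 44 ∧
    orbits.countLab 3 37346 512 = 205 ∧ orbits.countLab 4 37346 512 = 59 := by decide +kernel

theorem orb37858 : table.orbsChk orbits 37858 512 = true := by decide +kernel

theorem cnt37858 : orbits.countLab 0 37858 512 = 0 ∧ orbits.countLab 1 37858 512 = 255 ∧ orbits.countLab 2 37858 512 = 79 ∧
    orbits.countLab 3 37858 512 = 148 ∧ orbits.countLab 4 37858 512 = 30 := by decide +kernel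

theorem orb38370 : table.orbsChk orbits 38370 512 = true := by decide +kernel

theorem cnt38370 : orbits.countLab 0 38370 512 = 0 ∧ orbits.countLab 1 38370 512 = 251 ∧ orbits.countLab 2 38370 512 = 23 ∧
    orbits.countLab 3 38370 512 = 181 ∧ orbits.countLab 4 38370 512 = 57 := by decide +kernel

theorem orb38882 : table.orbsChk orbits 38882 512 = true := by decide +kernel

theorem cnt38882 : orbits.countLab 0 38882 512 = 0 ∧ orbits.countLab 1 38882 512 = 275 ∧ orbits.countLab 2 38882 512 = 12 ∧
    orbits.countLab 3 38882 512 = 164 ∧ orbits.countLab 4 38882 512 = 61 := by decide +kernel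

theorem orb39394 : table.orbsChk orbits 39394 512 = true := by decide +kernel

theorem cnt39394 : orbits.countLab 0 39394 512 = 0 ∧ orbits.countLab 1 39394 512 = 299 ∧ orbits.countLab 2 39394 512 = 16 ∧
    orbits.countLab 3 39394 512 = 133 ∧ orbits.countLab 4 39394 512 = 64 := by decide +kernel

theorem orb39906 : table.orbsChk orbits 39906 512 = true := by decide +kernel

theorem cnt39906 : orbits.countLab 0 39906 512 = 0 ∧ orbits.countLab 1 39906 512 = 290 ∧ orbits.countLab 2 39906 512 = 30 ∧
    orbits.countLab 3 39906 512 = 164 ∧ orbits.countLab 4 39906 512 = 28 := by decide +kernel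

theorem orb40418 : table.orbsChk orbits 40418 512 = true := by decide +kernel

theorem cnt40418 : orbits.countLab 0 40418 512 = 0 ∧ orbits.countLab 1 40418 512 = 366 ∧ orbits.countLab 2 40418 512 = 39 ∧
    orbits.countLab 3 40418 512 = 80 ∧ orbits.countLab 4 40418 512 = 27 := by decide +kernel

theorem orb40930 : table.orbsChk orbits 40930 512 = true := by decide +kernel

theorem cnt40930 : orbits.countLab 0 40930 512 = 0 ∧ orbits.countLab 1 40930 512 = 255 ∧ orbits.countLab 2 40930 512 = 8 ∧
    orbits.countLab 3 40930 512 = 237 ∧ orbits.countLab 4 40930 512 = 12 := by decide +kernel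

theorem orb41442 : table.orbsChk orbits 41442 512 = true := by decide +kernel

theorem cnt41442 : orbits.countLab 0 41442 512 = 0 ∧ orbits.countLab 1 41442 512 = 243 ∧ orbits.countLab 2 41442 512 = 20 ∧
    orbits.countLab 3 41442 512 = 238 ∧ orbits.countLab 4 41442 512 = 11 := by decide +kernel

theorem orb41954 : table.orbsChk orbits 41954 512 = true := by decide +kernel

theorem cnt41954 : orbits.countLab 0 41954 512 = 0 ∧ orbits.countLab 1 41954 512 = 290 ∧ orbits.countLab 2 41954 512 = 17 ∧
    orbits.countLab 3 41954 512 = 169 ∧ orbits.countLab 4 41954 512 = 36 := by decide +kernel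

theorem orb42466 : table.orbsChk orbits 42466 512 = true := by decide +kernel

theorem cnt42466 : orbits.countLab 0 42466 512 = 0 ∧ orbits.countLab 1 42466 512 = 238 ∧ orbits.countLab 2 42466 512 = 13 ∧
    orbits.countLab 3 42466 512 = 241 ∧ orbits.countLab 4 42466 512 = 20 := by decide +kernel

theorem orb42978 : table.orbsChk orbits 42978 512 = true := by decide +kernel

theorem cnt42978 : orbits.countLab 0 42978 512 = 0 ∧ orbits.countLab 1 42978 512 = 282 ∧ orbits.countLab 2 42978 512 = 15 ∧
    orbits.countLab 3 42978 512 = 202 ∧ orbits.countLab 4 42978 512 = 13 := by decide +kernel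

theorem orb43490 : table.orbsChk orbits 43490 512 = true := by decide +kernel

theorem cnt43490 : orbits.countLab 0 43490 512 = 0 ∧ orbits.countLab 1 43490 512 = 241 ∧ orbits.countLab 2 43490 512 = 17 ∧
    orbits.countLab 3 43490 512 = 237 ∧ orbits.countLab 4 43490 512 = 17 := by decide +kernel

theorem orb44002 : table.orbsChk orbits 44002 512 = true := by decide +kernel

theorem cnt44002 : orbits.countLab 0 44002 512 = 0 ∧ orbits.countLab 1 44002 512 = 274 ∧ orbits.countLab 2 44002 512 = 7 ∧
    orbits.countLab 3 44002 512 = 219 ∧ orbits.countLab 4 44002 512 = 12 := by decide +kernel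

theorem orb44514 : table.orbsChk orbits 44514 512 = true := by decide +kernel

theorem cnt44514 : orbits.countLab 0 44514 512 = 0 ∧ orbits.countLab 1 44514 512 = 260 ∧ orbits.countLab 2 44514 512 = 26 ∧
    orbits.countLab 3 44514 512 = 205 ∧ orbits.countLab 4 44514 512 = 21 := by decide +kernel

theorem orb45026 : table.orbsChk orbits 45026 512 = true := by decide +kernel

theorem cnt45026 : orbits.countLab 0 45026 512 = 0 ∧ orbits.countLab 1 45026 512 = 250 ∧ orbits.countLab 2 45026 512 = 19 ∧
    orbits.countLab 3 45026 512 = 222 ∧ orbits.countLab 4 45026 512 = 21 := by decide +kernel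

theorem orb45538 : table.orbsChk orbits 45538 512 = true := by decide +kernel

theorem cnt45538 : orbits.countLab 0 45538 512 = 0 ∧ orbits.countLab 1 45538 512 = 264 ∧ orbits.countLab 2 45538 512 = 35 ∧
    orbits.countLab 3 45538 512 = 185 ∧ orbits.countLab 4 45538 512 = 28 := by decide +kernel

theorem orb46050 : table.orbsChk orbits 46050 512 = true := by decide +kernel

theorem cnt46050 : orbits.countLab 0 46050 512 = 0 ∧ orbits.countLab 1 46050 512 = 287 ∧ orbits.countLab 2 46050 512 = 22 ∧
    orbits.countLab 3 46050 512 = 170 ∧ orbits.countLab 4 46050 512 = 33 := by decide +kernel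

theorem orb46562 : table.orbsChk orbits 46562 512 = true := by decide +kernel

theorem cnt46562 : orbits.countLab 0 46562 512 = 0 ∧ orbits.countLab 1 46562 512 = 216 ∧ orbits.countLab 2 46562 512 = 53 ∧
    orbits.countLab 3 46562 512 = 209 ∧ orbits.countLab 4 46562 512 = 34 := by decide +kernel

theorem orb47074 : table.orbsChk orbits 47074 512 = true := by decide +kernel

theorem cnt47074 : orbits.countLab 0 47074 512 = 0 ∧ orbits.countLab 1 47074 512 = 225 ∧ orbits.countLab 2 47074 512 = 35 ∧
    orbits.countLab 3 47074 512 = 245 ∧ orbits.countLab 4 47074 512 = 7 := by decide +kernel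

theorem orb47586 : table.orbsChk orbits 47586 512 = true := by decide +kernel

theorem cnt47586 : orbits.countLab 0 47586 512 = 0 ∧ orbits.countLab 1 47586 512 = 292 ∧ orbits.countLab 2 47586 512 = 15 ∧
    orbits.countLab 3 47586 512 = 198 ∧ orbits.countLab 4 47586 512 = 7 := by decide +kernel

theorem orb48098 : table.orbsChk orbits 48098 512 = true := by decide +kernel

theorem cnt48098 : orbits.countLab 0 48098 512 = 0 ∧ orbits.countLab 1 48098 512 = 216 ∧ orbits.countLab 2 48098 512 = 18 ∧
    orbits.countLab 3 48098 512 = 260 ∧ orbits.countLab 4 48098 512 = 18 := by decide +kernel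

theorem orb48610 : table.orbsChk orbits 48610 512 = true := by decide +kernel

theorem cnt48610 : orbits.countLab 0 48610 512 = 0 ∧ orbits.countLab 1 48610 512 = 233 ∧ orbits.countLab 2 48610 512 = 2 ∧
    orbits.countLab 3 48610 512 = 252 ∧ orbits.countLab 4 48610 512 = 25 := by decide +kernel

theorem orb49122 : table.orbsChk orbits 49122 512 = true := by decide +kernel

theorem cnt49122 : orbits.countLab 0 49122 512 = 0 ∧ orbits.countLab 1 49122 512 = 226 ∧ orbits.countLab 2 49122 512 = 16 ∧
    orbits.countLab 3 49122 512 = 232 ∧ orbits.countLab 4 49122 512 = 38 := by decide +kernel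

theorem orb49634 : table.orbsChk orbits 49634 512 = true := by decide +kernel

theorem cnt49634 : orbits.countLab 0 49634 512 = 0 ∧ orbits.countLab 1 49634 512 = 185 ∧ orbits.countLab 2 49634 512 = 22 ∧
    orbits.countLab 3 49634 512 = 272 ∧ orbits.countLab 4 49634 512 = 33 := by decide +kernel

theorem orb50146 : table.orbsChk orbits 50146 512 = true := by decide +kernel

theorem cnt50146 : orbits.countLab 0 50146 512 = 0 ∧ orbits.countLab 1 50146 512 = 241 ∧ orbits.countLab 2 50146 512 = 41 ∧
    orbits.countLab 3 50146 512 = 213 ∧ orbits.countLab 4 50146 512 = 17 := by decide +kernel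

theorem orb50658 : table.orbsChk orbits 50658 512 = true := by decide +kernel

theorem cnt50658 : orbits.countLab 0 50658 512 = 0 ∧ orbits.countLab 1 50658 512 = 244 ∧ orbits.countLab 2 50658 512 = 4 ∧
    orbits.countLab 3 50658 512 = 233 ∧ orbits.countLab 4 50658 512 = 31 := by decide +kernel

theorem orb51170 : table.orbsChk orbits 51170 512 = true := by decide +kernel

theorem cnt51170 : orbits.countLab 0 51170 512 = 0 ∧ orbits.countLab 1 51170 512 = 273 ∧ orbits.countLab 2 51170 512 = 22 ∧
    orbits.countLab 3 51170 512 = 183 ∧ orbits.countLab 4 51170 512 = 34 := by decide +kernel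

theorem orb51682 : table.orbsChk orbits 51682 512 = true := by decide +kernel

theorem cnt51682 : orbits.countLab 0 51682 512 = 0 ∧ orbits.countLab 1 51682 512 = 177 ∧ orbits.countLab 2 51682 512 = 33 ∧
    orbits.countLab 3 51682 512 = 266 ∧ orbits.countLab 4 51682 512 = 36 := by decide +kernel

theorem orb52194 : table.orbsChk orbits 52194 512 = true := by decide +kernel

theorem cnt52194 : orbits.countLab 0 52194 512 = 0 ∧ orbits.countLab 1 52194 512 = 190 ∧ orbits.countLab 2 52194 512 = 24 ∧
    orbits.countLab 3 52194 512 = 223 ∧ orbits.countLab 4 52194 512 = 75 := by decide +kernel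

theorem orb52706 : table.orbsChk orbits 52706 512 = true := by decide +kernel

theorem cnt52706 : orbits.countLab 0 52706 512 = 0 ∧ orbits.countLab 1 52706 512 = 299 ∧ orbits.countLab 2 52706 512 = 26 ∧
    orbits.countLab 3 52706 512 = 167 ∧ orbits.countLab 4 52706 512 = 20 := by decide +kernel

theorem orb53218 : table.orbsChk orbits 53218 512 = true := by decide +kernel

theorem cnt53218 : orbits.countLab 0 53218 512 = 0 ∧ orbits.countLab 1 53218 512 = 278 ∧ orbits.countLab 2 53218 512 = 33 ∧
    orbits.countLab 3 53218 512 = 188 ∧ orbits.countLab 4 53218 512 = 13 := by decide +kernel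

theorem orb53730 : table.orbsChk orbits 53730 512 = true := by decide +kernel

theorem cnt53730 : orbits.countLab 0 53730 512 = 0 ∧ orbits.countLab 1 53730 512 = 239 ∧ orbits.countLab 2 53730 512 = 1 ∧
    orbits.countLab 3 53730 512 = 265 ∧ orbits.countLab 4 53730 512 = 7 := by decide +kernel

theorem orb54242 : table.orbsChk orbits 54242 512 = true := by decide +kernel

theorem cnt54242 : orbits.countLab 0 54242 512 = 0 ∧ orbits.countLab 1 54242 512 = 172 ∧ orbits.countLab 2 54242 512 = 36 ∧
    orbits.countLab 3 54242 512 = 303 ∧ orbits.countLab 4 54242 512 = 1 := by decide +kernel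

theorem orb54754 : table.orbsChk orbits 54754 512 = true := by decide +kernel

theorem cnt54754 : orbits.countLab 0 54754 512 = 0 ∧ orbits.countLab 1 54754 512 = 177 ∧ orbits.countLab 2 54754 512 = 18 ∧
    orbits.countLab 3 54754 512 = 286 ∧ orbits.countLab 4 54754 512 = 31 := by decide +kernel

theorem orb55266 : table.orbsChk orbits 55266 512 = true := by decide +kernel

theorem cnt55266 : orbits.countLab 0 55266 512 = 0 ∧ orbits.countLab 1 55266 512 = 224 ∧ orbits.countLab 2 55266 512 = 18 ∧
    orbits.countLab 3 55266 512 = 246 ∧ orbits.countLab 4 55266 512 = 24 := by decide +kernel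

theorem orb55778 : table.orbsChk orbits 55778 512 = true := by decide +kernel

theorem cnt55778 : orbits.countLab 0 55778 512 = 0 ∧ orbits.countLab 1 55778 512 = 242 ∧ orbits.countLab 2 55778 512 = 23 ∧
    orbits.countLab 3 55778 512 = 229 ∧ orbits.countLab 4 55778 512 = 18 := by decide +kernel

theorem orb56290 : table.orbsChk orbits 56290 512 = true := by decide +kernel

theorem cnt56290 : orbits.countLab 0 56290 512 = 0 ∧ orbits.countLab 1 56290 512 = 244 ∧ orbits.countLab 2 56290 512 = 23 ∧
    orbits.countLab 3 56290 512 = 237 ∧ orbits.countLab 4 56290 512 = 8 := by decide +kernel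

theorem orb56802 : table.orbsChk orbits 56802 512 = true := by decide +kernel

theorem cnt56802 : orbits.countLab 0 56802 512 = 0 ∧ orbits.countLab 1 56802 512 = 275 ∧ orbits.countLab 2 56802 512 = 21 ∧
    orbits.countLab 3 56802 512 = 199 ∧ orbits.countLab 4 56802 512 = 17 := by decide +kernel

theorem orb57314 : table.orbsChk orbits 57314 512 = true := by decide +kernel

theorem cnt57314 : orbits.countLab 0 57314 512 = 0 ∧ orbits.countLab 1 57314 512 = 257 ∧ orbits.countLab 2 57314 512 = 6 ∧
    orbits.countLab 3 57314 512 = 213 ∧ orbits.countLab 4 57314 512 = 36 := by decide +kernel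

theorem orb57826 : table.orbsChk orbits 57826 512 = true := by decide +kernel

theorem cnt57826 : orbits.countLab 0 57826 512 = 0 ∧ orbits.countLab 1 57826 512 = 274 ∧ orbits.countLab 2 57826 512 = 22 ∧
    orbits.countLab 3 57826 512 = 188 ∧ orbits.countLab 4 57826 512 = 28 := by decide +kernel

theorem orb58338 : table.orbsChk orbits 58338 512 = true := by decide +kernel

theorem cnt58338 : orbits.countLab 0 58338 512 = 0 ∧ orbits.countLab 1 58338 512 = 241 ∧ orbits.countLab 2 58338 512 = 23 ∧
    orbits.countLab 3 58338 512 = 219 ∧ orbits.countLab 4 58338 512 = 29 := by decide +kernel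

theorem orb58850 : table.orbsChk orbits 58850 512 = true := by decide +kernel

theorem cnt58850 : orbits.countLab 0 58850 512 = 0 ∧ orbits.countLab 1 58850 512 = 268 ∧ orbits.countLab 2 58850 512 = 18 ∧
    orbits.countLab 3 58850 512 = 193 ∧ orbits.countLab 4 58850 512 = 33 := by decide +kernel

theorem orb59362 : table.orbsChk orbits 59362 512 = true := by decide +kernel

theorem cnt59362 : orbits.countLab 0 59362 512 = 0 ∧ orbits.countLab 1 59362 512 = 202 ∧ orbits.countLab 2 59362 512 = 31 ∧
    orbits.countLab 3 59362 512 = 257 ∧ orbits.countLab 4 59362 512 = 22 := by decide +kernel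

theorem orb59874 : table.orbsChk orbits 59874 512 = true := by decide +kernel

theorem cnt59874 : orbits.countLab 0 59874 512 = 0 ∧ orbits.countLab 1 59874 512 = 284 ∧ orbits.countLab 2 59874 512 = 68 ∧
    orbits.countLab 3 59874 512 = 141 ∧ orbits.countLab 4 59874 512 = 19 := by decide +kernel

theorem orb60386 : table.orbsChk orbits 60386 512 = true := by decide +kernel

theorem cnt60386 : orbits.countLab 0 60386 512 = 0 ∧ orbits.countLab 1 60386 512 = 262 ∧ orbits.countLab 2 60386 512 = 26 ∧
    orbits.countLab 3 60386 512 = 211 ∧ orbits.countLab 4 60386 512 = 13 := by decide +kernel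

theorem orb60898 : table.orbsChk orbits 60898 482 = true := by decide +kernel

theorem cnt60898 : orbits.countLab 0 60898 482 = 0 ∧ orbits.countLab 1 60898 482 = 186 ∧ orbits.countLab 2 60898 482 = 27 ∧
    orbits.countLab 3 60898 482 = 246 ∧ orbits.countLab 4 60898 482 = 23 := by decide +kernel

theorem orbUpTo1 (h : ∀ i < 30690, table.orbChk orbits i = true) :
    ∀ i < 61380, table.orbChk orbits i = true :=
  orbs_add 60898 482 (orbs_add 60386 512 (orbs_add 59874 512 (orbs_add 59362 512 (orbs_add 58850 512 (orbs_add 58338 512 (orbs_add 57826 512 (orbs_add 57314 512 (orbs_add 56802 512 (orbs_add 56290 512 (orbs_add 55778 512 (orbs_add 55266 512 (orbs_add 54754 512 (orbs_add 54242 512 (orbs_add 53730 512 (orbs_add 53218 512 (orbs_add 52706 512 (orbs_add 52194 512 (orbs_add 51682 512 (orbs_add 51170 512 (orbs_add 50658 512 (orbs_add 50146 512 (orbs_add 49634 512 (orbs_add 49122 512 (orbs_add 48610 512 (orbs_add 48098 512 (orbs_add 47586 512 (orbs_add 47074 512 (orbs_add 46562 512 (orbs_add 46050 512 (orbs_add 45538 512 (orbs_add 45026 512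 (orbs_add 44514 512 (orbs_add 44002 512 (orbs_add 43490 512 (orbs_add 42978 512 (orbs_add 42466 512 (orbs_add 41954 512 (orbs_add 41442 512 (orbs_add 40930 512 (orbs_add 40418 512 (orbs_add 39906 512 (orbs_add 39394 512 (orbs_add 38882 512 (orbs_add 38370 512 (orbs_add 37858 512 (orbs_add 37346 512 (orbs_add 36834 512 (orbs_add 36322 512 (orbs_add 35810 512 (orbs_add 35298 512 (orbs_add 34786 512 (orbs_add 34274 512 (orbs_add 33762 512 (orbs_add 33250 512 (orbs_add 32738 512 (orbs_add 32226 512 (orbs_add 31714 512 (orbs_add 31202 512 (orbs_add 30690 512 (h) orb30690) orb31202) orb31714) orb32226) orb32738) orb33250) orb33762) orb34274) orb34786) orb35298) orb35810) orb36322) orb36834) orb37346) orb37858) orb38370) orb38882) orb39394) orb39906) orb40418) orb40930) orb41442) orb41954) orb42466) orb42978) orb43490) orb44002) orb44514) orb45026) orb45538) orb46050) orb46562) orb47074) orb47586) orb48098) orb48610) orb49122) orb49634) orb50146) orb50658) orb51170) orb51682) orb52194) orb52706) orb53218) orb53730) orb54242) orb54754) orb55266)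 orb55778) orb56290) orb56802) orb57314) orb57826) orb58338) orb58850) orb59362) orb59874) orb60386) orb60898

theorem count0UpTo1 (h : ((Finset.range 30690).filter fun c => orbits.lab c = 0).card = 1) :
    ((Finset.range 61380).filter fun c => orbits.lab c = 0).card = 1 :=
  count_add 60898 482 (count_add 60386 512 (count_add 59874 512 (count_add 59362 512 (count_add 58850 512 (count_add 58338 512 (count_add 57826 512 (count_add 57314 512 (count_add 56802 512 (count_add 56290 512 (count_add 55778 512 (count_add 55266 512 (count_add 54754 512 (count_add 54242 512 (count_add 53730 512 (count_add 53218 512 (count_add 52706 512 (count_add 52194 512 (count_add 51682 512 (count_add 51170 512 (count_add 50658 512 (count_add 50146 512 (count_add 49634 512 (count_add 49122 512 (count_add 48610 512 (count_add 48098 512 (count_add 47586 512 (count_add 47074 512 (count_add 46562 512 (count_add 46050 512 (count_add 45538 512 (count_add 45026 512 (count_add 44514 512 (count_add 44002 512 (count_add 43490 512 (count_add 42978 512 (count_add 42466 512 (count_add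 41954 512 (count_add 41442 512 (count_add 40930 512 (count_add 40418 512 (count_add 39906 512 (count_add 39394 512 (count_add 38882 512 (count_add 38370 512 (count_add 37858 512 (count_add 37346 512 (count_add 36834 512 (count_add 36322 512 (count_add 35810 512 (count_add 35298 512 (count_add 34786 512 (count_add 34274 512 (count_add 33762 512 (count_add 33250 512 (count_add 32738 512 (count_add 32226 512 (count_add 31714 512 (count_add 31202 512 (count_add 30690 512 (h) cnt30690.1) cnt31202.1) cnt31714.1) cnt32226.1) cnt32738.1) cnt33250.1) cnt33762.1) cnt34274.1) cnt34786.1) cnt35298.1) cnt35810.1) cnt36322.1) cnt36834.1) cnt37346.1) cnt37858.1) cnt38370.1) cnt38882.1) cnt39394.1) cnt39906.1) cnt40418.1) cnt40930.1) cnt41442.1) cnt41954.1) cnt42466.1) cnt42978.1) cnt43490.1) cnt44002.1) cnt44514.1) cnt45026.1) cnt45538.1) cnt46050.1) cnt46562.1) cnt47074.1) cnt47586.1) cnt48098.1) cnt48610.1) cnt49122.1) cnt49634.1) cnt50146.1) cnt50658.1) cnt51170.1) cnt51682.1) cnt52194.1) cnt52706.1) cnt53218.1) cnt53730.1) cnt54242.1) cnt54754.1) cnt55266.1)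 cnt55778.1) cnt56290.1) cnt56802.1) cnt57314.1) cnt57826.1) cnt58338.1) cnt58850.1) cnt59362.1) cnt59874.1) cnt60386.1) cnt60898.1

theorem count1UpTo1 (h : ((Finset.range 30690).filter fun c => orbits.lab c = 1).card = 13245) :
    ((Finset.range 61380).filter fun c => orbits.lab c = 1).card = 28066 :=
  count_add 60898 482 (count_add 60386 512 (count_add 59874 512 (count_add 59362 512 (count_add 58850 512 (count_add 58338 512 (count_add 57826 512 (count_add 57314 512 (count_add 56802 512 (count_add 56290 512 (count_add 55778 512 (count_add 55266 512 (count_add 54754 512 (count_add 54242 512 (count_add 53730 512 (count_add 53218 512 (count_add 52706 512 (count_add 52194 512 (count_add 51682 512 (count_add 51170 512 (count_add 50658 512 (count_add 50146 512 (count_add 49634 512 (count_add 49122 512 (count_add 48610 512 (count_add 48098 512 (count_add 47586 512 (count_add 47074 512 (count_add 46562 512 (count_add 46050 512 (count_add 45538 512 (count_add 45026 512 (count_add 44514 512 (count_add 44002 512 (count_add 43490 512 (count_add 42978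 512 (count_add 42466 512 (count_add 41954 512 (count_add 41442 512 (count_add 40930 512 (count_add 40418 512 (count_add 39906 512 (count_add 39394 512 (count_add 38882 512 (count_add 38370 512 (count_add 37858 512 (count_add 37346 512 (count_add 36834 512 (count_add 36322 512 (count_add 35810 512 (count_add 35298 512 (count_add 34786 512 (count_add 34274 512 (count_add 33762 512 (count_add 33250 512 (count_add 32738 512 (count_add 32226 512 (count_add 31714 512 (count_add 31202 512 (count_add 30690 512 (h) cnt30690.2.1) cnt31202.2.1) cnt31714.2.1) cnt32226.2.1) cnt32738.2.1) cnt33250.2.1) cnt33762.2.1) cnt34274.2.1) cnt34786.2.1) cnt35298.2.1) cnt35810.2.1) cnt36322.2.1) cnt36834.2.1) cnt37346.2.1) cnt37858.2.1) cnt38370.2.1) cnt38882.2.1) cnt39394.2.1) cnt39906.2.1) cnt40418.2.1) cnt40930.2.1) cnt41442.2.1) cnt41954.2.1) cnt42466.2.1) cnt42978.2.1) cnt43490.2.1) cnt44002.2.1) cnt44514.2.1) cnt45026.2.1) cnt45538.2.1) cnt46050.2.1) cnt46562.2.1) cnt47074.2.1) cnt47586.2.1) cnt48098.2.1) cnt48610.2.1) cnt49122.2.1) cnt49634.2.1) cnt50146.2.1)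 cnt50658.2.1) cnt51170.2.1) cnt51682.2.1) cnt52194.2.1) cnt52706.2.1) cnt53218.2.1) cnt53730.2.1) cnt54242.2.1) cnt54754.2.1) cnt55266.2.1) cnt55778.2.1) cnt56290.2.1) cnt56802.2.1) cnt57314.2.1) cnt57826.2.1) cnt58338.2.1) cnt58850.2.1) cnt59362.2.1) cnt59874.2.1) cnt60386.2.1) cnt60898.2.1

theorem count2UpTo1 (h : ((Finset.range 30690).filter fun c => orbits.lab c = 2).card = 1547) :
    ((Finset.range 61380).filter fun c => orbits.lab c = 2).card = 3066 :=
  count_add 60898 482 (count_add 60386 512 (count_add 59874 512 (count_add 59362 512 (count_add 58850 512 (count_add 58338 512 (count_add 57826 512 (count_add 57314 512 (count_add 56802 512 (count_add 56290 512 (count_add 55778 512 (count_add 55266 512 (count_add 54754 512 (count_add 54242 512 (count_add 53730 512 (count_add 53218 512 (count_add 52706 512 (count_add 52194 512 (count_add 51682 512 (count_add 51170 512 (count_add 50658 512 (count_add 50146 512 (count_add 49634 512 (count_add 49122 512 (count_add 48610 512 (count_add 48098 512 (count_add 47586 512 (count_add 47074 512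 (count_add 46562 512 (count_add 46050 512 (count_add 45538 512 (count_add 45026 512 (count_add 44514 512 (count_add 44002 512 (count_add 43490 512 (count_add 42978 512 (count_add 42466 512 (count_add 41954 512 (count_add 41442 512 (count_add 40930 512 (count_add 40418 512 (count_add 39906 512 (count_add 39394 512 (count_add 38882 512 (count_add 38370 512 (count_add 37858 512 (count_add 37346 512 (count_add 36834 512 (count_add 36322 512 (count_add 35810 512 (count_add 35298 512 (count_add 34786 512 (count_add 34274 512 (count_add 33762 512 (count_add 33250 512 (count_add 32738 512 (count_add 32226 512 (count_add 31714 512 (count_add 31202 512 (count_add 30690 512 (h) cnt30690.2.2.1) cnt31202.2.2.1) cnt31714.2.2.1) cnt32226.2.2.1) cnt32738.2.2.1) cnt33250.2.2.1) cnt33762.2.2.1) cnt34274.2.2.1) cnt34786.2.2.1) cnt35298.2.2.1) cnt35810.2.2.1) cnt36322.2.2.1) cnt36834.2.2.1) cnt37346.2.2.1) cnt37858.2.2.1) cnt38370.2.2.1) cnt38882.2.2.1) cnt39394.2.2.1) cnt39906.2.2.1) cnt40418.2.2.1) cnt40930.2.2.1) cnt41442.2.2.1) cnt41954.2.2.1) cnt42466.2.2.1)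 cnt42978.2.2.1) cnt43490.2.2.1) cnt44002.2.2.1) cnt44514.2.2.1) cnt45026.2.2.1) cnt45538.2.2.1) cnt46050.2.2.1) cnt46562.2.2.1) cnt47074.2.2.1) cnt47586.2.2.1) cnt48098.2.2.1) cnt48610.2.2.1) cnt49122.2.2.1) cnt49634.2.2.1) cnt50146.2.2.1) cnt50658.2.2.1) cnt51170.2.2.1) cnt51682.2.2.1) cnt52194.2.2.1) cnt52706.2.2.1) cnt53218.2.2.1) cnt53730.2.2.1) cnt54242.2.2.1) cnt54754.2.2.1) cnt55266.2.2.1) cnt55778.2.2.1) cnt56290.2.2.1) cnt56802.2.2.1) cnt57314.2.2.1) cnt57826.2.2.1) cnt58338.2.2.1) cnt58850.2.2.1) cnt59362.2.2.1) cnt59874.2.2.1) cnt60386.2.2.1) cnt60898.2.2.1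

theorem count3UpTo1 (h : ((Finset.range 30690).filter fun c => orbits.lab c = 3).card = 14060) :
    ((Finset.range 61380).filter fun c => orbits.lab c = 3).card = 26859 :=
  count_add 60898 482 (count_add 60386 512 (count_add 59874 512 (count_add 59362 512 (count_add 58850 512 (count_add 58338 512 (count_add 57826 512 (count_add 57314 512 (count_add 56802 512 (count_add 56290 512 (count_add 55778 512 (count_add 55266 512 (count_add 54754 512 (count_add 54242 512 (count_add 53730 512 (count_add 53218 512 (count_add 52706 512 (count_add 52194 512 (count_add 51682 512 (count_add 51170 512 (count_add 50658 512 (count_add 50146 512 (count_add 49634 512 (count_add 49122 512 (count_add 48610 512 (count_add 48098 512 (count_add 47586 512 (count_add 47074 512 (count_add 46562 512 (count_add 46050 512 (count_add 45538 512 (count_add 45026 512 (count_add 44514 512 (count_add 44002 512 (count_add 43490 512 (count_add 42978 512 (count_add 42466 512 (count_add 41954 512 (count_add 41442 512 (count_add 40930 512 (count_add 40418 512 (count_add 39906 512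 (count_add 39394 512 (count_add 38882 512 (count_add 38370 512 (count_add 37858 512 (count_add 37346 512 (count_add 36834 512 (count_add 36322 512 (count_add 35810 512 (count_add 35298 512 (count_add 34786 512 (count_add 34274 512 (count_add 33762 512 (count_add 33250 512 (count_add 32738 512 (count_add 32226 512 (count_add 31714 512 (count_add 31202 512 (count_add 30690 512 (h) cnt30690.2.2.2.1) cnt31202.2.2.2.1) cnt31714.2.2.2.1) cnt32226.2.2.2.1) cnt32738.2.2.2.1) cnt33250.2.2.2.1) cnt33762.2.2.2.1) cnt34274.2.2.2.1) cnt34786.2.2.2.1) cnt35298.2.2.2.1) cnt35810.2.2.2.1) cnt36322.2.2.2.1) cnt36834.2.2.2.1) cnt37346.2.2.2.1) cnt37858.2.2.2.1) cnt38370.2.2.2.1) cnt38882.2.2.2.1) cnt39394.2.2.2.1) cnt39906.2.2.2.1) cnt40418.2.2.2.1) cnt40930.2.2.2.1) cnt41442.2.2.2.1) cnt41954.2.2.2.1) cnt42466.2.2.2.1) cnt42978.2.2.2.1) cnt43490.2.2.2.1) cnt44002.2.2.2.1) cnt44514.2.2.2.1) cnt45026.2.2.2.1) cnt45538.2.2.2.1) cnt46050.2.2.2.1) cnt46562.2.2.2.1) cnt47074.2.2.2.1) cnt47586.2.2.2.1) cnt48098.2.2.2.1) cnt48610.2.2.2.1) cnt49122.2.2.2.1) cnt49634.2.2.2.1)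 cnt50146.2.2.2.1) cnt50658.2.2.2.1) cnt51170.2.2.2.1) cnt51682.2.2.2.1) cnt52194.2.2.2.1) cnt52706.2.2.2.1) cnt53218.2.2.2.1) cnt53730.2.2.2.1) cnt54242.2.2.2.1) cnt54754.2.2.2.1) cnt55266.2.2.2.1) cnt55778.2.2.2.1) cnt56290.2.2.2.1) cnt56802.2.2.2.1) cnt57314.2.2.2.1) cnt57826.2.2.2.1) cnt58338.2.2.2.1) cnt58850.2.2.2.1) cnt59362.2.2.2.1) cnt59874.2.2.2.1) cnt60386.2.2.2.1) cnt60898.2.2.2.1

theorem count4UpTo1 (h : ((Finset.range 30690).filter fun c => orbits.lab c = 4).card = 1837) :
    ((Finset.range 61380).filter fun c => orbits.lab c = 4).card = 3388 :=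
  count_add 60898 482 (count_add 60386 512 (count_add 59874 512 (count_add 59362 512 (count_add 58850 512 (count_add 58338 512 (count_add 57826 512 (count_add 57314 512 (count_add 56802 512 (count_add 56290 512 (count_add 55778 512 (count_add 55266 512 (count_add 54754 512 (count_add 54242 512 (count_add 53730 512 (count_add 53218 512 (count_add 52706 512 (count_add 52194 512 (count_add 51682 512 (count_add 51170 512 (count_add 50658 512 (count_add 50146 512 (count_add 49634 512 (count_add 49122 512 (count_add 48610 512 (count_add 48098 512 (count_add 47586 512 (count_add 47074 512 (count_add 46562 512 (count_add 46050 512 (count_add 45538 512 (count_add 45026 512 (count_add 44514 512 (count_add 44002 512 (count_add 43490 512 (count_add 42978 512 (count_add 42466 512 (count_add 41954 512 (count_add 41442 512 (count_add 40930 512 (count_add 40418 512 (count_add 39906 512 (count_add 39394 512 (count_add 38882 512 (count_add 38370 512 (count_add 37858 512 (count_add 37346 512 (count_add 36834 512 (count_add 36322 512 (count_add 35810 512 (count_add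 35298 512 (count_add 34786 512 (count_add 34274 512 (count_add 33762 512 (count_add 33250 512 (count_add 32738 512 (count_add 32226 512 (count_add 31714 512 (count_add 31202 512 (count_add 30690 512 (h) cnt30690.2.2.2.2) cnt31202.2.2.2.2) cnt31714.2.2.2.2) cnt32226.2.2.2.2) cnt32738.2.2.2.2) cnt33250.2.2.2.2) cnt33762.2.2.2.2) cnt34274.2.2.2.2) cnt34786.2.2.2.2) cnt35298.2.2.2.2) cnt35810.2.2.2.2) cnt36322.2.2.2.2) cnt36834.2.2.2.2) cnt37346.2.2.2.2) cnt37858.2.2.2.2) cnt38370.2.2.2.2) cnt38882.2.2.2.2) cnt39394.2.2.2.2) cnt39906.2.2.2.2) cnt40418.2.2.2.2) cnt40930.2.2.2.2) cnt41442.2.2.2.2) cnt41954.2.2.2.2) cnt42466.2.2.2.2) cnt42978.2.2.2.2) cnt43490.2.2.2.2) cnt44002.2.2.2.2) cnt44514.2.2.2.2) cnt45026.2.2.2.2) cnt45538.2.2.2.2) cnt46050.2.2.2.2) cnt46562.2.2.2.2) cnt47074.2.2.2.2) cnt47586.2.2.2.2) cnt48098.2.2.2.2) cnt48610.2.2.2.2) cnt49122.2.2.2.2) cnt49634.2.2.2.2) cnt50146.2.2.2.2) cnt50658.2.2.2.2) cnt51170.2.2.2.2) cnt51682.2.2.2.2) cnt52194.2.2.2.2) cnt52706.2.2.2.2) cnt53218.2.2.2.2) cnt53730.2.2.2.2) cnt54242.2.2.2.2) cnt54754.2.2.2.2)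 cnt55266.2.2.2.2) cnt55778.2.2.2.2) cnt56290.2.2.2.2) cnt56802.2.2.2.2) cnt57314.2.2.2.2) cnt57826.2.2.2.2) cnt58338.2.2.2.2) cnt58850.2.2.2.2) cnt59362.2.2.2.2) cnt59874.2.2.2.2) cnt60386.2.2.2.2) cnt60898.2.2.2.2

end Cfsg.Agent.ONTable
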