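import Cfsg.Agent.Lib.ONTable.OrbData

/-!
# A part of the check of the orbits
-/

set_option autoImplicit false
set_option maxHeartbeats 0
set_option maxRecDepth 100000

noncomputable section

namespace Cfsg.Agent.ONTable

open Cfsg.Agent.InvCoset

theorem orb61380 : table.orbsChk orbits 61380 512 = true := by decide +kernel

theorem cnt61380 : orbits.countLab 0 61380 512 = 0 ∧ orbits.countLab 1 61380 512 = 285 ∧ orbits.countLab 2 61380 512 = 24 ∧
    orbits.countLab 3 61380 512 = 179 ∧ orbits.countLab 4 61380 512 = 24 := by decide +kernel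

theorem orb61892 : table.orbsChk orbits 61892 512 = true := by decide +kernel

theorem cnt61892 : orbits.countLab 0 61892 512 = 0 ∧ orbits.countLab 1 61892 512 = 252 ∧ orbits.countLab 2 61892 512 = 8 ∧
    orbits.countLab 3 61892 512 = 227 ∧ orbits.countLab 4 61892 512 = 25 := by decide +kernel

theorem orb62404 : table.orbsChk orbits 62404 512 = true := by decide +kernel

theorem cnt62404 : orbits.countLab 0 62404 512 = 0 ∧ orbits.countLab 1 62404 512 = 251 ∧ orbits.countLab 2 62404 512 = 14 ∧
    orbits.countLab 3 62404 512 = 236 ∧ orbits.countLab 4 62404 512 = 11 := by decide +kernel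

theorem orb62916 : table.orbsChk orbits 62916 512 = true := by decide +kernel

theorem cnt62916 : orbits.countLab 0 62916 512 = 0 ∧ orbits.countLab 1 62916 512 = 159 ∧ orbits.countLab 2 62916 512 = 25 ∧
    orbits.countLab 3 62916 512 = 278 ∧ orbits.countLab 4 62916 512 = 50 := by decide +kernel

theorem orb63428 : table.orbsChk orbits 63428 512 = true := by decide +kernel

theorem cnt63428 : orbits.countLab 0 63428 512 = 0 ∧ orbits.countLab 1 63428 512 = 151 ∧ orbits.countLab 2 63428 512 = 14 ∧
    orbits.countLab 3 63428 512 = 283 ∧ orbits.countLab 4 63428 512 = 64 := by decide +kernel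

theorem orb63940 : table.orbsChk orbits 63940 512 = true := by decide +kernel

theorem cnt63940 : orbits.countLab 0 63940 512 = 0 ∧ orbits.countLab 1 63940 512 = 202 ∧ orbits.countLab 2 63940 512 = 89 ∧
    orbits.countLab 3 63940 512 = 193 ∧ orbits.countLab 4 63940 512 = 28 := by decide +kernel

theorem orb64452 : table.orbsChk orbits 64452 512 = true := by decide +kernel

theorem cnt64452 : orbits.countLab 0 64452 512 = 0 ∧ orbits.countLab 1 64452 512 = 305 ∧ orbits.countLab 2 64452 512 = 11 ∧
    orbits.countLab 3 64452 512 = 170 ∧ orbits.countLab 4 64452 512 = 26 := by decide +kernel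

theorem orb64964 : table.orbsChk orbits 64964 512 = true := by decide +kernel

theorem cnt64964 : orbits.countLab 0 64964 512 = 0 ∧ orbits.countLab 1 64964 512 = 226 ∧ orbits.countLab 2 64964 512 = 12 ∧
    orbits.countLab 3 64964 512 = 246 ∧ orbits.countLab 4 64964 512 = 28 := by decide +kernel

theorem orb65476 : table.orbsChk orbits 65476 512 = true := by decide +kernel

theorem cnt65476 : orbits.countLab 0 65476 512 = 0 ∧ orbits.countLab 1 65476 512 = 255 ∧ orbits.countLab 2 65476 512 = 2 ∧
    orbits.countLab 3 65476 512 = 222 ∧ orbits.countLab 4 65476 512 = 33 := by decide +kernel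

theorem orb65988 : table.orbsChk orbits 65988 512 = true := by decide +kernel

theorem cnt65988 : orbits.countLab 0 65988 512 = 0 ∧ orbits.countLab 1 65988 512 = 234 ∧ orbits.countLab 2 65988 512 = 1 ∧
    orbits.countLab 3 65988 512 = 246 ∧ orbits.countLab 4 65988 512 = 31 := by decide +kernel

theorem orb66500 : table.orbsChk orbits 66500 512 = true := by decide +kernel

theorem cnt66500 : orbits.countLab 0 66500 512 = 0 ∧ orbits.countLab 1 66500 512 = 246 ∧ orbits.countLab 2 66500 512 = 16 ∧
    orbits.countLab 3 66500 512 = 223 ∧ orbits.countLab 4 66500 512 = 27 := by decide +kernel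

theorem orb67012 : table.orbsChk orbits 67012 512 = true := by decide +kernel

theorem cnt67012 : orbits.countLab 0 67012 512 = 0 ∧ orbits.countLab 1 67012 512 = 220 ∧ orbits.countLab 2 67012 512 = 47 ∧
    orbits.countLab 3 67012 512 = 217 ∧ orbits.countLab 4 67012 512 = 28 := by decide +kernel

theorem orb67524 : table.orbsChk orbits 67524 512 = true := by decide +kernel

theorem cnt67524 : orbits.countLab 0 67524 512 = 0 ∧ orbits.countLab 1 67524 512 = 207 ∧ orbits.countLab 2 67524 512 = 14 ∧
    orbits.countLab 3 67524 512 = 237 ∧ orbits.countLab 4 67524 512 = 54 := by decide +kernel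

theorem orb68036 : table.orbsChk orbits 68036 512 = true := by decide +kernel

theorem cnt68036 : orbits.countLab 0 68036 512 = 0 ∧ orbits.countLab 1 68036 512 = 238 ∧ orbits.countLab 2 68036 512 = 34 ∧
    orbits.countLab 3 68036 512 = 235 ∧ orbits.countLab 4 68036 512 = 5 := by decide +kernel

theorem orb68548 : table.orbsChk orbits 68548 512 = true := by decide +kernel

theorem cnt68548 : orbits.countLab 0 68548 512 = 0 ∧ orbits.countLab 1 68548 512 = 216 ∧ orbits.countLab 2 68548 512 = 2 ∧
    orbits.countLab 3 68548 512 = 261 ∧ orbits.countLab 4 68548 512 = 33 := by decide +kernel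

theorem orb69060 : table.orbsChk orbits 69060 512 = true := by decide +kernel

theorem cnt69060 : orbits.countLab 0 69060 512 = 0 ∧ orbits.countLab 1 69060 512 = 210 ∧ orbits.countLab 2 69060 512 = 17 ∧
    orbits.countLab 3 69060 512 = 249 ∧ orbits.countLab 4 69060 512 = 36 := by decide +kernel

theorem orb69572 : table.orbsChk orbits 69572 512 = true := by decide +kernel

theorem cnt69572 : orbits.countLab 0 69572 512 = 0 ∧ orbits.countLab 1 69572 512 = 258 ∧ orbits.countLab 2 69572 512 = 18 ∧
    orbits.countLab 3 69572 512 = 199 ∧ orbits.countLab 4 69572 512 = 37 := by decide +kernel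

theorem orb70084 : table.orbsChk orbits 70084 512 = true := by decide +kernel

theorem cnt70084 : orbits.countLab 0 70084 512 = 0 ∧ orbits.countLab 1 70084 512 = 255 ∧ orbits.countLab 2 70084 512 = 26 ∧
    orbits.countLab 3 70084 512 = 210 ∧ orbits.countLab 4 70084 512 = 21 := by decide +kernel

theorem orb70596 : table.orbsChk orbits 70596 512 = true := by decide +kernel

theorem cnt70596 : orbits.countLab 0 70596 512 = 0 ∧ orbits.countLab 1 70596 512 = 222 ∧ orbits.countLab 2 70596 512 = 9 ∧
    orbits.countLab 3 70596 512 = 263 ∧ orbits.countLab 4 70596 512 = 18 := by decide +kernel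

theorem orb71108 : table.orbsChk orbits 71108 512 = true := by decide +kernel

theorem cnt71108 : orbits.countLab 0 71108 512 = 0 ∧ orbits.countLab 1 71108 512 = 207 ∧ orbits.countLab 2 71108 512 = 2 ∧
    orbits.countLab 3 71108 512 = 268 ∧ orbits.countLab 4 71108 512 = 35 := by decide +kernel

theorem orb71620 : table.orbsChk orbits 71620 512 = true := by decide +kernel

theorem cnt71620 : orbits.countLab 0 71620 512 = 0 ∧ orbits.countLab 1 71620 512 = 218 ∧ orbits.countLab 2 71620 512 = 9 ∧
    orbits.countLab 3 71620 512 = 246 ∧ orbits.countLab 4 71620 512 = 39 := by decide +kernel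

theorem orb72132 : table.orbsChk orbits 72132 512 = true := by decide +kernel

theorem cnt72132 : orbits.countLab 0 72132 512 = 0 ∧ orbits.countLab 1 72132 512 = 206 ∧ orbits.countLab 2 72132 512 = 17 ∧
    orbits.countLab 3 72132 512 = 269 ∧ orbits.countLab 4 72132 512 = 20 := by decide +kernel

theorem orb72644 : table.orbsChk orbits 72644 512 = true := by decide +kernel

theorem cnt72644 : orbits.countLab 0 72644 512 = 0 ∧ orbits.countLab 1 72644 512 = 191 ∧ orbits.countLab 2 72644 512 = 2 ∧
    orbits.countLab 3 72644 512 = 294 ∧ orbits.countLab 4 72644 512 = 25 := by decide +kernel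

theorem orb73156 : table.orbsChk orbits 73156 512 = true := by decide +kernel

theorem cnt73156 : orbits.countLab 0 73156 512 = 0 ∧ orbits.countLab 1 73156 512 = 280 ∧ orbits.countLab 2 73156 512 = 10 ∧
    orbits.countLab 3 73156 512 = 214 ∧ orbits.countLab 4 73156 512 = 8 := by decide +kernel

theorem orb73668 : table.orbsChk orbits 73668 512 = true := by decide +kernel

theorem cnt73668 : orbits.countLab 0 73668 512 = 0 ∧ orbits.countLab 1 73668 512 = 251 ∧ orbits.countLab 2 73668 512 = 26 ∧
    orbits.countLab 3 73668 512 = 208 ∧ orbits.countLab 4 73668 512 = 27 := by decide +kernel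

theorem orb74180 : table.orbsChk orbits 74180 512 = true := by decide +kernel

theorem cnt74180 : orbits.countLab 0 74180 512 = 0 ∧ orbits.countLab 1 74180 512 = 222 ∧ orbits.countLab 2 74180 512 = 40 ∧
    orbits.countLab 3 74180 512 = 236 ∧ orbits.countLab 4 74180 512 = 14 := by decide +kernel

theorem orb74692 : table.orbsChk orbits 74692 512 = true := by decide +kernel

theorem cnt74692 : orbits.countLab 0 74692 512 = 0 ∧ orbits.countLab 1 74692 512 = 236 ∧ orbits.countLab 2 74692 512 = 13 ∧
    orbits.countLab 3 74692 512 = 190 ∧ orbits.countLab 4 74692 512 = 73 := by decide +kernel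

theorem orb75204 : table.orbsChk orbits 75204 512 = true := by decide +kernel

theorem cnt75204 : orbits.countLab 0 75204 512 = 0 ∧ orbits.countLab 1 75204 512 = 300 ∧ orbits.countLab 2 75204 512 = 39 ∧
    orbits.countLab 3 75204 512 = 149 ∧ orbits.countLab 4 75204 512 = 24 := by decide +kernel

theorem orb75716 : table.orbsChk orbits 75716 512 = true := by decide +kernel

theorem cnt75716 : orbits.countLab 0 75716 512 = 0 ∧ orbits.countLab 1 75716 512 = 211 ∧ orbits.countLab 2 75716 512 = 36 ∧
    orbits.countLab 3 75716 512 = 251 ∧ orbits.countLab 4 75716 512 = 14 := by decide +kernel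

theorem orb76228 : table.orbsChk orbits 76228 512 = true := by decide +kernel

theorem cnt76228 : orbits.countLab 0 76228 512 = 0 ∧ orbits.countLab 1 76228 512 = 237 ∧ orbits.countLab 2 76228 512 = 39 ∧
    orbits.countLab 3 76228 512 = 221 ∧ orbits.countLab 4 76228 512 = 15 := by decide +kernel

theorem orb76740 : table.orbsChk orbits 76740 512 = true := by decide +kernel

theorem cnt76740 : orbits.countLab 0 76740 512 = 0 ∧ orbits.countLab 1 76740 512 = 210 ∧ orbits.countLab 2 76740 512 = 20 ∧
    orbits.countLab 3 76740 512 = 257 ∧ orbits.countLab 4 76740 512 = 25 := by decide +kernel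

theorem orb77252 : table.orbsChk orbits 77252 512 = true := by decide +kernel

theorem cnt77252 : orbits.countLab 0 77252 512 = 0 ∧ orbits.countLab 1 77252 512 = 258 ∧ orbits.countLab 2 77252 512 = 14 ∧
    orbits.countLab 3 77252 512 = 216 ∧ orbits.countLab 4 77252 512 = 24 := by decide +kernel

theorem orb77764 : table.orbsChk orbits 77764 512 = true := by decide +kernel

theorem cnt77764 : orbits.countLab 0 77764 512 = 0 ∧ orbits.countLab 1 77764 512 = 262 ∧ orbits.countLab 2 77764 512 = 17 ∧
    orbits.countLab 3 77764 512 = 215 ∧ orbits.countLab 4 77764 512 = 18 := by decide +kernel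

theorem orb78276 : table.orbsChk orbits 78276 512 = true := by decide +kernel

theorem cnt78276 : orbits.countLab 0 78276 512 = 0 ∧ orbits.countLab 1 78276 512 = 276 ∧ orbits.countLab 2 78276 512 = 27 ∧
    orbits.countLab 3 78276 512 = 201 ∧ orbits.countLab 4 78276 512 = 8 := by decide +kernel

theorem orb78788 : table.orbsChk orbits 78788 512 = true := by decide +kernel

theorem cnt78788 : orbits.countLab 0 78788 512 = 0 ∧ orbits.countLab 1 78788 512 = 234 ∧ orbits.countLab 2 78788 512 = 89 ∧
    orbits.countLab 3 78788 512 = 174 ∧ orbits.countLab 4 78788 512 = 15 := by decide +kernel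

theorem orb79300 : table.orbsChk orbits 79300 512 = true := by decide +kernel

theorem cnt79300 : orbits.countLab 0 79300 512 = 0 ∧ orbits.countLab 1 79300 512 = 246 ∧ orbits.countLab 2 79300 512 = 17 ∧
    orbits.countLab 3 79300 512 = 221 ∧ orbits.countLab 4 79300 512 = 28 := by decide +kernel

theorem orb79812 : table.orbsChk orbits 79812 512 = true := by decide +kernel

theorem cnt79812 : orbits.countLab 0 79812 512 = 0 ∧ orbits.countLab 1 79812 512 = 263 ∧ orbits.countLab 2 79812 512 = 34 ∧
    orbits.countLab 3 79812 512 = 193 ∧ orbits.countLab 4 79812 512 = 22 := by decide +kernel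

theorem orb80324 : table.orbsChk orbits 80324 512 = true := by decide +kernel

theorem cnt80324 : orbits.countLab 0 80324 512 = 0 ∧ orbits.countLab 1 80324 512 = 217 ∧ orbits.countLab 2 80324 512 = 9 ∧
    orbits.countLab 3 80324 512 = 260 ∧ orbits.countLab 4 80324 512 = 26 := by decide +kernel

theorem orb80836 : table.orbsChk orbits 80836 512 = true := by decide +kernel

theorem cnt80836 : orbits.countLab 0 80836 512 = 0 ∧ orbits.countLab 1 80836 512 = 205 ∧ orbits.countLab 2 80836 512 = 32 ∧
    orbits.countLab 3 80836 512 = 255 ∧ orbits.countLab 4 80836 512 = 20 := by decide +kernel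

theorem orb81348 : table.orbsChk orbits 81348 512 = true := by decide +kernel

theorem cnt81348 : orbits.countLab 0 81348 512 = 0 ∧ orbits.countLab 1 81348 512 = 193 ∧ orbits.countLab 2 81348 512 = 50 ∧
    orbits.countLab 3 81348 512 = 239 ∧ orbits.countLab 4 81348 512 = 30 := by decide +kernel

theorem orb81860 : table.orbsChk orbits 81860 512 = true := by decide +kernel

theorem cnt81860 : orbits.countLab 0 81860 512 = 0 ∧ orbits.countLab 1 81860 512 = 177 ∧ orbits.countLab 2 81860 512 = 19 ∧
    orbits.countLab 3 81860 512 = 304 ∧ orbits.countLab 4 81860 512 = 12 := by decide +kernel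

theorem orb82372 : table.orbsChk orbits 82372 512 = true := by decide +kernel

theorem cnt82372 : orbits.countLab 0 82372 512 = 0 ∧ orbits.countLab 1 82372 512 = 254 ∧ orbits.countLab 2 82372 512 = 15 ∧
    orbits.countLab 3 82372 512 = 222 ∧ orbits.countLab 4 82372 512 = 21 := by decide +kernel

theorem orb82884 : table.orbsChk orbits 82884 512 = true := by decide +kernel

theorem cnt82884 : orbits.countLab 0 82884 512 = 0 ∧ orbits.countLab 1 82884 512 = 228 ∧ orbits.countLab 2 82884 512 = 25 ∧
    orbits.countLab 3 82884 512 = 218 ∧ orbits.countLab 4 82884 512 = 41 := by decide +kernel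

theorem orb83396 : table.orbsChk orbits 83396 512 = true := by decide +kernel

theorem cnt83396 : orbits.countLab 0 83396 512 = 0 ∧ orbits.countLab 1 83396 512 = 239 ∧ orbits.countLab 2 83396 512 = 12 ∧
    orbits.countLab 3 83396 512 = 239 ∧ orbits.countLab 4 83396 512 = 22 := by decide +kernel

theorem orb83908 : table.orbsChk orbits 83908 512 = true := by decide +kernel

theorem cnt83908 : orbits.countLab 0 83908 512 = 0 ∧ orbits.countLab 1 83908 512 = 254 ∧ orbits.countLab 2 83908 512 = 13 ∧
    orbits.countLab 3 83908 512 = 230 ∧ orbits.countLab 4 83908 512 = 15 := by decide +kernel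

theorem orb84420 : table.orbsChk orbits 84420 512 = true := by decide +kernel

theorem cnt84420 : orbits.countLab 0 84420 512 = 0 ∧ orbits.countLab 1 84420 512 = 260 ∧ orbits.countLab 2 84420 512 = 16 ∧
    orbits.countLab 3 84420 512 = 210 ∧ orbits.countLab 4 84420 512 = 26 := by decide +kernel

theorem orb84932 : table.orbsChk orbits 84932 512 = true := by decide +kernel

theorem cnt84932 : orbits.countLab 0 84932 512 = 0 ∧ orbits.countLab 1 84932 512 = 216 ∧ orbits.countLab 2 84932 512 = 18 ∧
    orbits.countLab 3 84932 512 = 265 ∧ orbits.countLab 4 84932 512 = 13 := by decide +kernel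

theorem orb85444 : table.orbsChk orbits 85444 512 = true := by decide +kernel

theorem cnt85444 : orbits.countLab 0 85444 512 = 0 ∧ orbits.countLab 1 85444 512 = 264 ∧ orbits.countLab 2 85444 512 = 33 ∧
    orbits.countLab 3 85444 512 = 182 ∧ orbits.countLab 4 85444 512 = 33 := by decide +kernel

theorem orb85956 : table.orbsChk orbits 85956 512 = true := by decide +kernel

theorem cnt85956 : orbits.countLab 0 85956 512 = 0 ∧ orbits.countLab 1 85956 512 = 206 ∧ orbits.countLab 2 85956 512 = 16 ∧
    orbits.countLab 3 85956 512 = 261 ∧ orbits.countLab 4 85956 512 = 29 := by decide +kernel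

theorem orb86468 : table.orbsChk orbits 86468 512 = true := by decide +kernel

theorem cnt86468 : orbits.countLab 0 86468 512 = 0 ∧ orbits.countLab 1 86468 512 = 209 ∧ orbits.countLab 2 86468 512 = 14 ∧
    orbits.countLab 3 86468 512 = 245 ∧ orbits.countLab 4 86468 512 = 44 := by decide +kernel

theorem orb86980 : table.orbsChk orbits 86980 512 = true := by decide +kernel

theorem cnt86980 : orbits.countLab 0 86980 512 = 0 ∧ orbits.countLab 1 86980 512 = 245 ∧ orbits.countLab 2 86980 512 = 9 ∧
    orbits.countLab 3 86980 512 = 225 ∧ orbits.countLab 4 86980 512 = 33 := by decide +kernel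

theorem orb87492 : table.orbsChk orbits 87492 512 = true := by decide +kernel

theorem cnt87492 : orbits.countLab 0 87492 512 = 0 ∧ orbits.countLab 1 87492 512 = 219 ∧ orbits.countLab 2 87492 512 = 17 ∧
    orbits.countLab 3 87492 512 = 259 ∧ orbits.countLab 4 87492 512 = 17 := by decide +kernel

theorem orb88004 : table.orbsChk orbits 88004 512 = true := by decide +kernel

theorem cnt88004 : orbits.countLab 0 88004 512 = 0 ∧ orbits.countLab 1 88004 512 = 258 ∧ orbits.countLab 2 88004 512 = 44 ∧
    orbits.countLab 3 88004 512 = 186 ∧ orbits.countLab 4 88004 512 = 24 := by decide +kernel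

theorem orb88516 : table.orbsChk orbits 88516 512 = true := by decide +kernel

theorem cnt88516 : orbits.countLab 0 88516 512 = 0 ∧ orbits.countLab 1 88516 512 = 247 ∧ orbits.countLab 2 88516 512 = 26 ∧
    orbits.countLab 3 88516 512 = 205 ∧ orbits.countLab 4 88516 512 = 34 := by decide +kernel

theorem orb89028 : table.orbsChk orbits 89028 512 = true := by decide +kernel

theorem cnt89028 : orbits.countLab 0 89028 512 = 0 ∧ orbits.countLab 1 89028 512 = 248 ∧ orbits.countLab 2 89028 512 = 39 ∧
    orbits.countLab 3 89028 512 = 208 ∧ orbits.countLab 4 89028 512 = 17 := by decide +kernel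

theorem orb89540 : table.orbsChk orbits 89540 512 = true := by decide +kernel

theorem cnt89540 : orbits.countLab 0 89540 512 = 0 ∧ orbits.countLab 1 89540 512 = 212 ∧ orbits.countLab 2 89540 512 = 17 ∧
    orbits.countLab 3 89540 512 = 229 ∧ orbits.countLab 4 89540 512 = 54 := by decide +kernel

theorem orb90052 : table.orbsChk orbits 90052 512 = true := by decide +kernel

theorem cnt90052 : orbits.countLab 0 90052 512 = 0 ∧ orbits.countLab 1 90052 512 = 231 ∧ orbits.countLab 2 90052 512 = 23 ∧
    orbits.countLab 3 90052 512 = 230 ∧ orbits.countLab 4 90052 512 = 28 := by decide +kernel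

theorem orb90564 : table.orbsChk orbits 90564 512 = true := by decide +kernel

theorem cnt90564 : orbits.countLab 0 90564 512 = 0 ∧ orbits.countLab 1 90564 512 = 256 ∧ orbits.countLab 2 90564 512 = 19 ∧
    orbits.countLab 3 90564 512 = 208 ∧ orbits.countLab 4 90564 512 = 29 := by decide +kernel

theorem orb91076 : table.orbsChk orbits 91076 512 = true := by decide +kernel

theorem cnt91076 : orbits.countLab 0 91076 512 = 0 ∧ orbits.countLab 1 91076 512 = 246 ∧ orbits.countLab 2 91076 512 = 5 ∧
    orbits.countLab 3 91076 512 = 227 ∧ orbits.countLab 4 91076 512 = 34 := by decide +kernel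

theorem orb91588 : table.orbsChk orbits 91588 482 = true := by decide +kernel

theorem cnt91588 : orbits.countLab 0 91588 482 = 0 ∧ orbits.countLab 1 91588 482 = 206 ∧ orbits.countLab 2 91588 482 = 17 ∧
    orbits.countLab 3 91588 482 = 229 ∧ orbits.countLab 4 91588 482 = 30 := by decide +kernel

theorem orbUpTo2 (h : ∀ i < 61380, table.orbChk orbits i = true) :
    ∀ i < 92070, table.orbChk orbits i = true :=
  orbs_add 91588 482 (orbs_add 91076 512 (orbs_add 90564 512 (orbs_add 90052 512 (orbs_add 89540 512 (orbs_add 89028 512 (orbs_add 88516 512 (orbs_add 88004 512 (orbs_add 87492 512 (orbs_add 86980 512 (orbs_add 86468 512 (orbs_add 85956 512 (orbs_add 85444 512 (orbs_add 84932 512 (orbs_add 84420 512 (orbs_add 83908 512 (orbs_add 83396 512 (orbs_add 82884 512 (orbs_add 82372 512 (orbs_add 81860 512 (orbs_add 81348 512 (orbs_add 80836 512 (orbs_add 80324 512 (orbs_add 79812 512 (orbs_add 79300 512 (orbs_add 78788 512 (orbs_add 78276 512 (orbs_add 77764 512 (orbs_add 77252 512 (orbs_add 76740 512 (orbs_add 76228 512 (orbs_add 75716 512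 (orbs_add 75204 512 (orbs_add 74692 512 (orbs_add 74180 512 (orbs_add 73668 512 (orbs_add 73156 512 (orbs_add 72644 512 (orbs_add 72132 512 (orbs_add 71620 512 (orbs_add 71108 512 (orbs_add 70596 512 (orbs_add 70084 512 (orbs_add 69572 512 (orbs_add 69060 512 (orbs_add 68548 512 (orbs_add 68036 512 (orbs_add 67524 512 (orbs_add 67012 512 (orbs_add 66500 512 (orbs_add 65988 512 (orbs_add 65476 512 (orbs_add 64964 512 (orbs_add 64452 512 (orbs_add 63940 512 (orbs_add 63428 512 (orbs_add 62916 512 (orbs_add 62404 512 (orbs_add 61892 512 (orbs_add 61380 512 (h) orb61380) orb61892) orb62404) orb62916) orb63428) orb63940) orb64452) orb64964) orb65476) orb65988) orb66500) orb67012) orb67524) orb68036) orb68548) orb69060) orb69572) orb70084) orb70596) orb71108) orb71620) orb72132) orb72644) orb73156) orb73668) orb74180) orb74692) orb75204) orb75716) orb76228) orb76740) orb77252) orb77764) orb78276) orb78788) orb79300) orb79812) orb80324) orb80836) orb81348) orb81860) orb82372) orb82884) orb83396) orb83908) orb84420) orb84932) orb85444) orb85956)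 orb86468) orb86980) orb87492) orb88004) orb88516) orb89028) orb89540) orb90052) orb90564) orb91076) orb91588

theorem count0UpTo2 (h : ((Finset.range 61380).filter fun c => orbits.lab c = 0).card = 1) :
    ((Finset.range 92070).filter fun c => orbits.lab c = 0).card = 1 :=
  count_add 91588 482 (count_add 91076 512 (count_add 90564 512 (count_add 90052 512 (count_add 89540 512 (count_add 89028 512 (count_add 88516 512 (count_add 88004 512 (count_add 87492 512 (count_add 86980 512 (count_add 86468 512 (count_add 85956 512 (count_add 85444 512 (count_add 84932 512 (count_add 84420 512 (count_add 83908 512 (count_add 83396 512 (count_add 82884 512 (count_add 82372 512 (count_add 81860 512 (count_add 81348 512 (count_add 80836 512 (count_add 80324 512 (count_add 79812 512 (count_add 79300 512 (count_add 78788 512 (count_add 78276 512 (count_add 77764 512 (count_add 77252 512 (count_add 76740 512 (count_add 76228 512 (count_add 75716 512 (count_add 75204 512 (count_add 74692 512 (count_add 74180 512 (count_add 73668 512 (count_add 73156 512 (count_add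 72644 512 (count_add 72132 512 (count_add 71620 512 (count_add 71108 512 (count_add 70596 512 (count_add 70084 512 (count_add 69572 512 (count_add 69060 512 (count_add 68548 512 (count_add 68036 512 (count_add 67524 512 (count_add 67012 512 (count_add 66500 512 (count_add 65988 512 (count_add 65476 512 (count_add 64964 512 (count_add 64452 512 (count_add 63940 512 (count_add 63428 512 (count_add 62916 512 (count_add 62404 512 (count_add 61892 512 (count_add 61380 512 (h) cnt61380.1) cnt61892.1) cnt62404.1) cnt62916.1) cnt63428.1) cnt63940.1) cnt64452.1) cnt64964.1) cnt65476.1) cnt65988.1) cnt66500.1) cnt67012.1) cnt67524.1) cnt68036.1) cnt68548.1) cnt69060.1) cnt69572.1) cnt70084.1) cnt70596.1) cnt71108.1) cnt71620.1) cnt72132.1) cnt72644.1) cnt73156.1) cnt73668.1) cnt74180.1) cnt74692.1) cnt75204.1) cnt75716.1) cnt76228.1) cnt76740.1) cnt77252.1) cnt77764.1) cnt78276.1) cnt78788.1) cnt79300.1) cnt79812.1) cnt80324.1) cnt80836.1) cnt81348.1) cnt81860.1) cnt82372.1) cnt82884.1) cnt83396.1) cnt83908.1) cnt84420.1) cnt84932.1) cnt85444.1) cnt85956.1)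 cnt86468.1) cnt86980.1) cnt87492.1) cnt88004.1) cnt88516.1) cnt89028.1) cnt89540.1) cnt90052.1) cnt90564.1) cnt91076.1) cnt91588.1

theorem count1UpTo2 (h : ((Finset.range 61380).filter fun c => orbits.lab c = 1).card = 28066) :
    ((Finset.range 92070).filter fun c => orbits.lab c = 1).card = 42056 :=
  count_add 91588 482 (count_add 91076 512 (count_add 90564 512 (count_add 90052 512 (count_add 89540 512 (count_add 89028 512 (count_add 88516 512 (count_add 88004 512 (count_add 87492 512 (count_add 86980 512 (count_add 86468 512 (count_add 85956 512 (count_add 85444 512 (count_add 84932 512 (count_add 84420 512 (count_add 83908 512 (count_add 83396 512 (count_add 82884 512 (count_add 82372 512 (count_add 81860 512 (count_add 81348 512 (count_add 80836 512 (count_add 80324 512 (count_add 79812 512 (count_add 79300 512 (count_add 78788 512 (count_add 78276 512 (count_add 77764 512 (count_add 77252 512 (count_add 76740 512 (count_add 76228 512 (count_add 75716 512 (count_add 75204 512 (count_add 74692 512 (count_add 74180 512 (count_add 73668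 512 (count_add 73156 512 (count_add 72644 512 (count_add 72132 512 (count_add 71620 512 (count_add 71108 512 (count_add 70596 512 (count_add 70084 512 (count_add 69572 512 (count_add 69060 512 (count_add 68548 512 (count_add 68036 512 (count_add 67524 512 (count_add 67012 512 (count_add 66500 512 (count_add 65988 512 (count_add 65476 512 (count_add 64964 512 (count_add 64452 512 (count_add 63940 512 (count_add 63428 512 (count_add 62916 512 (count_add 62404 512 (count_add 61892 512 (count_add 61380 512 (h) cnt61380.2.1) cnt61892.2.1) cnt62404.2.1) cnt62916.2.1) cnt63428.2.1) cnt63940.2.1) cnt64452.2.1) cnt64964.2.1) cnt65476.2.1) cnt65988.2.1) cnt66500.2.1) cnt67012.2.1) cnt67524.2.1) cnt68036.2.1) cnt68548.2.1) cnt69060.2.1) cnt69572.2.1) cnt70084.2.1) cnt70596.2.1) cnt71108.2.1) cnt71620.2.1) cnt72132.2.1) cnt72644.2.1) cnt73156.2.1) cnt73668.2.1) cnt74180.2.1) cnt74692.2.1) cnt75204.2.1) cnt75716.2.1) cnt76228.2.1) cnt76740.2.1) cnt77252.2.1) cnt77764.2.1) cnt78276.2.1) cnt78788.2.1) cnt79300.2.1) cnt79812.2.1) cnt80324.2.1) cnt80836.2.1)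 cnt81348.2.1) cnt81860.2.1) cnt82372.2.1) cnt82884.2.1) cnt83396.2.1) cnt83908.2.1) cnt84420.2.1) cnt84932.2.1) cnt85444.2.1) cnt85956.2.1) cnt86468.2.1) cnt86980.2.1) cnt87492.2.1) cnt88004.2.1) cnt88516.2.1) cnt89028.2.1) cnt89540.2.1) cnt90052.2.1) cnt90564.2.1) cnt91076.2.1) cnt91588.2.1

theorem count2UpTo2 (h : ((Finset.range 61380).filter fun c => orbits.lab c = 2).card = 3066) :
    ((Finset.range 92070).filter fun c => orbits.lab c = 2).card = 4388 :=
  count_add 91588 482 (count_add 91076 512 (count_add 90564 512 (count_add 90052 512 (count_add 89540 512 (count_add 89028 512 (count_add 88516 512 (count_add 88004 512 (count_add 87492 512 (count_add 86980 512 (count_add 86468 512 (count_add 85956 512 (count_add 85444 512 (count_add 84932 512 (count_add 84420 512 (count_add 83908 512 (count_add 83396 512 (count_add 82884 512 (count_add 82372 512 (count_add 81860 512 (count_add 81348 512 (count_add 80836 512 (count_add 80324 512 (count_add 79812 512 (count_add 79300 512 (count_add 78788 512 (count_add 78276 512 (count_add 77764 512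 (count_add 77252 512 (count_add 76740 512 (count_add 76228 512 (count_add 75716 512 (count_add 75204 512 (count_add 74692 512 (count_add 74180 512 (count_add 73668 512 (count_add 73156 512 (count_add 72644 512 (count_add 72132 512 (count_add 71620 512 (count_add 71108 512 (count_add 70596 512 (count_add 70084 512 (count_add 69572 512 (count_add 69060 512 (count_add 68548 512 (count_add 68036 512 (count_add 67524 512 (count_add 67012 512 (count_add 66500 512 (count_add 65988 512 (count_add 65476 512 (count_add 64964 512 (count_add 64452 512 (count_add 63940 512 (count_add 63428 512 (count_add 62916 512 (count_add 62404 512 (count_add 61892 512 (count_add 61380 512 (h) cnt61380.2.2.1) cnt61892.2.2.1) cnt62404.2.2.1) cnt62916.2.2.1) cnt63428.2.2.1) cnt63940.2.2.1) cnt64452.2.2.1) cnt64964.2.2.1) cnt65476.2.2.1) cnt65988.2.2.1) cnt66500.2.2.1) cnt67012.2.2.1) cnt67524.2.2.1) cnt68036.2.2.1) cnt68548.2.2.1) cnt69060.2.2.1) cnt69572.2.2.1) cnt70084.2.2.1) cnt70596.2.2.1) cnt71108.2.2.1) cnt71620.2.2.1) cnt72132.2.2.1) cnt72644.2.2.1) cnt73156.2.2.1)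 cnt73668.2.2.1) cnt74180.2.2.1) cnt74692.2.2.1) cnt75204.2.2.1) cnt75716.2.2.1) cnt76228.2.2.1) cnt76740.2.2.1) cnt77252.2.2.1) cnt77764.2.2.1) cnt78276.2.2.1) cnt78788.2.2.1) cnt79300.2.2.1) cnt79812.2.2.1) cnt80324.2.2.1) cnt80836.2.2.1) cnt81348.2.2.1) cnt81860.2.2.1) cnt82372.2.2.1) cnt82884.2.2.1) cnt83396.2.2.1) cnt83908.2.2.1) cnt84420.2.2.1) cnt84932.2.2.1) cnt85444.2.2.1) cnt85956.2.2.1) cnt86468.2.2.1) cnt86980.2.2.1) cnt87492.2.2.1) cnt88004.2.2.1) cnt88516.2.2.1) cnt89028.2.2.1) cnt89540.2.2.1) cnt90052.2.2.1) cnt90564.2.2.1) cnt91076.2.2.1) cnt91588.2.2.1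

theorem count3UpTo2 (h : ((Finset.range 61380).filter fun c => orbits.lab c = 3).card = 26859) :
    ((Finset.range 92070).filter fun c => orbits.lab c = 3).card = 40592 :=
  count_add 91588 482 (count_add 91076 512 (count_add 90564 512 (count_add 90052 512 (count_add 89540 512 (count_add 89028 512 (count_add 88516 512 (count_add 88004 512 (count_add 87492 512 (count_add 86980 512 (count_add 86468 512 (count_add 85956 512 (count_add 85444 512 (count_add 84932 512 (count_add 84420 512 (count_add 83908 512 (count_add 83396 512 (count_add 82884 512 (count_add 82372 512 (count_add 81860 512 (count_add 81348 512 (count_add 80836 512 (count_add 80324 512 (count_add 79812 512 (count_add 79300 512 (count_add 78788 512 (count_add 78276 512 (count_add 77764 512 (count_add 77252 512 (count_add 76740 512 (count_add 76228 512 (count_add 75716 512 (count_add 75204 512 (count_add 74692 512 (count_add 74180 512 (count_add 73668 512 (count_add 73156 512 (count_add 72644 512 (count_add 72132 512 (count_add 71620 512 (count_add 71108 512 (count_add 70596 512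 (count_add 70084 512 (count_add 69572 512 (count_add 69060 512 (count_add 68548 512 (count_add 68036 512 (count_add 67524 512 (count_add 67012 512 (count_add 66500 512 (count_add 65988 512 (count_add 65476 512 (count_add 64964 512 (count_add 64452 512 (count_add 63940 512 (count_add 63428 512 (count_add 62916 512 (count_add 62404 512 (count_add 61892 512 (count_add 61380 512 (h) cnt61380.2.2.2.1) cnt61892.2.2.2.1) cnt62404.2.2.2.1) cnt62916.2.2.2.1) cnt63428.2.2.2.1) cnt63940.2.2.2.1) cnt64452.2.2.2.1) cnt64964.2.2.2.1) cnt65476.2.2.2.1) cnt65988.2.2.2.1) cnt66500.2.2.2.1) cnt67012.2.2.2.1) cnt67524.2.2.2.1) cnt68036.2.2.2.1) cnt68548.2.2.2.1) cnt69060.2.2.2.1) cnt69572.2.2.2.1) cnt70084.2.2.2.1) cnt70596.2.2.2.1) cnt71108.2.2.2.1) cnt71620.2.2.2.1) cnt72132.2.2.2.1) cnt72644.2.2.2.1) cnt73156.2.2.2.1) cnt73668.2.2.2.1) cnt74180.2.2.2.1) cnt74692.2.2.2.1) cnt75204.2.2.2.1) cnt75716.2.2.2.1) cnt76228.2.2.2.1) cnt76740.2.2.2.1) cnt77252.2.2.2.1) cnt77764.2.2.2.1) cnt78276.2.2.2.1) cnt78788.2.2.2.1) cnt79300.2.2.2.1) cnt79812.2.2.2.1) cnt80324.2.2.2.1)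 cnt80836.2.2.2.1) cnt81348.2.2.2.1) cnt81860.2.2.2.1) cnt82372.2.2.2.1) cnt82884.2.2.2.1) cnt83396.2.2.2.1) cnt83908.2.2.2.1) cnt84420.2.2.2.1) cnt84932.2.2.2.1) cnt85444.2.2.2.1) cnt85956.2.2.2.1) cnt86468.2.2.2.1) cnt86980.2.2.2.1) cnt87492.2.2.2.1) cnt88004.2.2.2.1) cnt88516.2.2.2.1) cnt89028.2.2.2.1) cnt89540.2.2.2.1) cnt90052.2.2.2.1) cnt90564.2.2.2.1) cnt91076.2.2.2.1) cnt91588.2.2.2.1

theorem count4UpTo2 (h : ((Finset.range 61380).filter fun c => orbits.lab c = 4).card = 3388) :
    ((Finset.range 92070).filter fun c => orbits.lab c = 4).card = 5033 :=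
  count_add 91588 482 (count_add 91076 512 (count_add 90564 512 (count_add 90052 512 (count_add 89540 512 (count_add 89028 512 (count_add 88516 512 (count_add 88004 512 (count_add 87492 512 (count_add 86980 512 (count_add 86468 512 (count_add 85956 512 (count_add 85444 512 (count_add 84932 512 (count_add 84420 512 (count_add 83908 512 (count_add 83396 512 (count_add 82884 512 (count_add 82372 512 (count_add 81860 512 (count_add 81348 512 (count_add 80836 512 (count_add 80324 512 (count_add 79812 512 (count_add 79300 512 (count_add 78788 512 (count_add 78276 512 (count_add 77764 512 (count_add 77252 512 (count_add 76740 512 (count_add 76228 512 (count_add 75716 512 (count_add 75204 512 (count_add 74692 512 (count_add 74180 512 (count_add 73668 512 (count_add 73156 512 (count_add 72644 512 (count_add 72132 512 (count_add 71620 512 (count_add 71108 512 (count_add 70596 512 (count_add 70084 512 (count_add 69572 512 (count_add 69060 512 (count_add 68548 512 (count_add 68036 512 (count_add 67524 512 (count_add 67012 512 (count_add 66500 512 (count_add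 65988 512 (count_add 65476 512 (count_add 64964 512 (count_add 64452 512 (count_add 63940 512 (count_add 63428 512 (count_add 62916 512 (count_add 62404 512 (count_add 61892 512 (count_add 61380 512 (h) cnt61380.2.2.2.2) cnt61892.2.2.2.2) cnt62404.2.2.2.2) cnt62916.2.2.2.2) cnt63428.2.2.2.2) cnt63940.2.2.2.2) cnt64452.2.2.2.2) cnt64964.2.2.2.2) cnt65476.2.2.2.2) cnt65988.2.2.2.2) cnt66500.2.2.2.2) cnt67012.2.2.2.2) cnt67524.2.2.2.2) cnt68036.2.2.2.2) cnt68548.2.2.2.2) cnt69060.2.2.2.2) cnt69572.2.2.2.2) cnt70084.2.2.2.2) cnt70596.2.2.2.2) cnt71108.2.2.2.2) cnt71620.2.2.2.2) cnt72132.2.2.2.2) cnt72644.2.2.2.2) cnt73156.2.2.2.2) cnt73668.2.2.2.2) cnt74180.2.2.2.2) cnt74692.2.2.2.2) cnt75204.2.2.2.2) cnt75716.2.2.2.2) cnt76228.2.2.2.2) cnt76740.2.2.2.2) cnt77252.2.2.2.2) cnt77764.2.2.2.2) cnt78276.2.2.2.2) cnt78788.2.2.2.2) cnt79300.2.2.2.2) cnt79812.2.2.2.2) cnt80324.2.2.2.2) cnt80836.2.2.2.2) cnt81348.2.2.2.2) cnt81860.2.2.2.2) cnt82372.2.2.2.2) cnt82884.2.2.2.2) cnt83396.2.2.2.2) cnt83908.2.2.2.2) cnt84420.2.2.2.2) cnt84932.2.2.2.2) cnt85444.2.2.2.2)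 cnt85956.2.2.2.2) cnt86468.2.2.2.2) cnt86980.2.2.2.2) cnt87492.2.2.2.2) cnt88004.2.2.2.2) cnt88516.2.2.2.2) cnt89028.2.2.2.2) cnt89540.2.2.2.2) cnt90052.2.2.2.2) cnt90564.2.2.2.2) cnt91076.2.2.2.2) cnt91588.2.2.2.2

end Cfsg.Agent.ONTable
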