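import Cfsg.Agent.Lib.ONTable.OrbData

/-!
# A part of the check of the orbits
-/

set_option autoImplicit false
set_option maxHeartbeats 0
set_option maxRecDepth 100000

noncomputable section

namespace Cfsg.Agent.ONTable

open Cfsg.Agent.InvCoset

theorem orb92070 : table.orbsChk orbits 92070 512 = true := by decide +kernel

theorem cnt92070 : orbits.countLab 0 92070 512 = 0 ∧ orbits.countLab 1 92070 512 = 252 ∧ orbits.countLab 2 92070 512 = 18 ∧
    orbits.countLab 3 92070 512 = 220 ∧ orbits.countLab 4 92070 512 = 22 := by decide +kernel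

theorem orb92582 : table.orbsChk orbits 92582 512 = true := by decide +kernel

theorem cnt92582 : orbits.countLab 0 92582 512 = 0 ∧ orbits.countLab 1 92582 512 = 241 ∧ orbits.countLab 2 92582 512 = 26 ∧
    orbits.countLab 3 92582 512 = 227 ∧ orbits.countLab 4 92582 512 = 18 := by decide +kernel

theorem orb93094 : table.orbsChk orbits 93094 512 = true := by decide +kernel

theorem cnt93094 : orbits.countLab 0 93094 512 = 0 ∧ orbits.countLab 1 93094 512 = 238 ∧ orbits.countLab 2 93094 512 = 19 ∧
    orbits.countLab 3 93094 512 = 230 ∧ orbits.countLab 4 93094 512 = 25 := by decide +kernel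

theorem orb93606 : table.orbsChk orbits 93606 512 = true := by decide +kernel

theorem cnt93606 : orbits.countLab 0 93606 512 = 0 ∧ orbits.countLab 1 93606 512 = 283 ∧ orbits.countLab 2 93606 512 = 3 ∧
    orbits.countLab 3 93606 512 = 185 ∧ orbits.countLab 4 93606 512 = 41 := by decide +kernel

theorem orb94118 : table.orbsChk orbits 94118 512 = true := by decide +kernel

theorem cnt94118 : orbits.countLab 0 94118 512 = 0 ∧ orbits.countLab 1 94118 512 = 250 ∧ orbits.countLab 2 94118 512 = 3 ∧
    orbits.countLab 3 94118 512 = 230 ∧ orbits.countLab 4 94118 512 = 29 := by decide +kernel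

theorem orb94630 : table.orbsChk orbits 94630 512 = true := by decide +kernel

theorem cnt94630 : orbits.countLab 0 94630 512 = 0 ∧ orbits.countLab 1 94630 512 = 240 ∧ orbits.countLab 2 94630 512 = 26 ∧
    orbits.countLab 3 94630 512 = 218 ∧ orbits.countLab 4 94630 512 = 28 := by decide +kernel

theorem orb95142 : table.orbsChk orbits 95142 512 = true := by decide +kernel

theorem cnt95142 : orbits.countLab 0 95142 512 = 0 ∧ orbits.countLab 1 95142 512 = 212 ∧ orbits.countLab 2 95142 512 = 15 ∧
    orbits.countLab 3 95142 512 = 236 ∧ orbits.countLab 4 95142 512 = 49 := by decide +kernel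

theorem orb95654 : table.orbsChk orbits 95654 512 = true := by decide +kernel

theorem cnt95654 : orbits.countLab 0 95654 512 = 0 ∧ orbits.countLab 1 95654 512 = 266 ∧ orbits.countLab 2 95654 512 = 22 ∧
    orbits.countLab 3 95654 512 = 203 ∧ orbits.countLab 4 95654 512 = 21 := by decide +kernel

theorem orb96166 : table.orbsChk orbits 96166 512 = true := by decide +kernel

theorem cnt96166 : orbits.countLab 0 96166 512 = 0 ∧ orbits.countLab 1 96166 512 = 277 ∧ orbits.countLab 2 96166 512 = 11 ∧
    orbits.countLab 3 96166 512 = 182 ∧ orbits.countLab 4 96166 512 = 42 := by decide +kernel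

theorem orb96678 : table.orbsChk orbits 96678 512 = true := by decide +kernel

theorem cnt96678 : orbits.countLab 0 96678 512 = 0 ∧ orbits.countLab 1 96678 512 = 268 ∧ orbits.countLab 2 96678 512 = 6 ∧
    orbits.countLab 3 96678 512 = 201 ∧ orbits.countLab 4 96678 512 = 37 := by decide +kernel

theorem orb97190 : table.orbsChk orbits 97190 512 = true := by decide +kernel

theorem cnt97190 : orbits.countLab 0 97190 512 = 0 ∧ orbits.countLab 1 97190 512 = 360 ∧ orbits.countLab 2 97190 512 = 18 ∧
    orbits.countLab 3 97190 512 = 131 ∧ orbits.countLab 4 97190 512 = 3 := by decide +kernel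

theorem orb97702 : table.orbsChk orbits 97702 512 = true := by decide +kernel

theorem cnt97702 : orbits.countLab 0 97702 512 = 0 ∧ orbits.countLab 1 97702 512 = 313 ∧ orbits.countLab 2 97702 512 = 2 ∧
    orbits.countLab 3 97702 512 = 170 ∧ orbits.countLab 4 97702 512 = 27 := by decide +kernel

theorem orb98214 : table.orbsChk orbits 98214 512 = true := by decide +kernel

theorem cnt98214 : orbits.countLab 0 98214 512 = 0 ∧ orbits.countLab 1 98214 512 = 243 ∧ orbits.countLab 2 98214 512 = 7 ∧
    orbits.countLab 3 98214 512 = 231 ∧ orbits.countLab 4 98214 512 = 31 := by decide +kernel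

theorem orb98726 : table.orbsChk orbits 98726 512 = true := by decide +kernel

theorem cnt98726 : orbits.countLab 0 98726 512 = 0 ∧ orbits.countLab 1 98726 512 = 313 ∧ orbits.countLab 2 98726 512 = 12 ∧
    orbits.countLab 3 98726 512 = 176 ∧ orbits.countLab 4 98726 512 = 11 := by decide +kernel

theorem orb99238 : table.orbsChk orbits 99238 512 = true := by decide +kernel

theorem cnt99238 : orbits.countLab 0 99238 512 = 0 ∧ orbits.countLab 1 99238 512 = 259 ∧ orbits.countLab 2 99238 512 = 17 ∧
    orbits.countLab 3 99238 512 = 205 ∧ orbits.countLab 4 99238 512 = 31 := by decide +kernel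

theorem orb99750 : table.orbsChk orbits 99750 512 = true := by decide +kernel

theorem cnt99750 : orbits.countLab 0 99750 512 = 0 ∧ orbits.countLab 1 99750 512 = 239 ∧ orbits.countLab 2 99750 512 = 10 ∧
    orbits.countLab 3 99750 512 = 243 ∧ orbits.countLab 4 99750 512 = 20 := by decide +kernel

theorem orb100262 : table.orbsChk orbits 100262 512 = true := by decide +kernel

theorem cnt100262 : orbits.countLab 0 100262 512 = 0 ∧ orbits.countLab 1 100262 512 = 273 ∧ orbits.countLab 2 100262 512 = 13 ∧
    orbits.countLab 3 100262 512 = 215 ∧ orbits.countLab 4 100262 512 = 11 := by decide +kernel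

theorem orb100774 : table.orbsChk orbits 100774 512 = true := by decide +kernel

theorem cnt100774 : orbits.countLab 0 100774 512 = 0 ∧ orbits.countLab 1 100774 512 = 275 ∧ orbits.countLab 2 100774 512 = 30 ∧
    orbits.countLab 3 100774 512 = 167 ∧ orbits.countLab 4 100774 512 = 40 := by decide +kernel

theorem orb101286 : table.orbsChk orbits 101286 512 = true := by decide +kernel

theorem cnt101286 : orbits.countLab 0 101286 512 = 0 ∧ orbits.countLab 1 101286 512 = 245 ∧ orbits.countLab 2 101286 512 = 20 ∧
    orbits.countLab 3 101286 512 = 218 ∧ orbits.countLab 4 101286 512 = 29 := by decide +kernel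

theorem orb101798 : table.orbsChk orbits 101798 512 = true := by decide +kernel

theorem cnt101798 : orbits.countLab 0 101798 512 = 0 ∧ orbits.countLab 1 101798 512 = 253 ∧ orbits.countLab 2 101798 512 = 30 ∧
    orbits.countLab 3 101798 512 = 217 ∧ orbits.countLab 4 101798 512 = 12 := by decide +kernel

theorem orb102310 : table.orbsChk orbits 102310 512 = true := by decide +kernel

theorem cnt102310 : orbits.countLab 0 102310 512 = 0 ∧ orbits.countLab 1 102310 512 = 253 ∧ orbits.countLab 2 102310 512 = 14 ∧
    orbits.countLab 3 102310 512 = 197 ∧ orbits.countLab 4 102310 512 = 48 := by decide +kernel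

theorem orb102822 : table.orbsChk orbits 102822 512 = true := by decide +kernel

theorem cnt102822 : orbits.countLab 0 102822 512 = 0 ∧ orbits.countLab 1 102822 512 = 256 ∧ orbits.countLab 2 102822 512 = 13 ∧
    orbits.countLab 3 102822 512 = 208 ∧ orbits.countLab 4 102822 512 = 35 := by decide +kernel

theorem orb103334 : table.orbsChk orbits 103334 512 = true := by decide +kernel

theorem cnt103334 : orbits.countLab 0 103334 512 = 0 ∧ orbits.countLab 1 103334 512 = 243 ∧ orbits.countLab 2 103334 512 = 18 ∧
    orbits.countLab 3 103334 512 = 232 ∧ orbits.countLab 4 103334 512 = 19 := by decide +kernel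

theorem orb103846 : table.orbsChk orbits 103846 512 = true := by decide +kernel

theorem cnt103846 : orbits.countLab 0 103846 512 = 0 ∧ orbits.countLab 1 103846 512 = 229 ∧ orbits.countLab 2 103846 512 = 9 ∧
    orbits.countLab 3 103846 512 = 229 ∧ orbits.countLab 4 103846 512 = 45 := by decide +kernel

theorem orb104358 : table.orbsChk orbits 104358 512 = true := by decide +kernel

theorem cnt104358 : orbits.countLab 0 104358 512 = 0 ∧ orbits.countLab 1 104358 512 = 295 ∧ orbits.countLab 2 104358 512 = 6 ∧
    orbits.countLab 3 104358 512 = 193 ∧ orbits.countLab 4 104358 512 = 18 := by decide +kernel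

theorem orb104870 : table.orbsChk orbits 104870 512 = true := by decide +kernel

theorem cnt104870 : orbits.countLab 0 104870 512 = 0 ∧ orbits.countLab 1 104870 512 = 273 ∧ orbits.countLab 2 104870 512 = 8 ∧
    orbits.countLab 3 104870 512 = 224 ∧ orbits.countLab 4 104870 512 = 7 := by decide +kernel

theorem orb105382 : table.orbsChk orbits 105382 512 = true := by decide +kernel

theorem cnt105382 : orbits.countLab 0 105382 512 = 0 ∧ orbits.countLab 1 105382 512 = 284 ∧ orbits.countLab 2 105382 512 = 24 ∧
    orbits.countLab 3 105382 512 = 196 ∧ orbits.countLab 4 105382 512 = 8 := by decide +kernel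

theorem orb105894 : table.orbsChk orbits 105894 512 = true := by decide +kernel

theorem cnt105894 : orbits.countLab 0 105894 512 = 0 ∧ orbits.countLab 1 105894 512 = 218 ∧ orbits.countLab 2 105894 512 = 43 ∧
    orbits.countLab 3 105894 512 = 203 ∧ orbits.countLab 4 105894 512 = 48 := by decide +kernel

theorem orb106406 : table.orbsChk orbits 106406 512 = true := by decide +kernel

theorem cnt106406 : orbits.countLab 0 106406 512 = 0 ∧ orbits.countLab 1 106406 512 = 279 ∧ orbits.countLab 2 106406 512 = 34 ∧
    orbits.countLab 3 106406 512 = 175 ∧ orbits.countLab 4 106406 512 = 24 := by decide +kernel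

theorem orb106918 : table.orbsChk orbits 106918 512 = true := by decide +kernel

theorem cnt106918 : orbits.countLab 0 106918 512 = 0 ∧ orbits.countLab 1 106918 512 = 310 ∧ orbits.countLab 2 106918 512 = 26 ∧
    orbits.countLab 3 106918 512 = 157 ∧ orbits.countLab 4 106918 512 = 19 := by decide +kernel

theorem orb107430 : table.orbsChk orbits 107430 512 = true := by decide +kernel

theorem cnt107430 : orbits.countLab 0 107430 512 = 0 ∧ orbits.countLab 1 107430 512 = 353 ∧ orbits.countLab 2 107430 512 = 10 ∧
    orbits.countLab 3 107430 512 = 139 ∧ orbits.countLab 4 107430 512 = 10 := by decide +kernel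

theorem orb107942 : table.orbsChk orbits 107942 512 = true := by decide +kernel

theorem cnt107942 : orbits.countLab 0 107942 512 = 0 ∧ orbits.countLab 1 107942 512 = 306 ∧ orbits.countLab 2 107942 512 = 1 ∧
    orbits.countLab 3 107942 512 = 173 ∧ orbits.countLab 4 107942 512 = 32 := by decide +kernel

theorem orb108454 : table.orbsChk orbits 108454 512 = true := by decide +kernel

theorem cnt108454 : orbits.countLab 0 108454 512 = 0 ∧ orbits.countLab 1 108454 512 = 313 ∧ orbits.countLab 2 108454 512 = 16 ∧
    orbits.countLab 3 108454 512 = 162 ∧ orbits.countLab 4 108454 512 = 21 := by decide +kernel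

theorem orb108966 : table.orbsChk orbits 108966 512 = true := by decide +kernel

theorem cnt108966 : orbits.countLab 0 108966 512 = 0 ∧ orbits.countLab 1 108966 512 = 279 ∧ orbits.countLab 2 108966 512 = 13 ∧
    orbits.countLab 3 108966 512 = 211 ∧ orbits.countLab 4 108966 512 = 9 := by decide +kernel

theorem orb109478 : table.orbsChk orbits 109478 512 = true := by decide +kernel

theorem cnt109478 : orbits.countLab 0 109478 512 = 0 ∧ orbits.countLab 1 109478 512 = 253 ∧ orbits.countLab 2 109478 512 = 22 ∧
    orbits.countLab 3 109478 512 = 220 ∧ orbits.countLab 4 109478 512 = 17 := by decide +kernel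

theorem orb109990 : table.orbsChk orbits 109990 512 = true := by decide +kernel

theorem cnt109990 : orbits.countLab 0 109990 512 = 0 ∧ orbits.countLab 1 109990 512 = 256 ∧ orbits.countLab 2 109990 512 = 20 ∧
    orbits.countLab 3 109990 512 = 222 ∧ orbits.countLab 4 109990 512 = 14 := by decide +kernel

theorem orb110502 : table.orbsChk orbits 110502 512 = true := by decide +kernel

theorem cnt110502 : orbits.countLab 0 110502 512 = 0 ∧ orbits.countLab 1 110502 512 = 238 ∧ orbits.countLab 2 110502 512 = 38 ∧
    orbits.countLab 3 110502 512 = 219 ∧ orbits.countLab 4 110502 512 = 17 := by decide +kernel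

theorem orb111014 : table.orbsChk orbits 111014 512 = true := by decide +kernel

theorem cnt111014 : orbits.countLab 0 111014 512 = 0 ∧ orbits.countLab 1 111014 512 = 324 ∧ orbits.countLab 2 111014 512 = 19 ∧
    orbits.countLab 3 111014 512 = 140 ∧ orbits.countLab 4 111014 512 = 29 := by decide +kernel

theorem orb111526 : table.orbsChk orbits 111526 512 = true := by decide +kernel

theorem cnt111526 : orbits.countLab 0 111526 512 = 0 ∧ orbits.countLab 1 111526 512 = 301 ∧ orbits.countLab 2 111526 512 = 30 ∧
    orbits.countLab 3 111526 512 = 153 ∧ orbits.countLab 4 111526 512 = 28 := by decide +kernel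

theorem orb112038 : table.orbsChk orbits 112038 512 = true := by decide +kernel

theorem cnt112038 : orbits.countLab 0 112038 512 = 0 ∧ orbits.countLab 1 112038 512 = 260 ∧ orbits.countLab 2 112038 512 = 26 ∧
    orbits.countLab 3 112038 512 = 211 ∧ orbits.countLab 4 112038 512 = 15 := by decide +kernel

theorem orb112550 : table.orbsChk orbits 112550 512 = true := by decide +kernel

theorem cnt112550 : orbits.countLab 0 112550 512 = 0 ∧ orbits.countLab 1 112550 512 = 237 ∧ orbits.countLab 2 112550 512 = 13 ∧
    orbits.countLab 3 112550 512 = 249 ∧ orbits.countLab 4 112550 512 = 13 := by decide +kernel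

theorem orb113062 : table.orbsChk orbits 113062 512 = true := by decide +kernel

theorem cnt113062 : orbits.countLab 0 113062 512 = 0 ∧ orbits.countLab 1 113062 512 = 231 ∧ orbits.countLab 2 113062 512 = 14 ∧
    orbits.countLab 3 113062 512 = 230 ∧ orbits.countLab 4 113062 512 = 37 := by decide +kernel

theorem orb113574 : table.orbsChk orbits 113574 512 = true := by decide +kernel

theorem cnt113574 : orbits.countLab 0 113574 512 = 0 ∧ orbits.countLab 1 113574 512 = 292 ∧ orbits.countLab 2 113574 512 = 26 ∧
    orbits.countLab 3 113574 512 = 185 ∧ orbits.countLab 4 113574 512 = 9 := by decide +kernel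

theorem orb114086 : table.orbsChk orbits 114086 512 = true := by decide +kernel

theorem cnt114086 : orbits.countLab 0 114086 512 = 0 ∧ orbits.countLab 1 114086 512 = 280 ∧ orbits.countLab 2 114086 512 = 29 ∧
    orbits.countLab 3 114086 512 = 194 ∧ orbits.countLab 4 114086 512 = 9 := by decide +kernel

theorem orb114598 : table.orbsChk orbits 114598 512 = true := by decide +kernel

theorem cnt114598 : orbits.countLab 0 114598 512 = 0 ∧ orbits.countLab 1 114598 512 = 294 ∧ orbits.countLab 2 114598 512 = 16 ∧
    orbits.countLab 3 114598 512 = 186 ∧ orbits.countLab 4 114598 512 = 16 := by decide +kernel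

theorem orb115110 : table.orbsChk orbits 115110 512 = true := by decide +kernel

theorem cnt115110 : orbits.countLab 0 115110 512 = 0 ∧ orbits.countLab 1 115110 512 = 251 ∧ orbits.countLab 2 115110 512 = 47 ∧
    orbits.countLab 3 115110 512 = 202 ∧ orbits.countLab 4 115110 512 = 12 := by decide +kernel

theorem orb115622 : table.orbsChk orbits 115622 512 = true := by decide +kernel

theorem cnt115622 : orbits.countLab 0 115622 512 = 0 ∧ orbits.countLab 1 115622 512 = 293 ∧ orbits.countLab 2 115622 512 = 27 ∧
    orbits.countLab 3 115622 512 = 157 ∧ orbits.countLab 4 115622 512 = 35 := by decide +kernel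

theorem orb116134 : table.orbsChk orbits 116134 512 = true := by decide +kernel

theorem cnt116134 : orbits.countLab 0 116134 512 = 0 ∧ orbits.countLab 1 116134 512 = 275 ∧ orbits.countLab 2 116134 512 = 20 ∧
    orbits.countLab 3 116134 512 = 204 ∧ orbits.countLab 4 116134 512 = 13 := by decide +kernel

theorem orb116646 : table.orbsChk orbits 116646 512 = true := by decide +kernel

theorem cnt116646 : orbits.countLab 0 116646 512 = 0 ∧ orbits.countLab 1 116646 512 = 299 ∧ orbits.countLab 2 116646 512 = 26 ∧
    orbits.countLab 3 116646 512 = 173 ∧ orbits.countLab 4 116646 512 = 14 := by decide +kernel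

theorem orb117158 : table.orbsChk orbits 117158 512 = true := by decide +kernel

theorem cnt117158 : orbits.countLab 0 117158 512 = 0 ∧ orbits.countLab 1 117158 512 = 273 ∧ orbits.countLab 2 117158 512 = 16 ∧
    orbits.countLab 3 117158 512 = 199 ∧ orbits.countLab 4 117158 512 = 24 := by decide +kernel

theorem orb117670 : table.orbsChk orbits 117670 512 = true := by decide +kernel

theorem cnt117670 : orbits.countLab 0 117670 512 = 0 ∧ orbits.countLab 1 117670 512 = 257 ∧ orbits.countLab 2 117670 512 = 36 ∧
    orbits.countLab 3 117670 512 = 196 ∧ orbits.countLab 4 117670 512 = 23 := by decide +kernel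

theorem orb118182 : table.orbsChk orbits 118182 512 = true := by decide +kernel

theorem cnt118182 : orbits.countLab 0 118182 512 = 0 ∧ orbits.countLab 1 118182 512 = 307 ∧ orbits.countLab 2 118182 512 = 19 ∧
    orbits.countLab 3 118182 512 = 168 ∧ orbits.countLab 4 118182 512 = 18 := by decide +kernel

theorem orb118694 : table.orbsChk orbits 118694 512 = true := by decide +kernel

theorem cnt118694 : orbits.countLab 0 118694 512 = 0 ∧ orbits.countLab 1 118694 512 = 296 ∧ orbits.countLab 2 118694 512 = 33 ∧
    orbits.countLab 3 118694 512 = 171 ∧ orbits.countLab 4 118694 512 = 12 := by decide +kernel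

theorem orb119206 : table.orbsChk orbits 119206 512 = true := by decide +kernel

theorem cnt119206 : orbits.countLab 0 119206 512 = 0 ∧ orbits.countLab 1 119206 512 = 319 ∧ orbits.countLab 2 119206 512 = 26 ∧
    orbits.countLab 3 119206 512 = 142 ∧ orbits.countLab 4 119206 512 = 25 := by decide +kernel

theorem orb119718 : table.orbsChk orbits 119718 512 = true := by decide +kernel

theorem cnt119718 : orbits.countLab 0 119718 512 = 0 ∧ orbits.countLab 1 119718 512 = 273 ∧ orbits.countLab 2 119718 512 = 28 ∧
    orbits.countLab 3 119718 512 = 188 ∧ orbits.countLab 4 119718 512 = 23 := by decide +kernel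

theorem orb120230 : table.orbsChk orbits 120230 512 = true := by decide +kernel

theorem cnt120230 : orbits.countLab 0 120230 512 = 0 ∧ orbits.countLab 1 120230 512 = 304 ∧ orbits.countLab 2 120230 512 = 52 ∧
    orbits.countLab 3 120230 512 = 139 ∧ orbits.countLab 4 120230 512 = 17 := by decide +kernel

theorem orb120742 : table.orbsChk orbits 120742 512 = true := by decide +kernel

theorem cnt120742 : orbits.countLab 0 120742 512 = 0 ∧ orbits.countLab 1 120742 512 = 292 ∧ orbits.countLab 2 120742 512 = 25 ∧
    orbits.countLab 3 120742 512 = 173 ∧ orbits.countLab 4 120742 512 = 22 := by decide +kernel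

theorem orb121254 : table.orbsChk orbits 121254 512 = true := by decide +kernel

theorem cnt121254 : orbits.countLab 0 121254 512 = 0 ∧ orbits.countLab 1 121254 512 = 359 ∧ orbits.countLab 2 121254 512 = 15 ∧
    orbits.countLab 3 121254 512 = 127 ∧ orbits.countLab 4 121254 512 = 11 := by decide +kernel

theorem orb121766 : table.orbsChk orbits 121766 512 = true := by decide +kernel

theorem cnt121766 : orbits.countLab 0 121766 512 = 0 ∧ orbits.countLab 1 121766 512 = 327 ∧ orbits.countLab 2 121766 512 = 18 ∧
    orbits.countLab 3 121766 512 = 150 ∧ orbits.countLab 4 121766 512 = 17 := by decide +kernel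

theorem orb122278 : table.orbsChk orbits 122278 482 = true := by decide +kernel

theorem cnt122278 : orbits.countLab 0 122278 482 = 0 ∧ orbits.countLab 1 122278 482 = 315 ∧ orbits.countLab 2 122278 482 = 14 ∧
    orbits.countLab 3 122278 482 = 142 ∧ orbits.countLab 4 122278 482 = 11 := by decide +kernel

theorem orbUpTo3 (h : ∀ i < 92070, table.orbChk orbits i = true) :
    ∀ i < 122760, table.orbChk orbits i = true :=
  orbs_add 122278 482 (orbs_add 121766 512 (orbs_add 121254 512 (orbs_add 120742 512 (orbs_add 120230 512 (orbs_add 119718 512 (orbs_add 119206 512 (orbs_add 118694 512 (orbs_add 118182 512 (orbs_add 117670 512 (orbs_add 117158 512 (orbs_add 116646 512 (orbs_add 116134 512 (orbs_add 115622 512 (orbs_add 115110 512 (orbs_add 114598 512 (orbs_add 114086 512 (orbs_add 113574 512 (orbs_add 113062 512 (orbs_add 112550 512 (orbs_add 112038 512 (orbs_add 111526 512 (orbs_add 111014 512 (orbs_add 110502 512 (orbs_add 109990 512 (orbs_add 109478 512 (orbs_add 108966 512 (orbs_add 108454 512 (orbs_add 107942 512 (orbs_add 107430 512 (orbs_add 106918 512 (orbs_add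 106406 512 (orbs_add 105894 512 (orbs_add 105382 512 (orbs_add 104870 512 (orbs_add 104358 512 (orbs_add 103846 512 (orbs_add 103334 512 (orbs_add 102822 512 (orbs_add 102310 512 (orbs_add 101798 512 (orbs_add 101286 512 (orbs_add 100774 512 (orbs_add 100262 512 (orbs_add 99750 512 (orbs_add 99238 512 (orbs_add 98726 512 (orbs_add 98214 512 (orbs_add 97702 512 (orbs_add 97190 512 (orbs_add 96678 512 (orbs_add 96166 512 (orbs_add 95654 512 (orbs_add 95142 512 (orbs_add 94630 512 (orbs_add 94118 512 (orbs_add 93606 512 (orbs_add 93094 512 (orbs_add 92582 512 (orbs_add 92070 512 (h) orb92070) orb92582) orb93094) orb93606) orb94118) orb94630) orb95142) orb95654) orb96166) orb96678) orb97190) orb97702) orb98214) orb98726) orb99238) orb99750) orb100262) orb100774) orb101286) orb101798) orb102310) orb102822) orb103334) orb103846) orb104358) orb104870) orb105382) orb105894) orb106406) orb106918) orb107430) orb107942) orb108454) orb108966) orb109478) orb109990) orb110502) orb111014) orb111526) orb112038) orb112550) orb113062) orb113574) orb114086) orb114598) orb115110) orb115622)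 orb116134) orb116646) orb117158) orb117670) orb118182) orb118694) orb119206) orb119718) orb120230) orb120742) orb121254) orb121766) orb122278

theorem count0UpTo3 (h : ((Finset.range 92070).filter fun c => orbits.lab c = 0).card = 1) :
    ((Finset.range 122760).filter fun c => orbits.lab c = 0).card = 1 :=
  count_add 122278 482 (count_add 121766 512 (count_add 121254 512 (count_add 120742 512 (count_add 120230 512 (count_add 119718 512 (count_add 119206 512 (count_add 118694 512 (count_add 118182 512 (count_add 117670 512 (count_add 117158 512 (count_add 116646 512 (count_add 116134 512 (count_add 115622 512 (count_add 115110 512 (count_add 114598 512 (count_add 114086 512 (count_add 113574 512 (count_add 113062 512 (count_add 112550 512 (count_add 112038 512 (count_add 111526 512 (count_add 111014 512 (count_add 110502 512 (count_add 109990 512 (count_add 109478 512 (count_add 108966 512 (count_add 108454 512 (count_add 107942 512 (count_add 107430 512 (count_add 106918 512 (count_add 106406 512 (count_add 105894 512 (count_add 105382 512 (count_add 104870 512 (count_add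 104358 512 (count_add 103846 512 (count_add 103334 512 (count_add 102822 512 (count_add 102310 512 (count_add 101798 512 (count_add 101286 512 (count_add 100774 512 (count_add 100262 512 (count_add 99750 512 (count_add 99238 512 (count_add 98726 512 (count_add 98214 512 (count_add 97702 512 (count_add 97190 512 (count_add 96678 512 (count_add 96166 512 (count_add 95654 512 (count_add 95142 512 (count_add 94630 512 (count_add 94118 512 (count_add 93606 512 (count_add 93094 512 (count_add 92582 512 (count_add 92070 512 (h) cnt92070.1) cnt92582.1) cnt93094.1) cnt93606.1) cnt94118.1) cnt94630.1) cnt95142.1) cnt95654.1) cnt96166.1) cnt96678.1) cnt97190.1) cnt97702.1) cnt98214.1) cnt98726.1) cnt99238.1) cnt99750.1) cnt100262.1) cnt100774.1) cnt101286.1) cnt101798.1) cnt102310.1) cnt102822.1) cnt103334.1) cnt103846.1) cnt104358.1) cnt104870.1) cnt105382.1) cnt105894.1) cnt106406.1) cnt106918.1) cnt107430.1) cnt107942.1) cnt108454.1) cnt108966.1) cnt109478.1) cnt109990.1) cnt110502.1) cnt111014.1) cnt111526.1) cnt112038.1) cnt112550.1) cnt113062.1) cnt113574.1) cnt114086.1)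 cnt114598.1) cnt115110.1) cnt115622.1) cnt116134.1) cnt116646.1) cnt117158.1) cnt117670.1) cnt118182.1) cnt118694.1) cnt119206.1) cnt119718.1) cnt120230.1) cnt120742.1) cnt121254.1) cnt121766.1) cnt122278.1

theorem count1UpTo3 (h : ((Finset.range 92070).filter fun c => orbits.lab c = 1).card = 42056) :
    ((Finset.range 122760).filter fun c => orbits.lab c = 1).card = 58653 :=
  count_add 122278 482 (count_add 121766 512 (count_add 121254 512 (count_add 120742 512 (count_add 120230 512 (count_add 119718 512 (count_add 119206 512 (count_add 118694 512 (count_add 118182 512 (count_add 117670 512 (count_add 117158 512 (count_add 116646 512 (count_add 116134 512 (count_add 115622 512 (count_add 115110 512 (count_add 114598 512 (count_add 114086 512 (count_add 113574 512 (count_add 113062 512 (count_add 112550 512 (count_add 112038 512 (count_add 111526 512 (count_add 111014 512 (count_add 110502 512 (count_add 109990 512 (count_add 109478 512 (count_add 108966 512 (count_add 108454 512 (count_add 107942 512 (count_add 107430 512 (count_add 106918 512 (count_add 106406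 512 (count_add 105894 512 (count_add 105382 512 (count_add 104870 512 (count_add 104358 512 (count_add 103846 512 (count_add 103334 512 (count_add 102822 512 (count_add 102310 512 (count_add 101798 512 (count_add 101286 512 (count_add 100774 512 (count_add 100262 512 (count_add 99750 512 (count_add 99238 512 (count_add 98726 512 (count_add 98214 512 (count_add 97702 512 (count_add 97190 512 (count_add 96678 512 (count_add 96166 512 (count_add 95654 512 (count_add 95142 512 (count_add 94630 512 (count_add 94118 512 (count_add 93606 512 (count_add 93094 512 (count_add 92582 512 (count_add 92070 512 (h) cnt92070.2.1) cnt92582.2.1) cnt93094.2.1) cnt93606.2.1) cnt94118.2.1) cnt94630.2.1) cnt95142.2.1) cnt95654.2.1) cnt96166.2.1) cnt96678.2.1) cnt97190.2.1) cnt97702.2.1) cnt98214.2.1) cnt98726.2.1) cnt99238.2.1) cnt99750.2.1) cnt100262.2.1) cnt100774.2.1) cnt101286.2.1) cnt101798.2.1) cnt102310.2.1) cnt102822.2.1) cnt103334.2.1) cnt103846.2.1) cnt104358.2.1) cnt104870.2.1) cnt105382.2.1) cnt105894.2.1) cnt106406.2.1) cnt106918.2.1) cnt107430.2.1) cnt107942.2.1) cnt108454.2.1)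 cnt108966.2.1) cnt109478.2.1) cnt109990.2.1) cnt110502.2.1) cnt111014.2.1) cnt111526.2.1) cnt112038.2.1) cnt112550.2.1) cnt113062.2.1) cnt113574.2.1) cnt114086.2.1) cnt114598.2.1) cnt115110.2.1) cnt115622.2.1) cnt116134.2.1) cnt116646.2.1) cnt117158.2.1) cnt117670.2.1) cnt118182.2.1) cnt118694.2.1) cnt119206.2.1) cnt119718.2.1) cnt120230.2.1) cnt120742.2.1) cnt121254.2.1) cnt121766.2.1) cnt122278.2.1

theorem count2UpTo3 (h : ((Finset.range 92070).filter fun c => orbits.lab c = 2).card = 4388) :
    ((Finset.range 122760).filter fun c => orbits.lab c = 2).card = 5586 :=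
  count_add 122278 482 (count_add 121766 512 (count_add 121254 512 (count_add 120742 512 (count_add 120230 512 (count_add 119718 512 (count_add 119206 512 (count_add 118694 512 (count_add 118182 512 (count_add 117670 512 (count_add 117158 512 (count_add 116646 512 (count_add 116134 512 (count_add 115622 512 (count_add 115110 512 (count_add 114598 512 (count_add 114086 512 (count_add 113574 512 (count_add 113062 512 (count_add 112550 512 (count_add 112038 512 (count_add 111526 512 (count_add 111014 512 (count_add 110502 512 (count_add 109990 512 (count_add 109478 512 (count_add 108966 512 (count_add 108454 512 (count_add 107942 512 (count_add 107430 512 (count_add 106918 512 (count_add 106406 512 (count_add 105894 512 (count_add 105382 512 (count_add 104870 512 (count_add 104358 512 (count_add 103846 512 (count_add 103334 512 (count_add 102822 512 (count_add 102310 512 (count_add 101798 512 (count_add 101286 512 (count_add 100774 512 (count_add 100262 512 (count_add 99750 512 (count_add 99238 512 (count_add 98726 512 (count_add 98214 512 (count_add 97702 512 (count_add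 97190 512 (count_add 96678 512 (count_add 96166 512 (count_add 95654 512 (count_add 95142 512 (count_add 94630 512 (count_add 94118 512 (count_add 93606 512 (count_add 93094 512 (count_add 92582 512 (count_add 92070 512 (h) cnt92070.2.2.1) cnt92582.2.2.1) cnt93094.2.2.1) cnt93606.2.2.1) cnt94118.2.2.1) cnt94630.2.2.1) cnt95142.2.2.1) cnt95654.2.2.1) cnt96166.2.2.1) cnt96678.2.2.1) cnt97190.2.2.1) cnt97702.2.2.1) cnt98214.2.2.1) cnt98726.2.2.1) cnt99238.2.2.1) cnt99750.2.2.1) cnt100262.2.2.1) cnt100774.2.2.1) cnt101286.2.2.1) cnt101798.2.2.1) cnt102310.2.2.1) cnt102822.2.2.1) cnt103334.2.2.1) cnt103846.2.2.1) cnt104358.2.2.1) cnt104870.2.2.1) cnt105382.2.2.1) cnt105894.2.2.1) cnt106406.2.2.1) cnt106918.2.2.1) cnt107430.2.2.1) cnt107942.2.2.1) cnt108454.2.2.1) cnt108966.2.2.1) cnt109478.2.2.1) cnt109990.2.2.1) cnt110502.2.2.1) cnt111014.2.2.1) cnt111526.2.2.1) cnt112038.2.2.1) cnt112550.2.2.1) cnt113062.2.2.1) cnt113574.2.2.1) cnt114086.2.2.1) cnt114598.2.2.1) cnt115110.2.2.1) cnt115622.2.2.1) cnt116134.2.2.1) cnt116646.2.2.1) cnt117158.2.2.1) cnt117670.2.2.1) cnt118182.2.2.1)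 cnt118694.2.2.1) cnt119206.2.2.1) cnt119718.2.2.1) cnt120230.2.2.1) cnt120742.2.2.1) cnt121254.2.2.1) cnt121766.2.2.1) cnt122278.2.2.1

theorem count3UpTo3 (h : ((Finset.range 92070).filter fun c => orbits.lab c = 3).card = 40592) :
    ((Finset.range 122760).filter fun c => orbits.lab c = 3).card = 52136 :=
  count_add 122278 482 (count_add 121766 512 (count_add 121254 512 (count_add 120742 512 (count_add 120230 512 (count_add 119718 512 (count_add 119206 512 (count_add 118694 512 (count_add 118182 512 (count_add 117670 512 (count_add 117158 512 (count_add 116646 512 (count_add 116134 512 (count_add 115622 512 (count_add 115110 512 (count_add 114598 512 (count_add 114086 512 (count_add 113574 512 (count_add 113062 512 (count_add 112550 512 (count_add 112038 512 (count_add 111526 512 (count_add 111014 512 (count_add 110502 512 (count_add 109990 512 (count_add 109478 512 (count_add 108966 512 (count_add 108454 512 (count_add 107942 512 (count_add 107430 512 (count_add 106918 512 (count_add 106406 512 (count_add 105894 512 (count_add 105382 512 (count_add 104870 512 (count_add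 104358 512 (count_add 103846 512 (count_add 103334 512 (count_add 102822 512 (count_add 102310 512 (count_add 101798 512 (count_add 101286 512 (count_add 100774 512 (count_add 100262 512 (count_add 99750 512 (count_add 99238 512 (count_add 98726 512 (count_add 98214 512 (count_add 97702 512 (count_add 97190 512 (count_add 96678 512 (count_add 96166 512 (count_add 95654 512 (count_add 95142 512 (count_add 94630 512 (count_add 94118 512 (count_add 93606 512 (count_add 93094 512 (count_add 92582 512 (count_add 92070 512 (h) cnt92070.2.2.2.1) cnt92582.2.2.2.1) cnt93094.2.2.2.1) cnt93606.2.2.2.1) cnt94118.2.2.2.1) cnt94630.2.2.2.1) cnt95142.2.2.2.1) cnt95654.2.2.2.1) cnt96166.2.2.2.1) cnt96678.2.2.2.1) cnt97190.2.2.2.1) cnt97702.2.2.2.1) cnt98214.2.2.2.1) cnt98726.2.2.2.1) cnt99238.2.2.2.1) cnt99750.2.2.2.1) cnt100262.2.2.2.1) cnt100774.2.2.2.1) cnt101286.2.2.2.1) cnt101798.2.2.2.1) cnt102310.2.2.2.1) cnt102822.2.2.2.1) cnt103334.2.2.2.1) cnt103846.2.2.2.1) cnt104358.2.2.2.1) cnt104870.2.2.2.1) cnt105382.2.2.2.1) cnt105894.2.2.2.1) cnt106406.2.2.2.1) cnt106918.2.2.2.1) cnt107430.2.2.2.1)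 cnt107942.2.2.2.1) cnt108454.2.2.2.1) cnt108966.2.2.2.1) cnt109478.2.2.2.1) cnt109990.2.2.2.1) cnt110502.2.2.2.1) cnt111014.2.2.2.1) cnt111526.2.2.2.1) cnt112038.2.2.2.1) cnt112550.2.2.2.1) cnt113062.2.2.2.1) cnt113574.2.2.2.1) cnt114086.2.2.2.1) cnt114598.2.2.2.1) cnt115110.2.2.2.1) cnt115622.2.2.2.1) cnt116134.2.2.2.1) cnt116646.2.2.2.1) cnt117158.2.2.2.1) cnt117670.2.2.2.1) cnt118182.2.2.2.1) cnt118694.2.2.2.1) cnt119206.2.2.2.1) cnt119718.2.2.2.1) cnt120230.2.2.2.1) cnt120742.2.2.2.1) cnt121254.2.2.2.1) cnt121766.2.2.2.1) cnt122278.2.2.2.1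

theorem count4UpTo3 (h : ((Finset.range 92070).filter fun c => orbits.lab c = 4).card = 5033) :
    ((Finset.range 122760).filter fun c => orbits.lab c = 4).card = 6384 :=
  count_add 122278 482 (count_add 121766 512 (count_add 121254 512 (count_add 120742 512 (count_add 120230 512 (count_add 119718 512 (count_add 119206 512 (count_add 118694 512 (count_add 118182 512 (count_add 117670 512 (count_add 117158 512 (count_add 116646 512 (count_add 116134 512 (count_add 115622 512 (count_add 115110 512 (count_add 114598 512 (count_add 114086 512 (count_add 113574 512 (count_add 113062 512 (count_add 112550 512 (count_add 112038 512 (count_add 111526 512 (count_add 111014 512 (count_add 110502 512 (count_add 109990 512 (count_add 109478 512 (count_add 108966 512 (count_add 108454 512 (count_add 107942 512 (count_add 107430 512 (count_add 106918 512 (count_add 106406 512 (count_add 105894 512 (count_add 105382 512 (count_add 104870 512 (count_add 104358 512 (count_add 103846 512 (count_add 103334 512 (count_add 102822 512 (count_add 102310 512 (count_add 101798 512 (count_add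 101286 512 (count_add 100774 512 (count_add 100262 512 (count_add 99750 512 (count_add 99238 512 (count_add 98726 512 (count_add 98214 512 (count_add 97702 512 (count_add 97190 512 (count_add 96678 512 (count_add 96166 512 (count_add 95654 512 (count_add 95142 512 (count_add 94630 512 (count_add 94118 512 (count_add 93606 512 (count_add 93094 512 (count_add 92582 512 (count_add 92070 512 (h) cnt92070.2.2.2.2) cnt92582.2.2.2.2) cnt93094.2.2.2.2) cnt93606.2.2.2.2) cnt94118.2.2.2.2) cnt94630.2.2.2.2) cnt95142.2.2.2.2) cnt95654.2.2.2.2) cnt96166.2.2.2.2) cnt96678.2.2.2.2) cnt97190.2.2.2.2) cnt97702.2.2.2.2) cnt98214.2.2.2.2) cnt98726.2.2.2.2) cnt99238.2.2.2.2) cnt99750.2.2.2.2) cnt100262.2.2.2.2) cnt100774.2.2.2.2) cnt101286.2.2.2.2) cnt101798.2.2.2.2) cnt102310.2.2.2.2) cnt102822.2.2.2.2) cnt103334.2.2.2.2) cnt103846.2.2.2.2) cnt104358.2.2.2.2) cnt104870.2.2.2.2) cnt105382.2.2.2.2) cnt105894.2.2.2.2) cnt106406.2.2.2.2) cnt106918.2.2.2.2) cnt107430.2.2.2.2) cnt107942.2.2.2.2) cnt108454.2.2.2.2) cnt108966.2.2.2.2) cnt109478.2.2.2.2) cnt109990.2.2.2.2) cnt110502.2.2.2.2) cnt111014.2.2.2.2)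 cnt111526.2.2.2.2) cnt112038.2.2.2.2) cnt112550.2.2.2.2) cnt113062.2.2.2.2) cnt113574.2.2.2.2) cnt114086.2.2.2.2) cnt114598.2.2.2.2) cnt115110.2.2.2.2) cnt115622.2.2.2.2) cnt116134.2.2.2.2) cnt116646.2.2.2.2) cnt117158.2.2.2.2) cnt117670.2.2.2.2) cnt118182.2.2.2.2) cnt118694.2.2.2.2) cnt119206.2.2.2.2) cnt119718.2.2.2.2) cnt120230.2.2.2.2) cnt120742.2.2.2.2) cnt121254.2.2.2.2) cnt121766.2.2.2.2) cnt122278.2.2.2.2

end Cfsg.Agent.ONTable
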