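import Cfsg.Agent.Lib.ONTable.Orb0
import Cfsg.Agent.Lib.ONTable.Orb1
import Cfsg.Agent.Lib.ONTable.Orb2
import Cfsg.Agent.Lib.ONTable.Orb3

/-!
# All orbits
-/

set_option autoImplicit false
set_option maxHeartbeats 0
set_option maxRecDepth 100000

noncomputable section

namespace Cfsg.Agent.ONTable

open Cfsg.Agent.InvCoset

theorem orbAll : ∀ i < 122760, table.orbChk orbits i = true :=
  orbUpTo3 (orbUpTo2 (orbUpTo1 (orbUpTo0 (orbs_zero table orbits))))

theorem count0 : ((Finset.range 122760).filter fun c => orbits.lab c = 0).card = 1 :=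
  (count0UpTo3 (count0UpTo2 (count0UpTo1 (count0UpTo0 (count_zero orbits 0)))))

theorem count1 : ((Finset.range 122760).filter fun c => orbits.lab c = 1).card = 58653 :=
  (count1UpTo3 (count1UpTo2 (count1UpTo1 (count1UpTo0 (count_zero orbits 1)))))

theorem count2 : ((Finset.range 122760).filter fun c => orbits.lab c = 2).card = 5586 :=
  (count2UpTo3 (count2UpTo2 (count2UpTo1 (count2UpTo0 (count_zero orbits 2)))))

theorem count3 : ((Finset.range 122760).filter fun c => orbits.lab c = 3).card = 52136 :=
  (count3UpTo3 (count3UpTo2 (count3UpTo1 (count3UpTo0 (count_zero orbits 3)))))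

theorem count4 : ((Finset.range 122760).filter fun c => orbits.lab c = 4).card = 6384 :=
  (count4UpTo3 (count4UpTo2 (count4UpTo1 (count4UpTo0 (count_zero orbits 4)))))

end Cfsg.Agent.ONTable
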