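import Cfsg.Agent.Lib.ONTable.T0
import Cfsg.Agent.Lib.ONTable.T1
import Cfsg.Agent.Lib.ONTable.T2
import Cfsg.Agent.Lib.ONTable.T3
import Cfsg.Agent.Lib.ONTable.J0
import Cfsg.Agent.Lib.ONTable.J1
import Cfsg.Agent.Lib.ONTable.J2
import Cfsg.Agent.Lib.ONTable.J3
import Cfsg.Agent.Lib.ONTable.P
import Cfsg.Agent.Lib.ONTable.Words
import Cfsg.Agent.Lib.InvCoset.Index

/-!
# The coset table of the 122760 cosets
-/

set_option autoImplicit false
set_option maxHeartbeats 0
set_option maxRecDepth 100000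

noncomputable section

namespace Cfsg.Agent.ONTable

open Cfsg.Agent.InvCoset

def RT : NTree := (.node 74 (.node 37 (.node 18 (.node 9 (.node 4 (.node 2 (.node 1 (.leaf 0x2) (.leaf 0x1102)) (.node 1 (.leaf 0x2202) (.leaf 0x3302))) (.node 2 (.node 1 (.leaf 0x4402) (.leaf 0x5502)) (.node 1 (.leaf 0x7602) (.node 1 (.leaf 0x6702) (.leaf 0x202004))))) (.node 4 (.node 2 (.node 1 (.leaf 0x20204) (.leaf 0x303004)) (.node 1 (.leaf 0x30304) (.leaf 0x404004))) (.node 2 (.node 1 (.leaf 0x40404) (.leaf 0x505004)) (.node 1 (.leaf 0x50504) (.node 1 (.leaf 0x313104) (.leaf 0x131304)))))) (.node 9 (.node 4 (.node 2 (.node 1 (.leaf 0x414104) (.leaf 0x141404)) (.node 1 (.leaf 0x515104) (.leaf 0x151504))) (.node 2 (.node 1 (.leaf 0x424204) (.leaf 0x242404)) (.node 1 (.leaf 0x525204) (.node 1 (.leaf 0x252504) (.leaf 0x535304))))) (.node 5 (.node 2 (.node 1 (.leaf 0x353504) (.leaf 0x775004)) (.node 1 (.leaf 0x77504) (.node 1 (.leaf 0x507704) (.leaf 0x750704)))) (.node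 2 (.node 1 (.leaf 0x56604) (.leaf 0x605604)) (.node 1 (.leaf 0x660504) (.node 1 (.leaf 0x566004) (.leaf 0x706004))))))) (.node 18 (.node 9 (.node 4 (.node 2 (.node 1 (.leaf 0x70604) (.leaf 0x607004)) (.node 1 (.leaf 0x60704) (.leaf 0x756504))) (.node 2 (.node 1 (.leaf 0x575604) (.leaf 0x657504)) (.node 1 (.leaf 0x565704) (.node 1 (.leaf 0x666604) (.leaf 0x777704))))) (.node 4 (.node 2 (.node 1 (.leaf 0x10101006) (.leaf 0x1010106)) (.node 1 (.leaf 0x21212106) (.leaf 0x12121206))) (.node 2 (.node 1 (.leaf 0x43434306) (.leaf 0x34343406)) (.node 1 (.leaf 0x54545406) (.node 1 (.leaf 0x45454506) (.leaf 0x23232323500a)))))) (.node 9 (.node 4 (.node 2 (.node 1 (.leaf 0x2323232350a) (.leaf 0x50232323230a)) (.node 1 (.leaf 0x35023232320a) (.leaf 0x23502323230a))) (.node 2 (.node 1 (.leaf 0x32350232320a) (.leaf 0x23235023230a)) (.node 1 (.leaf 0x32323502320a) (.node 1 (.leaf 0x23232350230a) (.leaf 0x32323235020a))))) (.node 5 (.node 2 (.node 1 (.leaf 0x5323232320a)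 (.leaf 0x20532323230a)) (.node 1 (.leaf 0x32053232320a) (.node 1 (.leaf 0x23205323230a) (.leaf 0x32320532320a)))) (.node 2 (.node 1 (.leaf 0x23232053230a) (.leaf 0x32323205320a)) (.node 1 (.leaf 0x23232320530a) (.node 1 (.leaf 0x32323232050a) (.leaf 0x53232323200a)))))))) (.node 37 (.node 18 (.node 9 (.node 4 (.node 2 (.node 1 (.leaf 0x63632373720a) (.leaf 0x26363237370a)) (.node 1 (.leaf 0x72636323730a) (.leaf 0x37263632370a))) (.node 2 (.node 1 (.leaf 0x73726363230a) (.leaf 0x37372636320a)) (.node 1 (.leaf 0x23737263630a) (.node 1 (.leaf 0x32373726360a) (.leaf 0x63237372630a))))) (.node 4 (.node 2 (.node 1 (.leaf 0x36323737260a) (.leaf 0x62623272730a)) (.node 1 (.leaf 0x36262327270a) (.leaf 0x73626232720a))) (.node 2 (.node 1 (.leaf 0x27362623270a) (.leaf 0x72736262320a)) (.node 1 (.leaf 0x27273626230a) (.node 1 (.leaf 0x32727362620a) (.leaf 0x23272736260a)))))) (.node 9 (.node 4 (.node 2 (.node 1 (.leaf 0x62327273620a) (.leaf 0x26232727360a)) (.node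 1 (.leaf 0x262161262160b) (.leaf 0x626216126210b))) (.node 2 (.node 1 (.leaf 0x162621612620b) (.leaf 0x216262161260b)) (.node 1 (.leaf 0x621626216120b) (.node 1 (.leaf 0x262162621610b) (.leaf 0x126216262160b))))) (.node 5 (.node 2 (.node 1 (.leaf 0x612621626210b) (.leaf 0x161262162620b)) (.node 1 (.leaf 0x216126216260b) (.node 1 (.leaf 0x621612621620b) (.leaf 0x712721712720b)))) (.node 2 (.node 1 (.leaf 0x271272171270b) (.leaf 0x727127217120b)) (.node 1 (.leaf 0x272712721710b) (.node 1 (.leaf 0x127271272170b) (.leaf 0x712727127210b))))))) (.node 18 (.node 9 (.node 4 (.node 2 (.node 1 (.leaf 0x171272712720b) (.leaf 0x217127271270b)) (.node 1 (.leaf 0x721712727120b) (.leaf 0x272171272710b))) (.node 2 (.node 1 (.leaf 0x127217127270b) (.leaf 0x363464363460b)) (.node 1 (.leaf 0x636346436340b) (.node 1 (.leaf 0x463634643630b) (.leaf 0x346363464360b))))) (.node 4 (.node 2 (.node 1 (.leaf 0x634636346430b) (.leaf 0x363463634640b)) (.node 1 (.leaf 0x436346363460b)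 (.leaf 0x643634636340b))) (.node 2 (.node 1 (.leaf 0x464363463630b) (.leaf 0x346436346360b)) (.node 1 (.leaf 0x634643634630b) (.node 1 (.leaf 0x743734743730b) (.leaf 0x374373474370b)))))) (.node 9 (.node 4 (.node 2 (.node 1 (.leaf 0x737437347430b) (.leaf 0x373743734740b)) (.node 1 (.leaf 0x437374373470b) (.leaf 0x743737437340b))) (.node 2 (.node 1 (.leaf 0x474373743730b) (.leaf 0x347437374370b)) (.node 1 (.leaf 0x734743737430b) (.node 1 (.leaf 0x373474373740b) (.leaf 0x437347437370b))))) (.node 5 (.node 2 (.node 1 (.leaf 0x323232323232323210) (.leaf 0x232323232323232310)) (.node 1 (.leaf 0x6321632163216321632114) (.node 1 (.leaf 0x1632163216321632163214) (.leaf 0x2163216321632163216314)))) (.node 2 (.node 1 (.leaf 0x3216321632163216321614) (.leaf 0x1237123712371237123714)) (.node 1 (.leaf 0x7123712371237123712314) (.node 1 (.leaf 0x3712371237123712371214) (.leaf 0x2371237123712371237114)))))))))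

def table : Tab where
  K := 8
  iv := iv
  n := 122760
  T := (.node 480 (.node 240 T0 T1) (.node 240 T2 T3))
  J := (.node 480 (.node 240 J0 J1) (.node 240 J2 J3))
  P := PT
  R := RT
  nR := 148

def seeds : List (ℕ × ℕ × List ℕ) := [(0, 0, [0]),
  (0, 1, [1]),
  (0, 2, [2]),
  (0, 3, [3]),
  (0, 4, [4]),
  (0, 5, [5]),
  (548, 4, [6, 1, 0, 2, 4, 7, 1, 3, 2, 4, 3, 2, 3, 1, 6, 4, 2, 0, 1, 7])]

theorem seedsChk : table.seedsChk seeds = true := by decide +kernel

theorem rotsChk : table.rotsChk (allRots iv (W0 ++ Wsq ++ Wder)) table.nR = true := by decide +kernel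

end Cfsg.Agent.ONTable
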