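import Cfsg.Agent.Lib.ONTable.OrbData

/-!
# A part of the check of the orbits
-/

set_option autoImplicit false
set_option maxHeartbeats 0
set_option maxRecDepth 100000

noncomputable section

namespace Cfsg.Agent.ONTable

open Cfsg.Agent.InvCoset

theorem orb0 : table.orbsChk orbits 0 512 = true := by decide +kernel

theorem cnt0 : orbits.countLab 0 0 512 = 1 ∧ orbits.countLab 1 0 512 = 314 ∧ orbits.countLab 2 0 512 = 47 ∧
    orbits.countLab 3 0 512 = 73 ∧ orbits.countLab 4 0 512 = 77 := by decide +kernel

theorem orb512 : table.orbsChk orbits 512 512 = true := by decide +kernel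

theorem cnt512 : orbits.countLab 0 512 512 = 0 ∧ orbits.countLab 1 512 512 = 237 ∧ orbits.countLab 2 512 512 = 31 ∧
    orbits.countLab 3 512 512 = 133 ∧ orbits.countLab 4 512 512 = 111 := by decide +kernel

theorem orb1024 : table.orbsChk orbits 1024 512 = true := by decide +kernel

theorem cnt1024 : orbits.countLab 0 1024 512 = 0 ∧ orbits.countLab 1 1024 512 = 272 ∧ orbits.countLab 2 1024 512 = 19 ∧
    orbits.countLab 3 1024 512 = 183 ∧ orbits.countLab 4 1024 512 = 38 := by decide +kernel

theorem orb1536 : table.orbsChk orbits 1536 512 = true := by decide +kernel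

theorem cnt1536 : orbits.countLab 0 1536 512 = 0 ∧ orbits.countLab 1 1536 512 = 203 ∧ orbits.countLab 2 1536 512 = 25 ∧
    orbits.countLab 3 1536 512 = 258 ∧ orbits.countLab 4 1536 512 = 26 := by decide +kernel

theorem orb2048 : table.orbsChk orbits 2048 512 = true := by decide +kernel

theorem cnt2048 : orbits.countLab 0 2048 512 = 0 ∧ orbits.countLab 1 2048 512 = 198 ∧ orbits.countLab 2 2048 512 = 65 ∧
    orbits.countLab 3 2048 512 = 211 ∧ orbits.countLab 4 2048 512 = 38 := by decide +kernel

theorem orb2560 : table.orbsChk orbits 2560 512 = true := by decide +kernel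

theorem cnt2560 : orbits.countLab 0 2560 512 = 0 ∧ orbits.countLab 1 2560 512 = 260 ∧ orbits.countLab 2 2560 512 = 24 ∧
    orbits.countLab 3 2560 512 = 164 ∧ orbits.countLab 4 2560 512 = 64 := by decide +kernel

theorem orb3072 : table.orbsChk orbits 3072 512 = true := by decide +kernel

theorem cnt3072 : orbits.countLab 0 3072 512 = 0 ∧ orbits.countLab 1 3072 512 = 227 ∧ orbits.countLab 2 3072 512 = 41 ∧
    orbits.countLab 3 3072 512 = 192 ∧ orbits.countLab 4 3072 512 = 52 := by decide +kernel

theorem orb3584 : table.orbsChk orbits 3584 512 = true := by decide +kernel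

theorem cnt3584 : orbits.countLab 0 3584 512 = 0 ∧ orbits.countLab 1 3584 512 = 347 ∧ orbits.countLab 2 3584 512 = 23 ∧
    orbits.countLab 3 3584 512 = 105 ∧ orbits.countLab 4 3584 512 = 37 := by decide +kernel

theorem orb4096 : table.orbsChk orbits 4096 512 = true := by decide +kernel

theorem cnt4096 : orbits.countLab 0 4096 512 = 0 ∧ orbits.countLab 1 4096 512 = 249 ∧ orbits.countLab 2 4096 512 = 44 ∧
    orbits.countLab 3 4096 512 = 186 ∧ orbits.countLab 4 4096 512 = 33 := by decide +kernel

theorem orb4608 : table.orbsChk orbits 4608 512 = true := by decide +kernel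

theorem cnt4608 : orbits.countLab 0 4608 512 = 0 ∧ orbits.countLab 1 4608 512 = 261 ∧ orbits.countLab 2 4608 512 = 3 ∧
    orbits.countLab 3 4608 512 = 210 ∧ orbits.countLab 4 4608 512 = 38 := by decide +kernel

theorem orb5120 : table.orbsChk orbits 5120 512 = true := by decide +kernel

theorem cnt5120 : orbits.countLab 0 5120 512 = 0 ∧ orbits.countLab 1 5120 512 = 186 ∧ orbits.countLab 2 5120 512 = 16 ∧
    orbits.countLab 3 5120 512 = 245 ∧ orbits.countLab 4 5120 512 = 65 := by decide +kernel

theorem orb5632 : table.orbsChk orbits 5632 512 = true := by decide +kernel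

theorem cnt5632 : orbits.countLab 0 5632 512 = 0 ∧ orbits.countLab 1 5632 512 = 279 ∧ orbits.countLab 2 5632 512 = 16 ∧
    orbits.countLab 3 5632 512 = 196 ∧ orbits.countLab 4 5632 512 = 21 := by decide +kernel

theorem orb6144 : table.orbsChk orbits 6144 512 = true := by decide +kernel

theorem cnt6144 : orbits.countLab 0 6144 512 = 0 ∧ orbits.countLab 1 6144 512 = 201 ∧ orbits.countLab 2 6144 512 = 47 ∧
    orbits.countLab 3 6144 512 = 233 ∧ orbits.countLab 4 6144 512 = 31 := by decide +kernel

theorem orb6656 : table.orbsChk orbits 6656 512 = true := by decide +kernel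

theorem cnt6656 : orbits.countLab 0 6656 512 = 0 ∧ orbits.countLab 1 6656 512 = 221 ∧ orbits.countLab 2 6656 512 = 35 ∧
    orbits.countLab 3 6656 512 = 233 ∧ orbits.countLab 4 6656 512 = 23 := by decide +kernel

theorem orb7168 : table.orbsChk orbits 7168 512 = true := by decide +kernel

theorem cnt7168 : orbits.countLab 0 7168 512 = 0 ∧ orbits.countLab 1 7168 512 = 264 ∧ orbits.countLab 2 7168 512 = 22 ∧
    orbits.countLab 3 7168 512 = 180 ∧ orbits.countLab 4 7168 512 = 46 := by decide +kernel

theorem orb7680 : table.orbsChk orbits 7680 512 = true := by decide +kernel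

theorem cnt7680 : orbits.countLab 0 7680 512 = 0 ∧ orbits.countLab 1 7680 512 = 224 ∧ orbits.countLab 2 7680 512 = 10 ∧
    orbits.countLab 3 7680 512 = 256 ∧ orbits.countLab 4 7680 512 = 22 := by decide +kernel

theorem orb8192 : table.orbsChk orbits 8192 512 = true := by decide +kernel

theorem cnt8192 : orbits.countLab 0 8192 512 = 0 ∧ orbits.countLab 1 8192 512 = 140 ∧ orbits.countLab 2 8192 512 = 0 ∧
    orbits.countLab 3 8192 512 = 335 ∧ orbits.countLab 4 8192 512 = 37 := by decide +kernel

theorem orb8704 : table.orbsChk orbits 8704 512 = true := by decide +kernel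

theorem cnt8704 : orbits.countLab 0 8704 512 = 0 ∧ orbits.countLab 1 8704 512 = 216 ∧ orbits.countLab 2 8704 512 = 32 ∧
    orbits.countLab 3 8704 512 = 190 ∧ orbits.countLab 4 8704 512 = 74 := by decide +kernel

theorem orb9216 : table.orbsChk orbits 9216 512 = true := by decide +kernel

theorem cnt9216 : orbits.countLab 0 9216 512 = 0 ∧ orbits.countLab 1 9216 512 = 281 ∧ orbits.countLab 2 9216 512 = 35 ∧
    orbits.countLab 3 9216 512 = 188 ∧ orbits.countLab 4 9216 512 = 8 := by decide +kernel

theorem orb9728 : table.orbsChk orbits 9728 512 = true := by decide +kernel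

theorem cnt9728 : orbits.countLab 0 9728 512 = 0 ∧ orbits.countLab 1 9728 512 = 172 ∧ orbits.countLab 2 9728 512 = 31 ∧
    orbits.countLab 3 9728 512 = 278 ∧ orbits.countLab 4 9728 512 = 31 := by decide +kernel

theorem orb10240 : table.orbsChk orbits 10240 512 = true := by decide +kernel

theorem cnt10240 : orbits.countLab 0 10240 512 = 0 ∧ orbits.countLab 1 10240 512 = 207 ∧ orbits.countLab 2 10240 512 = 18 ∧
    orbits.countLab 3 10240 512 = 253 ∧ orbits.countLab 4 10240 512 = 34 := by decide +kernel

theorem orb10752 : table.orbsChk orbits 10752 512 = true := by decide +kernel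

theorem cnt10752 : orbits.countLab 0 10752 512 = 0 ∧ orbits.countLab 1 10752 512 = 206 ∧ orbits.countLab 2 10752 512 = 11 ∧
    orbits.countLab 3 10752 512 = 271 ∧ orbits.countLab 4 10752 512 = 24 := by decide +kernel

theorem orb11264 : table.orbsChk orbits 11264 512 = true := by decide +kernel

theorem cnt11264 : orbits.countLab 0 11264 512 = 0 ∧ orbits.countLab 1 11264 512 = 203 ∧ orbits.countLab 2 11264 512 = 17 ∧
    orbits.countLab 3 11264 512 = 264 ∧ orbits.countLab 4 11264 512 = 28 := by decide +kernel

theorem orb11776 : table.orbsChk orbits 11776 512 = true := by decide +kernel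

theorem cnt11776 : orbits.countLab 0 11776 512 = 0 ∧ orbits.countLab 1 11776 512 = 163 ∧ orbits.countLab 2 11776 512 = 34 ∧
    orbits.countLab 3 11776 512 = 278 ∧ orbits.countLab 4 11776 512 = 37 := by decide +kernel

theorem orb12288 : table.orbsChk orbits 12288 512 = true := by decide +kernel

theorem cnt12288 : orbits.countLab 0 12288 512 = 0 ∧ orbits.countLab 1 12288 512 = 230 ∧ orbits.countLab 2 12288 512 = 16 ∧
    orbits.countLab 3 12288 512 = 242 ∧ orbits.countLab 4 12288 512 = 24 := by decide +kernel

theorem orb12800 : table.orbsChk orbits 12800 512 = true := by decide +kernel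

theorem cnt12800 : orbits.countLab 0 12800 512 = 0 ∧ orbits.countLab 1 12800 512 = 194 ∧ orbits.countLab 2 12800 512 = 8 ∧
    orbits.countLab 3 12800 512 = 275 ∧ orbits.countLab 4 12800 512 = 35 := by decide +kernel

theorem orb13312 : table.orbsChk orbits 13312 512 = true := by decide +kernel

theorem cnt13312 : orbits.countLab 0 13312 512 = 0 ∧ orbits.countLab 1 13312 512 = 216 ∧ orbits.countLab 2 13312 512 = 12 ∧
    orbits.countLab 3 13312 512 = 262 ∧ orbits.countLab 4 13312 512 = 22 := by decide +kernel

theorem orb13824 : table.orbsChk orbits 13824 512 = true := by decide +kernel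

theorem cnt13824 : orbits.countLab 0 13824 512 = 0 ∧ orbits.countLab 1 13824 512 = 284 ∧ orbits.countLab 2 13824 512 = 1 ∧
    orbits.countLab 3 13824 512 = 198 ∧ orbits.countLab 4 13824 512 = 29 := by decide +kernel

theorem orb14336 : table.orbsChk orbits 14336 512 = true := by decide +kernel

theorem cnt14336 : orbits.countLab 0 14336 512 = 0 ∧ orbits.countLab 1 14336 512 = 258 ∧ orbits.countLab 2 14336 512 = 26 ∧
    orbits.countLab 3 14336 512 = 204 ∧ orbits.countLab 4 14336 512 = 24 := by decide +kernel

theorem orb14848 : table.orbsChk orbits 14848 512 = true := by decide +kernel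

theorem cnt14848 : orbits.countLab 0 14848 512 = 0 ∧ orbits.countLab 1 14848 512 = 276 ∧ orbits.countLab 2 14848 512 = 11 ∧
    orbits.countLab 3 14848 512 = 187 ∧ orbits.countLab 4 14848 512 = 38 := by decide +kernel

theorem orb15360 : table.orbsChk orbits 15360 512 = true := by decide +kernel

theorem cnt15360 : orbits.countLab 0 15360 512 = 0 ∧ orbits.countLab 1 15360 512 = 176 ∧ orbits.countLab 2 15360 512 = 31 ∧
    orbits.countLab 3 15360 512 = 295 ∧ orbits.countLab 4 15360 512 = 10 := by decide +kernel

theorem orb15872 : table.orbsChk orbits 15872 512 = true := by decide +kernel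

theorem cnt15872 : orbits.countLab 0 15872 512 = 0 ∧ orbits.countLab 1 15872 512 = 213 ∧ orbits.countLab 2 15872 512 = 4 ∧
    orbits.countLab 3 15872 512 = 275 ∧ orbits.countLab 4 15872 512 = 20 := by decide +kernel

theorem orb16384 : table.orbsChk orbits 16384 512 = true := by decide +kernel

theorem cnt16384 : orbits.countLab 0 16384 512 = 0 ∧ orbits.countLab 1 16384 512 = 259 ∧ orbits.countLab 2 16384 512 = 4 ∧
    orbits.countLab 3 16384 512 = 209 ∧ orbits.countLab 4 16384 512 = 40 := by decide +kernel

theorem orb16896 : table.orbsChk orbits 16896 512 = true := by decide +kernel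

theorem cnt16896 : orbits.countLab 0 16896 512 = 0 ∧ orbits.countLab 1 16896 512 = 217 ∧ orbits.countLab 2 16896 512 = 23 ∧
    orbits.countLab 3 16896 512 = 261 ∧ orbits.countLab 4 16896 512 = 11 := by decide +kernel

theorem orb17408 : table.orbsChk orbits 17408 512 = true := by decide +kernel

theorem cnt17408 : orbits.countLab 0 17408 512 = 0 ∧ orbits.countLab 1 17408 512 = 237 ∧ orbits.countLab 2 17408 512 = 12 ∧
    orbits.countLab 3 17408 512 = 225 ∧ orbits.countLab 4 17408 512 = 38 := by decide +kernel

theorem orb17920 : table.orbsChk orbits 17920 512 = true := by decide +kernel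

theorem cnt17920 : orbits.countLab 0 17920 512 = 0 ∧ orbits.countLab 1 17920 512 = 290 ∧ orbits.countLab 2 17920 512 = 0 ∧
    orbits.countLab 3 17920 512 = 189 ∧ orbits.countLab 4 17920 512 = 33 := by decide +kernel

theorem orb18432 : table.orbsChk orbits 18432 512 = true := by decide +kernel

theorem cnt18432 : orbits.countLab 0 18432 512 = 0 ∧ orbits.countLab 1 18432 512 = 258 ∧ orbits.countLab 2 18432 512 = 14 ∧
    orbits.countLab 3 18432 512 = 202 ∧ orbits.countLab 4 18432 512 = 38 := by decide +kernel

theorem orb18944 : table.orbsChk orbits 18944 512 = true := by decide +kernel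

theorem cnt18944 : orbits.countLab 0 18944 512 = 0 ∧ orbits.countLab 1 18944 512 = 188 ∧ orbits.countLab 2 18944 512 = 4 ∧
    orbits.countLab 3 18944 512 = 309 ∧ orbits.countLab 4 18944 512 = 11 := by decide +kernel

theorem orb19456 : table.orbsChk orbits 19456 512 = true := by decide +kernel

theorem cnt19456 : orbits.countLab 0 19456 512 = 0 ∧ orbits.countLab 1 19456 512 = 188 ∧ orbits.countLab 2 19456 512 = 38 ∧
    orbits.countLab 3 19456 512 = 268 ∧ orbits.countLab 4 19456 512 = 18 := by decide +kernel

theorem orb19968 : table.orbsChk orbits 19968 512 = true := by decide +kernel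

theorem cnt19968 : orbits.countLab 0 19968 512 = 0 ∧ orbits.countLab 1 19968 512 = 130 ∧ orbits.countLab 2 19968 512 = 20 ∧
    orbits.countLab 3 19968 512 = 327 ∧ orbits.countLab 4 19968 512 = 35 := by decide +kernel

theorem orb20480 : table.orbsChk orbits 20480 512 = true := by decide +kernel

theorem cnt20480 : orbits.countLab 0 20480 512 = 0 ∧ orbits.countLab 1 20480 512 = 219 ∧ orbits.countLab 2 20480 512 = 15 ∧
    orbits.countLab 3 20480 512 = 227 ∧ orbits.countLab 4 20480 512 = 51 := by decide +kernel

theorem orb20992 : table.orbsChk orbits 20992 512 = true := by decide +kernel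

theorem cnt20992 : orbits.countLab 0 20992 512 = 0 ∧ orbits.countLab 1 20992 512 = 216 ∧ orbits.countLab 2 20992 512 = 15 ∧
    orbits.countLab 3 20992 512 = 251 ∧ orbits.countLab 4 20992 512 = 30 := by decide +kernel

theorem orb21504 : table.orbsChk orbits 21504 512 = true := by decide +kernel

theorem cnt21504 : orbits.countLab 0 21504 512 = 0 ∧ orbits.countLab 1 21504 512 = 193 ∧ orbits.countLab 2 21504 512 = 25 ∧
    orbits.countLab 3 21504 512 = 280 ∧ orbits.countLab 4 21504 512 = 14 := by decide +kernel

theorem orb22016 : table.orbsChk orbits 22016 512 = true := by decide +kernel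

theorem cnt22016 : orbits.countLab 0 22016 512 = 0 ∧ orbits.countLab 1 22016 512 = 201 ∧ orbits.countLab 2 22016 512 = 5 ∧
    orbits.countLab 3 22016 512 = 304 ∧ orbits.countLab 4 22016 512 = 2 := by decide +kernel

theorem orb22528 : table.orbsChk orbits 22528 512 = true := by decide +kernel

theorem cnt22528 : orbits.countLab 0 22528 512 = 0 ∧ orbits.countLab 1 22528 512 = 187 ∧ orbits.countLab 2 22528 512 = 35 ∧
    orbits.countLab 3 22528 512 = 273 ∧ orbits.countLab 4 22528 512 = 17 := by decide +kernel

theorem orb23040 : table.orbsChk orbits 23040 512 = true := by decide +kernel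

theorem cnt23040 : orbits.countLab 0 23040 512 = 0 ∧ orbits.countLab 1 23040 512 = 200 ∧ orbits.countLab 2 23040 512 = 59 ∧
    orbits.countLab 3 23040 512 = 243 ∧ orbits.countLab 4 23040 512 = 10 := by decide +kernel

theorem orb23552 : table.orbsChk orbits 23552 512 = true := by decide +kernel

theorem cnt23552 : orbits.countLab 0 23552 512 = 0 ∧ orbits.countLab 1 23552 512 = 247 ∧ orbits.countLab 2 23552 512 = 29 ∧
    orbits.countLab 3 23552 512 = 224 ∧ orbits.countLab 4 23552 512 = 12 := by decide +kernel

theorem orb24064 : table.orbsChk orbits 24064 512 = true := by decide +kernel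

theorem cnt24064 : orbits.countLab 0 24064 512 = 0 ∧ orbits.countLab 1 24064 512 = 215 ∧ orbits.countLab 2 24064 512 = 11 ∧
    orbits.countLab 3 24064 512 = 263 ∧ orbits.countLab 4 24064 512 = 23 := by decide +kernel

theorem orb24576 : table.orbsChk orbits 24576 512 = true := by decide +kernel

theorem cnt24576 : orbits.countLab 0 24576 512 = 0 ∧ orbits.countLab 1 24576 512 = 158 ∧ orbits.countLab 2 24576 512 = 12 ∧
    orbits.countLab 3 24576 512 = 329 ∧ orbits.countLab 4 24576 512 = 13 := by decide +kernel

theorem orb25088 : table.orbsChk orbits 25088 512 = true := by decide +kernel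

theorem cnt25088 : orbits.countLab 0 25088 512 = 0 ∧ orbits.countLab 1 25088 512 = 179 ∧ orbits.countLab 2 25088 512 = 6 ∧
    orbits.countLab 3 25088 512 = 299 ∧ orbits.countLab 4 25088 512 = 28 := by decide +kernel

theorem orb25600 : table.orbsChk orbits 25600 512 = true := by decide +kernel

theorem cnt25600 : orbits.countLab 0 25600 512 = 0 ∧ orbits.countLab 1 25600 512 = 249 ∧ orbits.countLab 2 25600 512 = 4 ∧
    orbits.countLab 3 25600 512 = 229 ∧ orbits.countLab 4 25600 512 = 30 := by decide +kernel

theorem orb26112 : table.orbsChk orbits 26112 512 = true := by decide +kernel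

theorem cnt26112 : orbits.countLab 0 26112 512 = 0 ∧ orbits.countLab 1 26112 512 = 184 ∧ orbits.countLab 2 26112 512 = 60 ∧
    orbits.countLab 3 26112 512 = 247 ∧ orbits.countLab 4 26112 512 = 21 := by decide +kernel

theorem orb26624 : table.orbsChk orbits 26624 512 = true := by decide +kernel

theorem cnt26624 : orbits.countLab 0 26624 512 = 0 ∧ orbits.countLab 1 26624 512 = 200 ∧ orbits.countLab 2 26624 512 = 36 ∧
    orbits.countLab 3 26624 512 = 249 ∧ orbits.countLab 4 26624 512 = 27 := by decide +kernel

theorem orb27136 : table.orbsChk orbits 27136 512 = true := by decide +kernel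

theorem cnt27136 : orbits.countLab 0 27136 512 = 0 ∧ orbits.countLab 1 27136 512 = 261 ∧ orbits.countLab 2 27136 512 = 46 ∧
    orbits.countLab 3 27136 512 = 200 ∧ orbits.countLab 4 27136 512 = 5 := by decide +kernel

theorem orb27648 : table.orbsChk orbits 27648 512 = true := by decide +kernel

theorem cnt27648 : orbits.countLab 0 27648 512 = 0 ∧ orbits.countLab 1 27648 512 = 188 ∧ orbits.countLab 2 27648 512 = 51 ∧
    orbits.countLab 3 27648 512 = 248 ∧ orbits.countLab 4 27648 512 = 25 := by decide +kernel

theorem orb28160 : table.orbsChk orbits 28160 512 = true := by decide +kernel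

theorem cnt28160 : orbits.countLab 0 28160 512 = 0 ∧ orbits.countLab 1 28160 512 = 216 ∧ orbits.countLab 2 28160 512 = 29 ∧
    orbits.countLab 3 28160 512 = 248 ∧ orbits.countLab 4 28160 512 = 19 := by decide +kernel

theorem orb28672 : table.orbsChk orbits 28672 512 = true := by decide +kernel

theorem cnt28672 : orbits.countLab 0 28672 512 = 0 ∧ orbits.countLab 1 28672 512 = 139 ∧ orbits.countLab 2 28672 512 = 107 ∧
    orbits.countLab 3 28672 512 = 240 ∧ orbits.countLab 4 28672 512 = 26 := by decide +kernel

theorem orb29184 : table.orbsChk orbits 29184 512 = true := by decide +kernel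

theorem cnt29184 : orbits.countLab 0 29184 512 = 0 ∧ orbits.countLab 1 29184 512 = 234 ∧ orbits.countLab 2 29184 512 = 39 ∧
    orbits.countLab 3 29184 512 = 215 ∧ orbits.countLab 4 29184 512 = 24 := by decide +kernel

theorem orb29696 : table.orbsChk orbits 29696 512 = true := by decide +kernel

theorem cnt29696 : orbits.countLab 0 29696 512 = 0 ∧ orbits.countLab 1 29696 512 = 195 ∧ orbits.countLab 2 29696 512 = 58 ∧
    orbits.countLab 3 29696 512 = 248 ∧ orbits.countLab 4 29696 512 = 11 := by decide +kernel

theorem orb30208 : table.orbsChk orbits 30208 482 = true := by decide +kernel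

theorem cnt30208 : orbits.countLab 0 30208 482 = 0 ∧ orbits.countLab 1 30208 482 = 219 ∧ orbits.countLab 2 30208 482 = 35 ∧
    orbits.countLab 3 30208 482 = 200 ∧ orbits.countLab 4 30208 482 = 28 := by decide +kernel

theorem orbUpTo0 (h : ∀ i < 0, table.orbChk orbits i = true) :
    ∀ i < 30690, table.orbChk orbits i = true :=
  orbs_add 30208 482 (orbs_add 29696 512 (orbs_add 29184 512 (orbs_add 28672 512 (orbs_add 28160 512 (orbs_add 27648 512 (orbs_add 27136 512 (orbs_add 26624 512 (orbs_add 26112 512 (orbs_add 25600 512 (orbs_add 25088 512 (orbs_add 24576 512 (orbs_add 24064 512 (orbs_add 23552 512 (orbs_add 23040 512 (orbs_add 22528 512 (orbs_add 22016 512 (orbs_add 21504 512 (orbs_add 20992 512 (orbs_add 20480 512 (orbs_add 19968 512 (orbs_add 19456 512 (orbs_add 18944 512 (orbs_add 18432 512 (orbs_add 17920 512 (orbs_add 17408 512 (orbs_add 16896 512 (orbs_add 16384 512 (orbs_add 15872 512 (orbs_add 15360 512 (orbs_add 14848 512 (orbs_add 14336 512 (orbs_add 13824 512 (orbs_add 13312 512 (orbs_add 12800 512 (orbs_add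 12288 512 (orbs_add 11776 512 (orbs_add 11264 512 (orbs_add 10752 512 (orbs_add 10240 512 (orbs_add 9728 512 (orbs_add 9216 512 (orbs_add 8704 512 (orbs_add 8192 512 (orbs_add 7680 512 (orbs_add 7168 512 (orbs_add 6656 512 (orbs_add 6144 512 (orbs_add 5632 512 (orbs_add 5120 512 (orbs_add 4608 512 (orbs_add 4096 512 (orbs_add 3584 512 (orbs_add 3072 512 (orbs_add 2560 512 (orbs_add 2048 512 (orbs_add 1536 512 (orbs_add 1024 512 (orbs_add 512 512 (orbs_add 0 512 (h) orb0) orb512) orb1024) orb1536) orb2048) orb2560) orb3072) orb3584) orb4096) orb4608) orb5120) orb5632) orb6144) orb6656) orb7168) orb7680) orb8192) orb8704) orb9216) orb9728) orb10240) orb10752) orb11264) orb11776) orb12288) orb12800) orb13312) orb13824) orb14336) orb14848) orb15360) orb15872) orb16384) orb16896) orb17408) orb17920) orb18432) orb18944) orb19456) orb19968) orb20480) orb20992) orb21504) orb22016) orb22528) orb23040) orb23552) orb24064) orb24576) orb25088) orb25600) orb26112) orb26624) orb27136) orb27648) orb28160) orb28672) orb29184) orb29696) orb30208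

theorem count0UpTo0 (h : ((Finset.range 0).filter fun c => orbits.lab c = 0).card = 0) :
    ((Finset.range 30690).filter fun c => orbits.lab c = 0).card = 1 :=
  count_add 30208 482 (count_add 29696 512 (count_add 29184 512 (count_add 28672 512 (count_add 28160 512 (count_add 27648 512 (count_add 27136 512 (count_add 26624 512 (count_add 26112 512 (count_add 25600 512 (count_add 25088 512 (count_add 24576 512 (count_add 24064 512 (count_add 23552 512 (count_add 23040 512 (count_add 22528 512 (count_add 22016 512 (count_add 21504 512 (count_add 20992 512 (count_add 20480 512 (count_add 19968 512 (count_add 19456 512 (count_add 18944 512 (count_add 18432 512 (count_add 17920 512 (count_add 17408 512 (count_add 16896 512 (count_add 16384 512 (count_add 15872 512 (count_add 15360 512 (count_add 14848 512 (count_add 14336 512 (count_add 13824 512 (count_add 13312 512 (count_add 12800 512 (count_add 12288 512 (count_add 11776 512 (count_add 11264 512 (count_add 10752 512 (count_add 10240 512 (count_add 9728 512 (count_add 9216 512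 (count_add 8704 512 (count_add 8192 512 (count_add 7680 512 (count_add 7168 512 (count_add 6656 512 (count_add 6144 512 (count_add 5632 512 (count_add 5120 512 (count_add 4608 512 (count_add 4096 512 (count_add 3584 512 (count_add 3072 512 (count_add 2560 512 (count_add 2048 512 (count_add 1536 512 (count_add 1024 512 (count_add 512 512 (count_add 0 512 (h) cnt0.1) cnt512.1) cnt1024.1) cnt1536.1) cnt2048.1) cnt2560.1) cnt3072.1) cnt3584.1) cnt4096.1) cnt4608.1) cnt5120.1) cnt5632.1) cnt6144.1) cnt6656.1) cnt7168.1) cnt7680.1) cnt8192.1) cnt8704.1) cnt9216.1) cnt9728.1) cnt10240.1) cnt10752.1) cnt11264.1) cnt11776.1) cnt12288.1) cnt12800.1) cnt13312.1) cnt13824.1) cnt14336.1) cnt14848.1) cnt15360.1) cnt15872.1) cnt16384.1) cnt16896.1) cnt17408.1) cnt17920.1) cnt18432.1) cnt18944.1) cnt19456.1) cnt19968.1) cnt20480.1) cnt20992.1) cnt21504.1) cnt22016.1) cnt22528.1) cnt23040.1) cnt23552.1) cnt24064.1) cnt24576.1) cnt25088.1) cnt25600.1) cnt26112.1) cnt26624.1) cnt27136.1) cnt27648.1) cnt28160.1) cnt28672.1) cnt29184.1) cnt29696.1)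 cnt30208.1

theorem count1UpTo0 (h : ((Finset.range 0).filter fun c => orbits.lab c = 1).card = 0) :
    ((Finset.range 30690).filter fun c => orbits.lab c = 1).card = 13245 :=
  count_add 30208 482 (count_add 29696 512 (count_add 29184 512 (count_add 28672 512 (count_add 28160 512 (count_add 27648 512 (count_add 27136 512 (count_add 26624 512 (count_add 26112 512 (count_add 25600 512 (count_add 25088 512 (count_add 24576 512 (count_add 24064 512 (count_add 23552 512 (count_add 23040 512 (count_add 22528 512 (count_add 22016 512 (count_add 21504 512 (count_add 20992 512 (count_add 20480 512 (count_add 19968 512 (count_add 19456 512 (count_add 18944 512 (count_add 18432 512 (count_add 17920 512 (count_add 17408 512 (count_add 16896 512 (count_add 16384 512 (count_add 15872 512 (count_add 15360 512 (count_add 14848 512 (count_add 14336 512 (count_add 13824 512 (count_add 13312 512 (count_add 12800 512 (count_add 12288 512 (count_add 11776 512 (count_add 11264 512 (count_add 10752 512 (count_add 10240 512 (count_add 9728 512 (count_add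 9216 512 (count_add 8704 512 (count_add 8192 512 (count_add 7680 512 (count_add 7168 512 (count_add 6656 512 (count_add 6144 512 (count_add 5632 512 (count_add 5120 512 (count_add 4608 512 (count_add 4096 512 (count_add 3584 512 (count_add 3072 512 (count_add 2560 512 (count_add 2048 512 (count_add 1536 512 (count_add 1024 512 (count_add 512 512 (count_add 0 512 (h) cnt0.2.1) cnt512.2.1) cnt1024.2.1) cnt1536.2.1) cnt2048.2.1) cnt2560.2.1) cnt3072.2.1) cnt3584.2.1) cnt4096.2.1) cnt4608.2.1) cnt5120.2.1) cnt5632.2.1) cnt6144.2.1) cnt6656.2.1) cnt7168.2.1) cnt7680.2.1) cnt8192.2.1) cnt8704.2.1) cnt9216.2.1) cnt9728.2.1) cnt10240.2.1) cnt10752.2.1) cnt11264.2.1) cnt11776.2.1) cnt12288.2.1) cnt12800.2.1) cnt13312.2.1) cnt13824.2.1) cnt14336.2.1) cnt14848.2.1) cnt15360.2.1) cnt15872.2.1) cnt16384.2.1) cnt16896.2.1) cnt17408.2.1) cnt17920.2.1) cnt18432.2.1) cnt18944.2.1) cnt19456.2.1) cnt19968.2.1) cnt20480.2.1) cnt20992.2.1) cnt21504.2.1) cnt22016.2.1) cnt22528.2.1) cnt23040.2.1) cnt23552.2.1) cnt24064.2.1) cnt24576.2.1) cnt25088.2.1)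 cnt25600.2.1) cnt26112.2.1) cnt26624.2.1) cnt27136.2.1) cnt27648.2.1) cnt28160.2.1) cnt28672.2.1) cnt29184.2.1) cnt29696.2.1) cnt30208.2.1

theorem count2UpTo0 (h : ((Finset.range 0).filter fun c => orbits.lab c = 2).card = 0) :
    ((Finset.range 30690).filter fun c => orbits.lab c = 2).card = 1547 :=
  count_add 30208 482 (count_add 29696 512 (count_add 29184 512 (count_add 28672 512 (count_add 28160 512 (count_add 27648 512 (count_add 27136 512 (count_add 26624 512 (count_add 26112 512 (count_add 25600 512 (count_add 25088 512 (count_add 24576 512 (count_add 24064 512 (count_add 23552 512 (count_add 23040 512 (count_add 22528 512 (count_add 22016 512 (count_add 21504 512 (count_add 20992 512 (count_add 20480 512 (count_add 19968 512 (count_add 19456 512 (count_add 18944 512 (count_add 18432 512 (count_add 17920 512 (count_add 17408 512 (count_add 16896 512 (count_add 16384 512 (count_add 15872 512 (count_add 15360 512 (count_add 14848 512 (count_add 14336 512 (count_add 13824 512 (count_add 13312 512 (count_add 12800 512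 (count_add 12288 512 (count_add 11776 512 (count_add 11264 512 (count_add 10752 512 (count_add 10240 512 (count_add 9728 512 (count_add 9216 512 (count_add 8704 512 (count_add 8192 512 (count_add 7680 512 (count_add 7168 512 (count_add 6656 512 (count_add 6144 512 (count_add 5632 512 (count_add 5120 512 (count_add 4608 512 (count_add 4096 512 (count_add 3584 512 (count_add 3072 512 (count_add 2560 512 (count_add 2048 512 (count_add 1536 512 (count_add 1024 512 (count_add 512 512 (count_add 0 512 (h) cnt0.2.2.1) cnt512.2.2.1) cnt1024.2.2.1) cnt1536.2.2.1) cnt2048.2.2.1) cnt2560.2.2.1) cnt3072.2.2.1) cnt3584.2.2.1) cnt4096.2.2.1) cnt4608.2.2.1) cnt5120.2.2.1) cnt5632.2.2.1) cnt6144.2.2.1) cnt6656.2.2.1) cnt7168.2.2.1) cnt7680.2.2.1) cnt8192.2.2.1) cnt8704.2.2.1) cnt9216.2.2.1) cnt9728.2.2.1) cnt10240.2.2.1) cnt10752.2.2.1) cnt11264.2.2.1) cnt11776.2.2.1) cnt12288.2.2.1) cnt12800.2.2.1) cnt13312.2.2.1) cnt13824.2.2.1) cnt14336.2.2.1) cnt14848.2.2.1) cnt15360.2.2.1) cnt15872.2.2.1) cnt16384.2.2.1) cnt16896.2.2.1) cnt17408.2.2.1)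 cnt17920.2.2.1) cnt18432.2.2.1) cnt18944.2.2.1) cnt19456.2.2.1) cnt19968.2.2.1) cnt20480.2.2.1) cnt20992.2.2.1) cnt21504.2.2.1) cnt22016.2.2.1) cnt22528.2.2.1) cnt23040.2.2.1) cnt23552.2.2.1) cnt24064.2.2.1) cnt24576.2.2.1) cnt25088.2.2.1) cnt25600.2.2.1) cnt26112.2.2.1) cnt26624.2.2.1) cnt27136.2.2.1) cnt27648.2.2.1) cnt28160.2.2.1) cnt28672.2.2.1) cnt29184.2.2.1) cnt29696.2.2.1) cnt30208.2.2.1

theorem count3UpTo0 (h : ((Finset.range 0).filter fun c => orbits.lab c = 3).card = 0) :
    ((Finset.range 30690).filter fun c => orbits.lab c = 3).card = 14060 :=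
  count_add 30208 482 (count_add 29696 512 (count_add 29184 512 (count_add 28672 512 (count_add 28160 512 (count_add 27648 512 (count_add 27136 512 (count_add 26624 512 (count_add 26112 512 (count_add 25600 512 (count_add 25088 512 (count_add 24576 512 (count_add 24064 512 (count_add 23552 512 (count_add 23040 512 (count_add 22528 512 (count_add 22016 512 (count_add 21504 512 (count_add 20992 512 (count_add 20480 512 (count_add 19968 512 (count_add 19456 512 (count_add 18944 512 (count_add 18432 512 (count_add 17920 512 (count_add 17408 512 (count_add 16896 512 (count_add 16384 512 (count_add 15872 512 (count_add 15360 512 (count_add 14848 512 (count_add 14336 512 (count_add 13824 512 (count_add 13312 512 (count_add 12800 512 (count_add 12288 512 (count_add 11776 512 (count_add 11264 512 (count_add 10752 512 (count_add 10240 512 (count_add 9728 512 (count_add 9216 512 (count_add 8704 512 (count_add 8192 512 (count_add 7680 512 (count_add 7168 512 (count_add 6656 512 (count_add 6144 512 (count_add 5632 512 (count_add 5120 512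 (count_add 4608 512 (count_add 4096 512 (count_add 3584 512 (count_add 3072 512 (count_add 2560 512 (count_add 2048 512 (count_add 1536 512 (count_add 1024 512 (count_add 512 512 (count_add 0 512 (h) cnt0.2.2.2.1) cnt512.2.2.2.1) cnt1024.2.2.2.1) cnt1536.2.2.2.1) cnt2048.2.2.2.1) cnt2560.2.2.2.1) cnt3072.2.2.2.1) cnt3584.2.2.2.1) cnt4096.2.2.2.1) cnt4608.2.2.2.1) cnt5120.2.2.2.1) cnt5632.2.2.2.1) cnt6144.2.2.2.1) cnt6656.2.2.2.1) cnt7168.2.2.2.1) cnt7680.2.2.2.1) cnt8192.2.2.2.1) cnt8704.2.2.2.1) cnt9216.2.2.2.1) cnt9728.2.2.2.1) cnt10240.2.2.2.1) cnt10752.2.2.2.1) cnt11264.2.2.2.1) cnt11776.2.2.2.1) cnt12288.2.2.2.1) cnt12800.2.2.2.1) cnt13312.2.2.2.1) cnt13824.2.2.2.1) cnt14336.2.2.2.1) cnt14848.2.2.2.1) cnt15360.2.2.2.1) cnt15872.2.2.2.1) cnt16384.2.2.2.1) cnt16896.2.2.2.1) cnt17408.2.2.2.1) cnt17920.2.2.2.1) cnt18432.2.2.2.1) cnt18944.2.2.2.1) cnt19456.2.2.2.1) cnt19968.2.2.2.1) cnt20480.2.2.2.1) cnt20992.2.2.2.1) cnt21504.2.2.2.1) cnt22016.2.2.2.1) cnt22528.2.2.2.1) cnt23040.2.2.2.1) cnt23552.2.2.2.1) cnt24064.2.2.2.1)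 cnt24576.2.2.2.1) cnt25088.2.2.2.1) cnt25600.2.2.2.1) cnt26112.2.2.2.1) cnt26624.2.2.2.1) cnt27136.2.2.2.1) cnt27648.2.2.2.1) cnt28160.2.2.2.1) cnt28672.2.2.2.1) cnt29184.2.2.2.1) cnt29696.2.2.2.1) cnt30208.2.2.2.1

theorem count4UpTo0 (h : ((Finset.range 0).filter fun c => orbits.lab c = 4).card = 0) :
    ((Finset.range 30690).filter fun c => orbits.lab c = 4).card = 1837 :=
  count_add 30208 482 (count_add 29696 512 (count_add 29184 512 (count_add 28672 512 (count_add 28160 512 (count_add 27648 512 (count_add 27136 512 (count_add 26624 512 (count_add 26112 512 (count_add 25600 512 (count_add 25088 512 (count_add 24576 512 (count_add 24064 512 (count_add 23552 512 (count_add 23040 512 (count_add 22528 512 (count_add 22016 512 (count_add 21504 512 (count_add 20992 512 (count_add 20480 512 (count_add 19968 512 (count_add 19456 512 (count_add 18944 512 (count_add 18432 512 (count_add 17920 512 (count_add 17408 512 (count_add 16896 512 (count_add 16384 512 (count_add 15872 512 (count_add 15360 512 (count_add 14848 512 (count_add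 14336 512 (count_add 13824 512 (count_add 13312 512 (count_add 12800 512 (count_add 12288 512 (count_add 11776 512 (count_add 11264 512 (count_add 10752 512 (count_add 10240 512 (count_add 9728 512 (count_add 9216 512 (count_add 8704 512 (count_add 8192 512 (count_add 7680 512 (count_add 7168 512 (count_add 6656 512 (count_add 6144 512 (count_add 5632 512 (count_add 5120 512 (count_add 4608 512 (count_add 4096 512 (count_add 3584 512 (count_add 3072 512 (count_add 2560 512 (count_add 2048 512 (count_add 1536 512 (count_add 1024 512 (count_add 512 512 (count_add 0 512 (h) cnt0.2.2.2.2) cnt512.2.2.2.2) cnt1024.2.2.2.2) cnt1536.2.2.2.2) cnt2048.2.2.2.2) cnt2560.2.2.2.2) cnt3072.2.2.2.2) cnt3584.2.2.2.2) cnt4096.2.2.2.2) cnt4608.2.2.2.2) cnt5120.2.2.2.2) cnt5632.2.2.2.2) cnt6144.2.2.2.2) cnt6656.2.2.2.2) cnt7168.2.2.2.2) cnt7680.2.2.2.2) cnt8192.2.2.2.2) cnt8704.2.2.2.2) cnt9216.2.2.2.2) cnt9728.2.2.2.2) cnt10240.2.2.2.2) cnt10752.2.2.2.2) cnt11264.2.2.2.2) cnt11776.2.2.2.2) cnt12288.2.2.2.2) cnt12800.2.2.2.2) cnt13312.2.2.2.2)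 cnt13824.2.2.2.2) cnt14336.2.2.2.2) cnt14848.2.2.2.2) cnt15360.2.2.2.2) cnt15872.2.2.2.2) cnt16384.2.2.2.2) cnt16896.2.2.2.2) cnt17408.2.2.2.2) cnt17920.2.2.2.2) cnt18432.2.2.2.2) cnt18944.2.2.2.2) cnt19456.2.2.2.2) cnt19968.2.2.2.2) cnt20480.2.2.2.2) cnt20992.2.2.2.2) cnt21504.2.2.2.2) cnt22016.2.2.2.2) cnt22528.2.2.2.2) cnt23040.2.2.2.2) cnt23552.2.2.2.2) cnt24064.2.2.2.2) cnt24576.2.2.2.2) cnt25088.2.2.2.2) cnt25600.2.2.2.2) cnt26112.2.2.2.2) cnt26624.2.2.2.2) cnt27136.2.2.2.2) cnt27648.2.2.2.2) cnt28160.2.2.2.2) cnt28672.2.2.2.2) cnt29184.2.2.2.2) cnt29696.2.2.2.2) cnt30208.2.2.2.2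

end Cfsg.Agent.ONTable
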