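import Cfsg.Agent.Lib.ONTable.Data

/-!
# A part of the check of the table
-/

set_option autoImplicit false
set_option maxHeartbeats 0
set_option maxRecDepth 100000

noncomputable section

namespace Cfsg.Agent.ONTable

open Cfsg.Agent.InvCoset

theorem rels0 : table.relsChk W0 0 256 = true := by decide +kernel

theorem rels256 : table.relsChk W0 256 256 = true := by decide +kernel

theorem rels512 : table.relsChk W0 512 256 = true := by decide +kernel

theorem rels768 : table.relsChk W0 768 256 = true := by decide +kernel

theorem rels1024 : table.relsChk W0 1024 256 = true := by decide +kernel

theorem rels1280 : table.relsChk W0 1280 256 = true := by decide +kernel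

theorem rels1536 : table.relsChk W0 1536 256 = true := by decide +kernel

theorem rels1792 : table.relsChk W0 1792 256 = true := by decide +kernel

theorem rels2048 : table.relsChk W0 2048 256 = true := by decide +kernel

theorem rels2304 : table.relsChk W0 2304 256 = true := by decide +kernel

theorem rels2560 : table.relsChk W0 2560 256 = true := by decide +kernel

theorem rels2816 : table.relsChk W0 2816 256 = true := by decide +kernel

theorem rels3072 : table.relsChk W0 3072 256 = true := by decide +kernel

theorem rels3328 : table.relsChk W0 3328 256 = true := by decide +kernel

theorem rels3584 : table.relsChk W0 3584 256 = true := by decide +kernel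

theorem rels3840 : table.relsChk W0 3840 256 = true := by decide +kernel

theorem rels4096 : table.relsChk W0 4096 256 = true := by decide +kernel

theorem rels4352 : table.relsChk W0 4352 256 = true := by decide +kernel

theorem rels4608 : table.relsChk W0 4608 256 = true := by decide +kernel

theorem rels4864 : table.relsChk W0 4864 256 = true := by decide +kernel

theorem rels5120 : table.relsChk W0 5120 256 = true := by decide +kernel

theorem rels5376 : table.relsChk W0 5376 256 = true := by decide +kernel

theorem rels5632 : table.relsChk W0 5632 256 = true := by decide +kernel

theorem rels5888 : table.relsChk W0 5888 256 = true := by decide +kernel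

theorem rels6144 : table.relsChk W0 6144 256 = true := by decide +kernel

theorem rels6400 : table.relsChk W0 6400 256 = true := by decide +kernel

theorem rels6656 : table.relsChk W0 6656 256 = true := by decide +kernel

theorem rels6912 : table.relsChk W0 6912 256 = true := by decide +kernel

theorem rels7168 : table.relsChk W0 7168 256 = true := by decide +kernel

theorem rels7424 : table.relsChk W0 7424 256 = true := by decide +kernel

theorem rels7680 : table.relsChk W0 7680 256 = true := by decide +kernel

theorem rels7936 : table.relsChk W0 7936 248 = true := by decide +kernel

theorem relsUpTo0 (h : ∀ i < 0, table.fixWords i W0 = true) :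
    ∀ i < 8184, table.fixWords i W0 = true :=
  rels_add 7936 248 (rels_add 7680 256 (rels_add 7424 256 (rels_add 7168 256 (rels_add 6912 256 (rels_add 6656 256 (rels_add 6400 256 (rels_add 6144 256 (rels_add 5888 256 (rels_add 5632 256 (rels_add 5376 256 (rels_add 5120 256 (rels_add 4864 256 (rels_add 4608 256 (rels_add 4352 256 (rels_add 4096 256 (rels_add 3840 256 (rels_add 3584 256 (rels_add 3328 256 (rels_add 3072 256 (rels_add 2816 256 (rels_add 2560 256 (rels_add 2304 256 (rels_add 2048 256 (rels_add 1792 256 (rels_add 1536 256 (rels_add 1280 256 (rels_add 1024 256 (rels_add 768 256 (rels_add 512 256 (rels_add 256 256 (rels_add 0 256 (h) rels0) rels256) rels512) rels768) rels1024) rels1280) rels1536) rels1792) rels2048) rels2304) rels2560) rels2816) rels3072) rels3328) rels3584) rels3840) rels4096) rels4352) rels4608) rels4864) rels5120) rels5376) rels5632) rels5888) rels6144) rels6400) rels6656) rels6912) rels7168) rels7424) rels7680) rels7936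

end Cfsg.Agent.ONTable
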