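import Cfsg.Agent.Lib.ONTable.Data

/-!
# A part of the check of the table
-/

set_option autoImplicit false
set_option maxHeartbeats 0
set_option maxRecDepth 100000

noncomputable section

namespace Cfsg.Agent.ONTable

open Cfsg.Agent.InvCoset

theorem rels98208 : table.relsChk W0 98208 256 = true := by decide +kernel

theorem rels98464 : table.relsChk W0 98464 256 = true := by decide +kernel

theorem rels98720 : table.relsChk W0 98720 256 = true := by decide +kernel

theorem rels98976 : table.relsChk W0 98976 256 = true := by decide +kernel

theorem rels99232 : table.relsChk W0 99232 256 = true := by decide +kernel

theorem rels99488 : table.relsChk W0 99488 256 = true := by decide +kernel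

theorem rels99744 : table.relsChk W0 99744 256 = true := by decide +kernel

theorem rels100000 : table.relsChk W0 100000 256 = true := by decide +kernel

theorem rels100256 : table.relsChk W0 100256 256 = true := by decide +kernel

theorem rels100512 : table.relsChk W0 100512 256 = true := by decide +kernel

theorem rels100768 : table.relsChk W0 100768 256 = true := by decide +kernel

theorem rels101024 : table.relsChk W0 101024 256 = true := by decide +kernel

theorem rels101280 : table.relsChk W0 101280 256 = true := by decide +kernel

theorem rels101536 : table.relsChk W0 101536 256 = true := by decide +kernel

theorem rels101792 : table.relsChk W0 101792 256 = true := by decide +kernel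

theorem rels102048 : table.relsChk W0 102048 256 = true := by decide +kernel

theorem rels102304 : table.relsChk W0 102304 256 = true := by decide +kernel

theorem rels102560 : table.relsChk W0 102560 256 = true := by decide +kernel

theorem rels102816 : table.relsChk W0 102816 256 = true := by decide +kernel

theorem rels103072 : table.relsChk W0 103072 256 = true := by decide +kernel

theorem rels103328 : table.relsChk W0 103328 256 = true := by decide +kernel

theorem rels103584 : table.relsChk W0 103584 256 = true := by decide +kernel

theorem rels103840 : table.relsChk W0 103840 256 = true := by decide +kernel

theorem rels104096 : table.relsChk W0 104096 256 = true := by decide +kernel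

theorem rels104352 : table.relsChk W0 104352 256 = true := by decide +kernel

theorem rels104608 : table.relsChk W0 104608 256 = true := by decide +kernel

theorem rels104864 : table.relsChk W0 104864 256 = true := by decide +kernel

theorem rels105120 : table.relsChk W0 105120 256 = true := by decide +kernel

theorem rels105376 : table.relsChk W0 105376 256 = true := by decide +kernel

theorem rels105632 : table.relsChk W0 105632 256 = true := by decide +kernel

theorem rels105888 : table.relsChk W0 105888 256 = true := by decide +kernel

theorem rels106144 : table.relsChk W0 106144 248 = true := by decide +kernel

theorem relsUpTo12 (h : ∀ i < 98208, table.fixWords i W0 = true) :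
    ∀ i < 106392, table.fixWords i W0 = true :=
  rels_add 106144 248 (rels_add 105888 256 (rels_add 105632 256 (rels_add 105376 256 (rels_add 105120 256 (rels_add 104864 256 (rels_add 104608 256 (rels_add 104352 256 (rels_add 104096 256 (rels_add 103840 256 (rels_add 103584 256 (rels_add 103328 256 (rels_add 103072 256 (rels_add 102816 256 (rels_add 102560 256 (rels_add 102304 256 (rels_add 102048 256 (rels_add 101792 256 (rels_add 101536 256 (rels_add 101280 256 (rels_add 101024 256 (rels_add 100768 256 (rels_add 100512 256 (rels_add 100256 256 (rels_add 100000 256 (rels_add 99744 256 (rels_add 99488 256 (rels_add 99232 256 (rels_add 98976 256 (rels_add 98720 256 (rels_add 98464 256 (rels_add 98208 256 (h) rels98208) rels98464) rels98720) rels98976) rels99232) rels99488) rels99744) rels100000) rels100256) rels100512) rels100768) rels101024) rels101280) rels101536) rels101792) rels102048) rels102304) rels102560) rels102816) rels103072) rels103328) rels103584) rels103840) rels104096) rels104352) rels104608) rels104864) rels105120) rels105376) rels105632) rels105888) rels106144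

end Cfsg.Agent.ONTable
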