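import Cfsg.Agent.Lib.ONTable.Data

/-!
# A part of the check of the table
-/

set_option autoImplicit false
set_option maxHeartbeats 0
set_option maxRecDepth 100000

noncomputable section

namespace Cfsg.Agent.ONTable

open Cfsg.Agent.InvCoset

theorem rows0 : table.rowsChk seeds 0 512 = true := by decide +kernel

theorem rows512 : table.rowsChk seeds 512 512 = true := by decide +kernel

theorem rows1024 : table.rowsChk seeds 1024 512 = true := by decide +kernel

theorem rows1536 : table.rowsChk seeds 1536 512 = true := by decide +kernel

theorem rows2048 : table.rowsChk seeds 2048 512 = true := by decide +kernel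

theorem rows2560 : table.rowsChk seeds 2560 512 = true := by decide +kernel

theorem rows3072 : table.rowsChk seeds 3072 512 = true := by decide +kernel

theorem rows3584 : table.rowsChk seeds 3584 512 = true := by decide +kernel

theorem rows4096 : table.rowsChk seeds 4096 512 = true := by decide +kernel

theorem rows4608 : table.rowsChk seeds 4608 512 = true := by decide +kernel

theorem rows5120 : table.rowsChk seeds 5120 512 = true := by decide +kernel

theorem rows5632 : table.rowsChk seeds 5632 512 = true := by decide +kernel

theorem rows6144 : table.rowsChk seeds 6144 512 = true := by decide +kernel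

theorem rows6656 : table.rowsChk seeds 6656 512 = true := by decide +kernel

theorem rows7168 : table.rowsChk seeds 7168 512 = true := by decide +kernel

theorem rows7680 : table.rowsChk seeds 7680 504 = true := by decide +kernel

theorem rowsUpTo0 (h : ∀ i < 0, (table.nodeChk i && table.cellsChk seeds i table.K) = true) :
    ∀ i < 8184, (table.nodeChk i && table.cellsChk seeds i table.K) = true :=
  rows_add 7680 504 (rows_add 7168 512 (rows_add 6656 512 (rows_add 6144 512 (rows_add 5632 512 (rows_add 5120 512 (rows_add 4608 512 (rows_add 4096 512 (rows_add 3584 512 (rows_add 3072 512 (rows_add 2560 512 (rows_add 2048 512 (rows_add 1536 512 (rows_add 1024 512 (rows_add 512 512 (rows_add 0 512 (h) rows0) rows512) rows1024) rows1536) rows2048) rows2560) rows3072) rows3584) rows4096) rows4608) rows5120) rows5632) rows6144) rows6656) rows7168) rows7680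

end Cfsg.Agent.ONTable
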