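import Cfsg.Agent.Lib.ONTable.Data

/-!
# A part of the check of the table
-/

set_option autoImplicit false
set_option maxHeartbeats 0
set_option maxRecDepth 100000

noncomputable section

namespace Cfsg.Agent.ONTable

open Cfsg.Agent.InvCoset

theorem rows98208 : table.rowsChk seeds 98208 512 = true := by decide +kernel

theorem rows98720 : table.rowsChk seeds 98720 512 = true := by decide +kernel

theorem rows99232 : table.rowsChk seeds 99232 512 = true := by decide +kernel

theorem rows99744 : table.rowsChk seeds 99744 512 = true := by decide +kernel

theorem rows100256 : table.rowsChk seeds 100256 512 = true := by decide +kernel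

theorem rows100768 : table.rowsChk seeds 100768 512 = true := by decide +kernel

theorem rows101280 : table.rowsChk seeds 101280 512 = true := by decide +kernel

theorem rows101792 : table.rowsChk seeds 101792 512 = true := by decide +kernel

theorem rows102304 : table.rowsChk seeds 102304 512 = true := by decide +kernel

theorem rows102816 : table.rowsChk seeds 102816 512 = true := by decide +kernel

theorem rows103328 : table.rowsChk seeds 103328 512 = true := by decide +kernel

theorem rows103840 : table.rowsChk seeds 103840 512 = true := by decide +kernel

theorem rows104352 : table.rowsChk seeds 104352 512 = true := by decide +kernel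

theorem rows104864 : table.rowsChk seeds 104864 512 = true := by decide +kernel

theorem rows105376 : table.rowsChk seeds 105376 512 = true := by decide +kernel

theorem rows105888 : table.rowsChk seeds 105888 504 = true := by decide +kernel

theorem rowsUpTo12 (h : ∀ i < 98208, (table.nodeChk i && table.cellsChk seeds i table.K) = true) :
    ∀ i < 106392, (table.nodeChk i && table.cellsChk seeds i table.K) = true :=
  rows_add 105888 504 (rows_add 105376 512 (rows_add 104864 512 (rows_add 104352 512 (rows_add 103840 512 (rows_add 103328 512 (rows_add 102816 512 (rows_add 102304 512 (rows_add 101792 512 (rows_add 101280 512 (rows_add 100768 512 (rows_add 100256 512 (rows_add 99744 512 (rows_add 99232 512 (rows_add 98720 512 (rows_add 98208 512 (h) rows98208) rows98720) rows99232) rows99744) rows100256) rows100768) rows101280) rows101792) rows102304) rows102816) rows103328) rows103840) rows104352) rows104864) rows105376) rows105888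

end Cfsg.Agent.ONTable
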